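import Mathlib.Data.ZMod.Basic
import Mathlib.Algebra.Module.ZMod
import Mathlib.Algebra.Field.ZMod
import Mathlib.LinearAlgebra.Pi
import Mathlib.Tactic.Abel

namespace CfsgLib.AffineTriples

theorem affine_of_triples {p : ℕ} [Fact p.Prime] (hp : p ≠ 2) {ι : Type*} (σ : Equiv.Perm (ι → ZMod p))
    (h : ∀ t : Fin 3 → (ι → ZMod p), ∃ (A : (ι → ZMod p) ≃ₗ[ZMod p] (ι → ZMod p)) (b : ι → ZMod p),
      ∀ i, σ (t i) = A (t i) + b) :
    ∃ (A : (ι → ZMod p) ≃ₗ[ZMod p] (ι → ZMod p)) (b : ι → ZMod p), ∀ x, σ x = A x + b := by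
  have h2 : (2 : ZMod p) ≠ 0 := by
    intro h0
    exact hp ((Nat.prime_dvd_prime_iff_eq Fact.out Nat.prime_two).1
      ((ZMod.natCast_eq_zero_iff 2 p).1 (by exact_mod_cast h0)))
  have hmid : ∀ x y, (2 : ZMod p) • σ ((2 : ZMod p)⁻¹ • (x + y)) = σ x + σ y := by
    intro x y
    obtain ⟨A, b, hA⟩ := h ![x, y, (2 : ZMod p)⁻¹ • (x + y)]
    have e0 := hA 0
    have e1 := hA 1
    have e2 := hA 2
    simp at e0 e1 e2
    rw [smul_add, e2, e0, e1]
    simp only [smul_add, smul_smul, mul_inv_cancel₀ h2, one_smul, two_smul]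
    abel
  have hadd : ∀ x y, σ (x + y) - σ 0 = (σ x - σ 0) + (σ y - σ 0) := by
    intro x y
    have a := hmid x y
    have b := hmid (x + y) 0
    rw [add_zero] at b
    have : σ (x + y) + σ 0 = σ x + σ y := b.symm.trans a
    rw [eq_sub_of_add_eq this]
    abel
  let f : (ι → ZMod p) →+ (ι → ZMod p) := AddMonoidHom.mk' (fun x => σ x - σ 0) hadd
  have hf : Function.Bijective (f.toZModLinearMap p) :=
    ⟨fun x y e => σ.injective (sub_left_injective (b := σ 0) e), fun y => ⟨σ.symm (y + σ 0), by simp [f]⟩⟩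
  exact ⟨LinearEquiv.ofBijective _ hf, σ 0, fun x => by simp [f]⟩

end CfsgLib.AffineTriples
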