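import Mathlib
import Cfsg.Prelude.Def_LieExceptional

/-!
Bruhat decomposition, injectivity of double cosets and the exchange condition for abstract
(B,N)-pairs.
-/

namespace CfsgLib.Base.BN

open Cfsg

universe u
variable {G : Type u} [Group G] (P : Cfsg.BNPair G)

theorem T_normal : ((P.B ⊓ P.N).subgroupOf P.N).Normal := by
  constructor
  intro t ht n
  rw [Subgroup.mem_subgroupOf] at ht ⊢
  refine ⟨?_, (n * t * n⁻¹).2⟩
  simpa using P.conj_mem n n.2 t ht

/-- `B ∩ N` inside `N`. -/
abbrev T : Subgroup P.N := (P.B ⊓ P.N).subgroupOf P.N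

instance bnT_normal : (T P).Normal := T_normal P

/-- The Weyl group. -/
abbrev Weyl : Type u := P.N ⧸ T P

abbrev π (n : P.N) : Weyl P := QuotientGroup.mk n

/-- image of a distinguished representative -/
def gen (s : P.S) : Weyl P := π P ⟨(s : G), P.subset s.2⟩

theorem mem_T {n : P.N} : n ∈ T P ↔ (n : G) ∈ P.B := by
  simp [T, Subgroup.mem_subgroupOf]

theorem π_eq {m n : P.N} : π P m = π P n ↔ (m : G)⁻¹ * n ∈ P.B := by
  rw [π, π, QuotientGroup.eq, mem_T]; simp

theorem π_eq_one {n : P.N} : π P n = 1 ↔ (n : G) ∈ P.B := by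
  rw [π, QuotientGroup.eq_one_iff, mem_T]

/-- The double coset attached to a Weyl group element. -/
def C : Weyl P → Set G :=
  Quotient.lift (fun n : P.N => DoubleCoset.doubleCoset (n : G) (P.B : Set G) P.B) (by
    intro m n h
    have h' : (m : G)⁻¹ * n ∈ P.B := (π_eq P).1 (Quotient.sound h)
    exact (DoubleCoset.doubleCoset_eq_of_mem (DoubleCoset.mem_doubleCoset.2
      ⟨1, one_mem _, (m : G)⁻¹ * n, h', by group⟩)).symm)

theorem mem_C {n : P.N} {x : G} :
    x ∈ C P (π P n) ↔ ∃ b ∈ P.B, ∃ c ∈ P.B, x = b * n * c := DoubleCoset.mem_doubleCoset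

theorem C_π (n : P.N) : C P (π P n) = DoubleCoset.doubleCoset (n : G) (P.B : Set G) P.B := rfl

theorem self_mem_C (n : P.N) : (n : G) ∈ C P (π P n) := DoubleCoset.mem_doubleCoset_self _ _ _

theorem self_mem_C_gen (s : P.S) : (s : G) ∈ C P (gen P s) := self_mem_C P _

theorem C_mul_left {w : Weyl P} {x b : G} (hb : b ∈ P.B) (hx : x ∈ C P w) : b * x ∈ C P w := by
  induction w using QuotientGroup.induction_on with
  | _ n =>
    obtain ⟨b', hb', c, hc, rfl⟩ := (mem_C P).1 hx
    exact (mem_C P).2 ⟨b * b', mul_mem hb hb', c, hc, by group⟩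

theorem C_mul_right {w : Weyl P} {x b : G} (hx : x ∈ C P w) (hb : b ∈ P.B) : x * b ∈ C P w := by
  induction w using QuotientGroup.induction_on with
  | _ n =>
    obtain ⟨b', hb', c, hc, rfl⟩ := (mem_C P).1 hx
    exact (mem_C P).2 ⟨b', hb', c * b, mul_mem hc hb, by group⟩

theorem C_one {x : G} : x ∈ C P 1 ↔ x ∈ P.B := by
  constructor
  · intro hx
    obtain ⟨b, hb, c, hc, rfl⟩ := (mem_C P (n := 1)).1 hx
    simpa using mul_mem hb hc
  · intro hx
    exact (mem_C P (n := 1)).2 ⟨x, hx, 1, one_mem _, by simp⟩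

theorem C_inv {w : Weyl P} {x : G} (hx : x ∈ C P w) : x⁻¹ ∈ C P w⁻¹ := by
  induction w using QuotientGroup.induction_on with
  | _ n =>
    obtain ⟨b', hb', c, hc, rfl⟩ := (mem_C P).1 hx
    exact (mem_C P (n := n⁻¹)).2 ⟨c⁻¹, inv_mem hc, b'⁻¹, inv_mem hb', by simp [mul_assoc]⟩

theorem C_eq_of_mem {u v : Weyl P} {x : G} (hu : x ∈ C P u) (hv : x ∈ C P v) :
    C P u = C P v := by
  induction u using QuotientGroup.induction_on with
  | _ m =>
    induction v using QuotientGroup.induction_on with
    | _ n =>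
      exact (DoubleCoset.doubleCoset_eq_of_mem hu).symm.trans (DoubleCoset.doubleCoset_eq_of_mem hv)

theorem gen_mul_self (s : P.S) : gen P s * gen P s = 1 :=
  (π_eq_one P).2 (P.sq_mem s s.2)

theorem gen_inv (s : P.S) : (gen P s)⁻¹ = gen P s := inv_eq_of_mul_eq_one_right (gen_mul_self P s)

theorem gen_mul_cancel (s : P.S) (w : Weyl P) : gen P s * (gen P s * w) = w := by
  rw [← mul_assoc, gen_mul_self, one_mul]

theorem gen_not_mem_B (s : P.S) : (s : G) ∉ P.B := by
  intro h
  apply P.conj_ne s s.2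
  ext x
  constructor
  · rintro ⟨b, hb, rfl⟩
    exact mul_mem (mul_mem h hb) h
  · intro hx
    exact ⟨(s : G)⁻¹ * x * (s : G)⁻¹, mul_mem (mul_mem (inv_mem h) hx) (inv_mem h), by group⟩

theorem gen_ne_one (s : P.S) : gen P s ≠ 1 := fun h => gen_not_mem_B P s ((π_eq_one P).1 h)

theorem gen_injective : Function.Injective (gen P) := fun s t h =>
  Subtype.ext (P.inj s s.2 t t.2 ((π_eq P).1 h))

theorem C_mul (s : P.S) {w : Weyl P} {x y : G} (hx : x ∈ C P (gen P s)) (hy : y ∈ C P w) :
    x * y ∈ C P (gen P s * w) ∨ x * y ∈ C P w := by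
  induction w using QuotientGroup.induction_on with
  | _ n =>
    obtain ⟨b, hb, c, hc, rfl⟩ := (mem_C P).1 hx
    obtain ⟨d, hd, e, he, rfl⟩ := (mem_C P).1 hy
    have e1 : b * (s : G) * c * (d * n * e) = b * ((s : G) * (c * d) * n) * e := by group
    simp only [e1]
    rcases P.mul_mem_union s s.2 n n.2 (c * d) (mul_mem hc hd) with h | h
    · exact Or.inl (C_mul_right P (C_mul_left P hb h) he)
    · exact Or.inr (C_mul_right P (C_mul_left P hb h) he)

theorem C_mul' (s : P.S) {w : Weyl P} {x y : G} (hy : y ∈ C P w) (hx : x ∈ C P (gen P s)) :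
    y * x ∈ C P (w * gen P s) ∨ y * x ∈ C P w := by
  have hx' : x⁻¹ ∈ C P (gen P s) := gen_inv P s ▸ C_inv P hx
  rcases C_mul P s hx' (C_inv P hy) with h | h
  · left; simpa [mul_inv_rev, gen_inv] using C_inv P h
  · right; simpa [mul_inv_rev] using C_inv P h

/-- word product -/
def wp (l : List P.S) : Weyl P := (l.map (gen P)).prod

@[simp] theorem wp_nil : wp P [] = 1 := rfl
@[simp] theorem wp_cons (s : P.S) (l : List P.S) : wp P (s :: l) = gen P s * wp P l := by simp [wp]
@[simp] theorem wp_append (l l' : List P.S) : wp P (l ++ l') = wp P l * wp P l' := by simp [wp]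
theorem wp_single (s : P.S) : wp P [s] = gen P s := by simp

theorem wp_reverse (l : List P.S) : wp P l.reverse = (wp P l)⁻¹ := by
  induction l with
  | nil => simp
  | cons a l ih => simp [ih, gen_inv]

theorem exists_word (w : Weyl P) : ∃ l : List P.S, wp P l = w := by
  induction w using QuotientGroup.induction_on with
  | _ n =>
    have hcl : (n : G) ∈ Subgroup.closure (P.S ∪ ((P.B ⊓ P.N : Subgroup G) : Set G)) := by
      rw [Subgroup.closure_union, Subgroup.closure_eq, P.closure_sup]; exact n.2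
    suffices ∀ x, x ∈ Subgroup.closure (P.S ∪ ((P.B ⊓ P.N : Subgroup G) : Set G)) →
        ∀ hx : x ∈ P.N, ∃ l : List P.S, wp P l = π P ⟨x, hx⟩ from this n hcl n.2
    have hle : Subgroup.closure (P.S ∪ ((P.B ⊓ P.N : Subgroup G) : Set G)) ≤ P.N := by
      rw [Subgroup.closure_le]
      exact Set.union_subset P.subset (fun x hx => hx.2)
    intro x hx
    induction hx using Subgroup.closure_induction with
    | mem y hy =>
      intro hyN
      rcases hy with hy | hy
      · exact ⟨[⟨y, hy⟩], by simp [gen]⟩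
      · exact ⟨[], ((π_eq_one P (n := ⟨y, hyN⟩)).2 hy.1).symm⟩
    | one => intro _; exact ⟨[], rfl⟩
    | mul y z hy hz ihy ihz =>
      intro _
      obtain ⟨l, hl⟩ := ihy (hle hy)
      obtain ⟨l', hl'⟩ := ihz (hle hz)
      exact ⟨l ++ l', by rw [wp_append, hl, hl']; rfl⟩
    | inv y hy ih =>
      intro _
      obtain ⟨l, hl⟩ := ih (hle hy)
      exact ⟨l.reverse, by rw [wp_reverse, hl]; rfl⟩

theorem exists_len (w : Weyl P) : ∃ k, ∃ l : List P.S, wp P l = w ∧ l.length = k :=
  (exists_word P w).elim fun l hl => ⟨l.length, l, hl, rfl⟩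

open Classical in
/-- length -/
noncomputable def len (w : Weyl P) : ℕ := Nat.find (exists_len P w)

theorem exists_reduced (w : Weyl P) : ∃ l : List P.S, wp P l = w ∧ l.length = len P w := by
  classical exact Nat.find_spec (exists_len P w)

theorem len_le (l : List P.S) : len P (wp P l) ≤ l.length := by
  classical exact Nat.find_min' (exists_len P _) ⟨l, rfl, rfl⟩

theorem len_eq_zero {w : Weyl P} (h : len P w = 0) : w = 1 := by
  obtain ⟨l, hl, hk⟩ := exists_reduced P w
  rw [h, List.length_eq_zero_iff] at hk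
  rw [← hl, hk, wp_nil]

theorem len_gen_mul_le (s : P.S) (w : Weyl P) : len P (gen P s * w) ≤ len P w + 1 := by
  obtain ⟨l, hl, hk⟩ := exists_reduced P w
  have h := len_le P (s :: l)
  rw [wp_cons, hl, List.length_cons, hk] at h
  exact h

theorem len_le_len_gen_mul (s : P.S) (w : Weyl P) : len P w ≤ len P (gen P s * w) + 1 := by
  simpa [gen_mul_cancel] using len_gen_mul_le P s (gen P s * w)

theorem C_injective : Function.Injective (C P) := by
  suffices ∀ k (u v : Weyl P), len P u = k → k ≤ len P v → C P u = C P v → u = v by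
    intro u v h
    rcases le_total (len P u) (len P v) with h' | h'
    · exact this _ u v rfl h' h
    · exact (this _ v u rfl h' h.symm).symm
  intro k
  induction k using Nat.strong_induction_on with
  | _ k ih =>
    intro u v hu hv h
    obtain ⟨l, hl, hlk⟩ := exists_reduced P u
    cases l with
    | nil =>
      simp only [wp_nil] at hl
      subst hl
      induction v using QuotientGroup.induction_on with
      | _ n =>
        have : (n : G) ∈ C P 1 := h ▸ self_mem_C P n
        exact ((π_eq_one P).2 ((C_one P).1 this)).symm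
    | cons s l' =>
      rw [wp_cons] at hl
      set u0 := wp P l' with hu0
      have h0 : len P u0 < k := by
        have := len_le P l'
        rw [List.length_cons, hu] at hlk
        rw [hu0]; omega
      obtain ⟨n0, hn0⟩ := QuotientGroup.mk_surjective u0
      have hm : (s : G) * n0 ∈ C P v := by
        rw [← h, ← hl, ← hn0]
        exact self_mem_C P (⟨(s : G), P.subset s.2⟩ * n0)
      have hsi : (s : G)⁻¹ ∈ C P (gen P s) := gen_inv P s ▸ C_inv P (self_mem_C_gen P s)
      have hn0' : (n0 : G) ∈ C P u0 := hn0 ▸ self_mem_C P n0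
      have key := C_mul P s hsi hm
      rw [inv_mul_cancel_left] at key
      rcases key with key | key
      · have := ih _ h0 u0 (gen P s * v) rfl (by
          have := len_le_len_gen_mul P s v; omega) (C_eq_of_mem P hn0' key)
        rw [← hl, this, gen_mul_cancel]
      · exfalso
        have := ih _ h0 u0 v rfl (by omega) (C_eq_of_mem P hn0' key)
        rw [this] at h0; omega

theorem eq_of_mem {u v : Weyl P} {x : G} (hu : x ∈ C P u) (hv : x ∈ C P v) : u = v :=
  C_injective P (C_eq_of_mem P hu hv)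

theorem C_nonempty (w : Weyl P) : ∃ x, x ∈ C P w := by
  induction w using QuotientGroup.induction_on with
  | _ n => exact ⟨n, self_mem_C P n⟩

theorem gen_mul_gen_meets (s : P.S) :
    ∃ x ∈ C P (gen P s), ∃ y ∈ C P (gen P s), x * y ∈ C P (gen P s) := by
  by_contra hc
  push Not at hc
  apply P.conj_ne s s.2
  have hsB : ∀ b ∈ P.B, (s : G) * b * s ∈ P.B := by
    intro b hb
    have h1 := C_mul_right P (self_mem_C_gen P s) hb
    rcases C_mul P s h1 (self_mem_C_gen P s) with h | h
    · rw [gen_mul_self] at h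
      exact (C_one P).1 h
    · exact absurd h (hc _ h1 _ (self_mem_C_gen P s))
  ext x
  constructor
  · rintro ⟨b, hb, rfl⟩
    exact hsB b hb
  · intro hx
    refine ⟨(s : G)⁻¹ * x * (s : G)⁻¹, ?_, by group⟩
    have hss : (s : G) * s ∈ P.B := P.sq_mem s s.2
    have e : (s : G)⁻¹ * x * (s : G)⁻¹ =
        ((s : G) * s)⁻¹ * ((s : G) * x * s) * ((s : G) * s)⁻¹ := by group
    rw [e]
    exact mul_mem (mul_mem (inv_mem hss) (hsB x hx)) (inv_mem hss)

/-- `C s * C w = C (s w)` -/
def Asc (s : P.S) (w : Weyl P) : Prop :=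
  ∀ x ∈ C P (gen P s), ∀ y ∈ C P w, x * y ∈ C P (gen P s * w)

theorem asc_one (s : P.S) : Asc P s 1 := fun x hx y hy => by
  rw [mul_one]; exact C_mul_right P hx ((C_one P).1 hy)

theorem not_asc_gen_mul {s : P.S} {w : Weyl P} (h : Asc P s w) : ¬ Asc P s (gen P s * w) := by
  intro h'
  obtain ⟨x, hx, y, hy, hxy⟩ := gen_mul_gen_meets P s
  obtain ⟨z, hz⟩ := C_nonempty P w
  have h1 : x * y * z ∈ C P (gen P s * w) := h _ hxy _ hz
  have h2 : x * (y * z) ∈ C P (gen P s * (gen P s * w)) := h' _ hx _ (h _ hy _ hz)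
  rw [gen_mul_cancel, ← mul_assoc] at h2
  have h3 := eq_of_mem P h1 h2
  exact gen_ne_one P s (mul_eq_right.1 h3)

theorem gen_mul_eq_mul_gen {s t : P.S} {w : Weyl P} (h : Asc P s w)
    (h' : ¬ Asc P s (w * gen P t)) : gen P s * w = w * gen P t := by
  simp only [Asc, not_forall] at h'
  obtain ⟨x, hx, y, hy, hxy⟩ := h'
  have hxy' := (C_mul P s hx hy).resolve_left hxy
  obtain ⟨n, hn⟩ := QuotientGroup.mk_surjective w
  -- split `y` as an element of `C w` times one of `C t`
  have hrep : ∃ y1 ∈ C P w, ∃ y2 ∈ C P (gen P t), y = y1 * y2 := by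
    have e : w * gen P t = π P (n * ⟨(t : G), P.subset t.2⟩) := by rw [← hn]; rfl
    rw [e] at hy
    obtain ⟨b, hb, c, hc, rfl⟩ := (mem_C P).1 hy
    refine ⟨b * n, hn ▸ C_mul_left P hb (self_mem_C P n), (t : G) * c,
      C_mul_right P (self_mem_C_gen P t) hc, by simp [mul_assoc]⟩
  obtain ⟨y1, hy1, y2, hy2, rfl⟩ := hrep
  have h1 : x * y1 ∈ C P (gen P s * w) := h _ hx _ hy1
  rcases C_mul' P t h1 hy2 with h2 | h2
  · rw [← mul_assoc] at hxy'
    have := eq_of_mem P h2 hxy'
    rw [mul_assoc] at this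
    exact absurd (mul_eq_right.1 this) (gen_ne_one P s)
  · rw [← mul_assoc] at hxy'
    exact eq_of_mem P h2 hxy'

/-- The exchange condition. -/
theorem exchange (s : P.S) : ∀ l : List P.S, ¬ Asc P s (wp P l) →
    ∃ i < l.length, gen P s * wp P l = wp P (l.eraseIdx i) := by
  intro l
  induction l using List.reverseRecOn with
  | nil => intro h; exact absurd (asc_one P s) (by simpa using h)
  | append_singleton l t ih =>
    intro h
    by_cases hl : Asc P s (wp P l)
    · refine ⟨l.length, by simp, ?_⟩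
      have e := gen_mul_eq_mul_gen P hl (by simpa using h)
      rw [List.eraseIdx_append_of_length_le le_rfl]
      simp only [Nat.sub_self, List.eraseIdx_cons_zero, List.append_nil, wp_append, wp_single]
      rw [← mul_assoc, e, mul_assoc, gen_mul_self, mul_one]
    · obtain ⟨i, hi, e⟩ := ih hl
      refine ⟨i, by simp; omega, ?_⟩
      rw [List.eraseIdx_append_of_lt_length hi, wp_append, wp_append, ← mul_assoc, e]

theorem len_lt_of_not_asc {s : P.S} {w : Weyl P} (h : ¬ Asc P s w) :
    len P (gen P s * w) < len P w := by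
  obtain ⟨l, rfl, hl⟩ := exists_reduced P w
  obtain ⟨i, hi, e⟩ := exchange P s l h
  rw [e]
  have := len_le P (l.eraseIdx i)
  rw [List.length_eraseIdx_of_lt hi] at this
  omega

theorem asc_iff {s : P.S} {w : Weyl P} : Asc P s w ↔ len P w < len P (gen P s * w) := by
  constructor
  · intro h
    simpa [gen_mul_cancel] using len_lt_of_not_asc P (not_asc_gen_mul P h)
  · intro h
    by_contra hc
    have := len_lt_of_not_asc P hc
    omega

theorem len_asc {s : P.S} {w : Weyl P} (h : Asc P s w) :
    len P (gen P s * w) = len P w + 1 := by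
  have := (asc_iff P).1 h
  have := len_gen_mul_le P s w
  omega

theorem meets_of_not_asc {s : P.S} {w : Weyl P} (h : ¬ Asc P s w) :
    ∃ x ∈ C P (gen P s), ∃ y ∈ C P w, x * y ∈ C P w := by
  simp only [Asc, not_forall] at h
  obtain ⟨x, hx, y, hy, hxy⟩ := h
  exact ⟨x, hx, y, hy, (C_mul P s hx hy).resolve_left hxy⟩

theorem not_asc_head {s : P.S} {l : List P.S} (h : len P (wp P (s :: l)) = l.length + 1) :
    ¬ Asc P s (wp P (s :: l)) := by
  intro ha
  have h1 := len_asc P ha
  rw [wp_cons, gen_mul_cancel] at h1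
  have := len_le P l
  rw [← wp_cons, h] at h1
  omega

/-- Every element is in some double coset. -/
theorem mem_closure_iff_word (J : Set G) (hJ : J ⊆ P.S) (x : G) :
    x ∈ Subgroup.closure ((P.B : Set G) ∪ J) ↔
      ∃ l : List P.S, (∀ s ∈ l, (s : G) ∈ J) ∧ x ∈ C P (wp P l) := by
  constructor
  · intro hx
    induction hx using Subgroup.closure_induction_left with
    | one => exact ⟨[], by simp, (C_one P).2 (one_mem _)⟩
    | mul_left y hy z hz ih =>
      obtain ⟨l, hlJ, hl⟩ := ih
      rcases hy with hy | hy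
      · exact ⟨l, hlJ, C_mul_left P hy hl⟩
      · rcases C_mul P ⟨y, hJ hy⟩ (self_mem_C_gen P ⟨y, hJ hy⟩) hl with h | h
        · exact ⟨⟨y, hJ hy⟩ :: l, by simp [hy]; exact fun a ha h => hlJ ⟨a, ha⟩ h, by simpa using h⟩
        · exact ⟨l, hlJ, h⟩
    | inv_mul_cancel y hy z hz ih =>
      obtain ⟨l, hlJ, hl⟩ := ih
      rcases hy with hy | hy
      · exact ⟨l, hlJ, C_mul_left P (inv_mem hy) hl⟩
      · have hsi : y⁻¹ ∈ C P (gen P ⟨y, hJ hy⟩) :=
          gen_inv P ⟨y, hJ hy⟩ ▸ C_inv P (self_mem_C_gen P ⟨y, hJ hy⟩)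
        rcases C_mul P ⟨y, hJ hy⟩ hsi hl with h | h
        · exact ⟨⟨y, hJ hy⟩ :: l, by simp [hy]; exact fun a ha h => hlJ ⟨a, ha⟩ h, by simpa using h⟩
        · exact ⟨l, hlJ, h⟩
  · rintro ⟨l, hlJ, hx⟩
    induction l generalizing x with
    | nil => exact Subgroup.subset_closure (Or.inl ((C_one P).1 hx))
    | cons s l ih =>
      obtain ⟨n, hn⟩ := QuotientGroup.mk_surjective (wp P l)
      have e : wp P (s :: l) = π P (⟨(s : G), P.subset s.2⟩ * n) := by
        rw [wp_cons, ← hn]; rfl
      rw [e] at hx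
      obtain ⟨b, hb, c, hc, rfl⟩ := (mem_C P).1 hx
      have hs : (s : G) ∈ Subgroup.closure ((P.B : Set G) ∪ J) :=
        Subgroup.subset_closure (Or.inr (hlJ s (by simp)))
      have hn' := ih (n : G) (fun a ha => hlJ a (by simp [ha])) (hn ▸ self_mem_C P n)
      have hb' : b ∈ Subgroup.closure ((P.B : Set G) ∪ J) := Subgroup.subset_closure (Or.inl hb)
      have hc' : c ∈ Subgroup.closure ((P.B : Set G) ∪ J) := Subgroup.subset_closure (Or.inl hc)
      exact mul_mem (mul_mem hb' (mul_mem hs hn')) hc'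

theorem parabolic_eq_closure (J : Set G) :
    P.parabolic J = Subgroup.closure ((P.B : Set G) ∪ J) := by
  rw [Subgroup.closure_union, Subgroup.closure_eq]; rfl

theorem mem_parabolic {J : Set G} (hJ : J ⊆ P.S) {x : G} :
    x ∈ P.parabolic J ↔ ∃ l : List P.S, (∀ s ∈ l, (s : G) ∈ J) ∧ x ∈ C P (wp P l) := by
  rw [parabolic_eq_closure]; exact mem_closure_iff_word P J hJ x

theorem B_le_parabolic (J : Set G) : P.B ≤ P.parabolic J := le_sup_left

theorem subset_parabolic (J : Set G) : J ⊆ (P.parabolic J : Set G) :=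
  fun _ hs => Subgroup.mem_sup_right (Subgroup.subset_closure hs)

theorem parabolic_top : P.parabolic P.S = ⊤ := by
  rw [eq_top_iff, ← P.sup_eq_top]
  refine sup_le (B_le_parabolic P _) (le_trans (le_of_eq P.closure_sup.symm) ?_)
  exact sup_le le_sup_right (inf_le_left.trans le_sup_left)

/-- Bruhat decomposition. -/
theorem exists_mem_C (x : G) : ∃ w, x ∈ C P w := by
  obtain ⟨l, _, h⟩ := (mem_parabolic P subset_rfl).1 (parabolic_top P ▸ Subgroup.mem_top x)
  exact ⟨_, h⟩

/-- A reduced word of an element whose double coset meets `M ≥ B` has all letters in `M`. -/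
theorem letters_mem {M : Subgroup G} (hM : P.B ≤ M) :
    ∀ (l : List P.S), len P (wp P l) = l.length → ∀ x ∈ M, x ∈ C P (wp P l) →
      ∀ s ∈ l, (s : G) ∈ M := by
  intro l
  induction l with
  | nil => simp
  | cons s l ih =>
    intro hred x hxM hxC a ha
    have hCM : ∀ y, y ∈ C P (wp P (s :: l)) → y ∈ M := by
      obtain ⟨n, hn⟩ := QuotientGroup.mk_surjective (wp P (s :: l))
      intro y hy
      rw [← hn] at hy hxC
      obtain ⟨b, hb, c, hc, rfl⟩ := (mem_C P).1 hxC
      obtain ⟨d, hd, e, he, rfl⟩ := (mem_C P).1 hy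
      have hnM : (n : G) ∈ M := by
        have := mul_mem (mul_mem (inv_mem (hM hb)) hxM) (inv_mem (hM hc))
        simpa [mul_assoc] using this
      exact mul_mem (mul_mem (hM hd) hnM) (hM he)
    obtain ⟨u, hu, v, hv, huv⟩ := meets_of_not_asc P (not_asc_head P (by simpa using hred))
    have huM : u ∈ M := by
      have := mul_mem (hCM _ huv) (inv_mem (hCM _ hv))
      simpa using this
    have hsM : (s : G) ∈ M := by
      obtain ⟨b, hb, c, hc, rfl⟩ := (mem_C P).1 hu
      have := mul_mem (mul_mem (inv_mem (hM hb)) huM) (inv_mem (hM hc))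
      simpa [mul_assoc] using this
    rcases List.mem_cons.1 ha with rfl | ha
    · exact hsM
    · have hred' : len P (wp P l) = l.length := by
        have h1 := len_le P l
        have h2 := len_gen_mul_le P s (wp P l)
        rw [wp_cons, List.length_cons] at hred
        omega
      have hx' := C_mul P s (gen_inv P s ▸ C_inv P (self_mem_C_gen P s)) hxC
      rcases hx' with h | h
      · rw [wp_cons, gen_mul_cancel] at h
        exact ih hred' _ (mul_mem (inv_mem hsM) hxM) h a ha
      · obtain ⟨n, hn⟩ := QuotientGroup.mk_surjective (wp P l)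
        have e : wp P (s :: l) = π P (⟨(s : G), P.subset s.2⟩ * n) := by
          rw [wp_cons, ← hn]; rfl
        have hsn : (s : G) * n ∈ M := hCM _ (e ▸ self_mem_C P (⟨(s : G), P.subset s.2⟩ * n))
        have hnM : (n : G) ∈ M := by simpa using mul_mem (inv_mem hsM) hsn
        exact ih hred' _ hnM (hn ▸ self_mem_C P n) a ha

theorem le_eq_parabolic {M : Subgroup G} (hM : P.B ≤ M) :
    M = P.parabolic (P.S ∩ (M : Set G)) := by
  apply le_antisymm
  · intro x hx
    obtain ⟨w, hw⟩ := exists_mem_C P x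
    obtain ⟨l, rfl, hl⟩ := exists_reduced P w
    exact (mem_parabolic P Set.inter_subset_left).2
      ⟨l, fun s hs => ⟨s.2, letters_mem P hM l hl.symm x hx hw s hs⟩, hw⟩
  · exact sup_le hM ((Subgroup.closure_le _).2 Set.inter_subset_right)

theorem inter_parabolic {J : Set G} (hJ : J ⊆ P.S) :
    P.S ∩ (P.parabolic J : Set G) = J := by
  refine subset_antisymm ?_ (Set.subset_inter hJ (subset_parabolic P J))
  rintro x ⟨hxS, hx⟩
  obtain ⟨l, hlJ, hl⟩ := (mem_parabolic P hJ).1 hx
  have hw := eq_of_mem P hl (self_mem_C_gen P ⟨x, hxS⟩)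
  clear hl
  -- shorten the word until it is reduced
  induction hk : l.length using Nat.strong_induction_on generalizing l with
  | _ k ih =>
    match l, hw with
    | [], hw => exact absurd hw.symm (gen_ne_one P _)
    | [a], hw =>
      rw [wp_single] at hw
      have := gen_injective P hw
      have h2 := hlJ a (by simp)
      rw [this] at h2; exact h2
    | a :: b :: l', hw =>
      by_cases h : Asc P a (wp P (b :: l'))
      · by_cases h' : Asc P b (wp P l')
        · exfalso
          have h1 := len_asc P h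
          have h2 := len_asc P h'
          rw [← wp_cons, hw] at h1
          rw [← wp_cons] at h2
          have h3 := len_le P [(⟨x, hxS⟩ : P.S)]
          rw [wp_single] at h3
          simp only [List.length_singleton] at h3
          omega
        · obtain ⟨i, hi, e⟩ := exchange P b l' h'
          refine ih (a :: l'.eraseIdx i).length ?_ (a :: l'.eraseIdx i) ?_ ?_ rfl
          · simp [← hk, List.length_eraseIdx_of_lt hi]
          · intro c hc
            rcases List.mem_cons.1 hc with rfl | hc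
            · exact hlJ _ (by simp)
            · exact hlJ c (by simp [List.mem_of_mem_eraseIdx hc])
          · rw [wp_cons, ← e, ← wp_cons, ← wp_cons]; exact hw
      · obtain ⟨i, hi, e⟩ := exchange P a (b :: l') h
        refine ih ((b :: l').eraseIdx i).length ?_ ((b :: l').eraseIdx i) ?_ ?_ rfl
        · rw [List.length_eraseIdx_of_lt hi]; simp only [← hk, List.length_cons]; omega
        · intro c hc
          exact hlJ c (List.mem_cons_of_mem _ (List.mem_of_mem_eraseIdx hc))
        · rw [← e, ← wp_cons]; exact hw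

theorem mem_of_gen_mem_parabolic {J : Set G} (hJ : J ⊆ P.S) {s : G} (hs : s ∈ P.S)
    (h : s ∈ P.parabolic J) : s ∈ J := (inter_parabolic P hJ) ▸ (⟨hs, h⟩ : s ∈ P.S ∩ _)

theorem mem_sup_conj (n : P.N) :
    (n : G) ∈ P.B ⊔ P.B.map (MulAut.conj (n : G)).toMonoidHom := by
  obtain ⟨l, hl, hlen⟩ := exists_reduced P (π P n)
  suffices ∀ (l : List P.S) (m : P.N) (H : Subgroup G), wp P l = π P m →
      len P (wp P l) = l.length → P.B ≤ H → P.B.map (MulAut.conj (m : G)).toMonoidHom ≤ H →
      (m : G) ∈ H from this l n _ hl (by rw [hlen, hl]) le_sup_left le_sup_right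
  intro l
  induction l with
  | nil => intro m H hm _ hB _; exact hB ((π_eq_one P).1 hm.symm)
  | cons s l ih =>
    intro m H hm hred hB hmB
    obtain ⟨u, hu, v, hv, huv⟩ := meets_of_not_asc P (not_asc_head P (by simpa using hred))
    rw [hm] at hv huv
    obtain ⟨b, hb, c, hc, rfl⟩ := (mem_C P).1 hu
    obtain ⟨d, hd, e, he, rfl⟩ := (mem_C P).1 hv
    obtain ⟨f, hf, g, hg, hfg⟩ := (mem_C P).1 huv
    have hconj : (m : G) * (g * e⁻¹) * (m : G)⁻¹ ∈ H :=
      hmB ⟨g * e⁻¹, mul_mem hg (inv_mem he), rfl⟩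
    have hsH : (s : G) ∈ H := by
      have e0 : b * (s : G) * c * d * m * e = f * m * g := by rw [← hfg]; group
      have e1 : b * (s : G) * c * d = f * ((m : G) * (g * e⁻¹) * (m : G)⁻¹) := by
        calc b * (s : G) * c * d = b * (s : G) * c * d * m * e * e⁻¹ * (m : G)⁻¹ := by group
          _ = _ := by rw [e0]; group
      have e2 : (s : G) = b⁻¹ * (f * ((m : G) * (g * e⁻¹) * (m : G)⁻¹)) * d⁻¹ * c⁻¹ := by
        rw [← e1]; group
      rw [e2]
      exact mul_mem (mul_mem (mul_mem (hB (inv_mem hb)) (mul_mem (hB hf) hconj)) (hB (inv_mem hd)))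
        (hB (inv_mem hc))
    let m' : P.N := (⟨(s : G), P.subset s.2⟩ : P.N)⁻¹ * m
    have hm' : wp P l = π P m' := by
      show _ = (gen P s)⁻¹ * π P m
      rw [← hm, wp_cons, inv_mul_cancel_left]
    have hred' : len P (wp P l) = l.length := by
      have h1 := len_le P l
      have h2 := len_gen_mul_le P s (wp P l)
      rw [wp_cons, List.length_cons] at hred
      omega
    have key := ih m' H hm' hred' hB (by
      rintro _ ⟨y, hy, rfl⟩
      have := mul_mem (mul_mem (inv_mem hsH) (hmB ⟨y, hy, rfl⟩)) hsH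
      simpa [m', mul_assoc] using this)
    have := mul_mem hsH key
    simpa [m'] using this

end CfsgLib.Base.BN
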