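import Cfsg.Agent.Base.BNPairProps

/-!
The Weyl group of a (B,N)-pair is a Coxeter group.
-/

namespace CfsgLib.Base.BN

open Cfsg

universe u
variable {G : Type u} [Group G] (P : Cfsg.BNPair G)

/-- The Coxeter matrix of orders of products of two generators. -/
noncomputable def cmat : CoxeterMatrix P.S where
  M := Matrix.of fun s t => orderOf (gen P s * gen P t)
  isSymm := by
    ext s t
    simp only [Matrix.transpose_apply, Matrix.of_apply]
    rw [← orderOf_inv, mul_inv_rev, gen_inv, gen_inv]
  diagonal s := by simp [gen_mul_self]
  off_diagonal s t h := by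
    simp only [Matrix.of_apply, ne_eq, orderOf_eq_one_iff]
    intro h1
    apply h
    apply gen_injective P
    rw [eq_inv_of_mul_eq_one_left h1, gen_inv]

theorem cmat_liftable : CoxeterMatrix.IsLiftable (cmat P) (gen P) := fun s t =>
  pow_orderOf_eq_one (gen P s * gen P t)

/-- projection of the abstract Coxeter group -/
noncomputable def proj : (cmat P).Group →* Weyl P :=
  (cmat P).toCoxeterSystem.lift ⟨gen P, cmat_liftable P⟩

/-- simple generators of the abstract group -/
noncomputable def cgen (s : P.S) : (cmat P).Group := (cmat P).toCoxeterSystem.simple s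

theorem proj_cgen (s : P.S) : proj P (cgen P s) = gen P s :=
  (cmat P).toCoxeterSystem.lift_apply_simple (cmat_liftable P) s

theorem cgen_mul_self (s : P.S) : cgen P s * cgen P s = 1 :=
  (cmat P).toCoxeterSystem.simple_mul_simple_self s

theorem cgen_mul_cancel (s : P.S) (x : (cmat P).Group) : cgen P s * (cgen P s * x) = x := by
  rw [← mul_assoc, cgen_mul_self, one_mul]

theorem cgen_inv (s : P.S) : (cgen P s)⁻¹ = cgen P s :=
  inv_eq_of_mul_eq_one_right (cgen_mul_self P s)

/-- word product upstairs -/
noncomputable def cwp (l : List P.S) : (cmat P).Group := (l.map (cgen P)).prod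

@[simp] theorem cwp_nil : cwp P [] = 1 := rfl
@[simp] theorem cwp_cons (s : P.S) (l : List P.S) : cwp P (s :: l) = cgen P s * cwp P l := by
  simp [cwp]
@[simp] theorem cwp_append (l l' : List P.S) : cwp P (l ++ l') = cwp P l * cwp P l' := by
  simp [cwp]

theorem proj_cwp (l : List P.S) : proj P (cwp P l) = wp P l := by
  induction l with
  | nil => simp
  | cons a l ih => rw [cwp_cons, map_mul, proj_cgen, ih, wp_cons]

theorem pair_form {s t : P.S} :
    ∀ l : List P.S, (∀ a ∈ l, a = s ∨ a = t) →
      ∃ e : ℤ, cwp P l = (cgen P s * cgen P t) ^ e ∨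
        cwp P l = (cgen P s * cgen P t) ^ e * cgen P s := by
  have hconj : ∀ e : ℤ, cgen P s * (cgen P s * cgen P t) ^ e =
      (cgen P s * cgen P t) ^ (-e) * cgen P s := by
    intro e
    have h := map_zpow (MulAut.conj (cgen P s)).toMonoidHom (cgen P s * cgen P t) e
    simp only [MulEquiv.coe_toMonoidHom, MulAut.conj_apply] at h
    have e1 : cgen P s * (cgen P s * cgen P t) * (cgen P s)⁻¹ = (cgen P s * cgen P t)⁻¹ := by
      rw [mul_inv_rev, cgen_inv, cgen_inv, cgen_mul_cancel]
    rw [e1, inv_zpow', mul_inv_eq_iff_eq_mul] at h
    exact h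
  intro l
  induction l with
  | nil => exact fun _ => ⟨0, Or.inl (by simp)⟩
  | cons a l ih =>
    intro ha
    obtain ⟨e, he⟩ := ih (fun b hb => ha b (by simp [hb]))
    rw [cwp_cons]
    rcases ha a (by simp) with rfl | rfl
    · rcases he with he | he
      · exact ⟨-e, Or.inr (by rw [he, hconj])⟩
      · exact ⟨-e, Or.inl (by rw [he, ← mul_assoc, hconj, mul_assoc, cgen_mul_self, mul_one])⟩
    · have ht : cgen P a = (cgen P s * cgen P a) ^ (-1 : ℤ) * cgen P s := by
        rw [zpow_neg_one, mul_inv_rev, cgen_inv, cgen_inv, mul_assoc, cgen_mul_self, mul_one]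
      have hy := hconj e
      generalize hq : (cgen P s * cgen P a) ^ e = q at hy he
      generalize hq' : (cgen P s * cgen P a) ^ (-e) = q' at hy
      rcases he with he | he
      · refine ⟨-1 + -e, Or.inr ?_⟩
        rw [he, zpow_add, hq']
        conv_lhs => arg 1; rw [ht]
        rw [mul_assoc, hy, ← mul_assoc]
      · refine ⟨-1 + -e, Or.inl ?_⟩
        rw [he, zpow_add, hq']
        conv_lhs => arg 1; rw [ht]
        rw [mul_assoc, ← mul_assoc (cgen P s), hy, mul_assoc, cgen_mul_self, mul_one]

theorem pair_kernel {s t : P.S} (hst : s ≠ t) {x : (cmat P).Group} {e : ℤ}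
    (hx : x = (cgen P s * cgen P t) ^ e ∨ x = (cgen P s * cgen P t) ^ e * cgen P s)
    (h1 : proj P x = 1) : x = 1 := by
  rcases hx with hx | hx <;> rw [hx] at h1 ⊢
  · rw [map_zpow, map_mul, proj_cgen, proj_cgen, ← orderOf_dvd_iff_zpow_eq_one] at h1
    obtain ⟨k, rfl⟩ := h1
    rw [zpow_mul]
    have : (cgen P s * cgen P t) ^ ((orderOf (gen P s * gen P t) : ℕ) : ℤ) = 1 := by
      rw [zpow_natCast]
      exact (cmat P).toCoxeterSystem.simple_mul_simple_pow s t
    rw [this, one_zpow]
  · exfalso
    rw [map_mul, map_zpow, map_mul, proj_cgen, proj_cgen] at h1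
    have hs : gen P s = (gen P s * gen P t) ^ (-e) := by
      rw [zpow_neg]
      exact eq_inv_of_mul_eq_one_right h1
    have hc : Commute (gen P s) (gen P s * gen P t) := by
      have := (Commute.refl (gen P s * gen P t)).zpow_left (-e)
      rwa [← hs] at this
    -- so `s` and `t` commute and `(st)^2 = 1`
    have hc' : gen P t * gen P s = gen P s * gen P t := by
      have h2 : gen P s * (gen P s * gen P t) = gen P s * gen P t * gen P s := hc
      rw [gen_mul_cancel] at h2
      conv_lhs => rw [h2]
      rw [mul_assoc, mul_assoc, gen_mul_self, mul_one]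
    have hsq : (gen P s * gen P t) ^ (2 : ℤ) = 1 := by
      rw [zpow_two]
      conv_lhs => rw [mul_assoc, ← mul_assoc (gen P t), hc']
      rw [← mul_assoc, ← mul_assoc, gen_mul_self, one_mul, gen_mul_self]
    rcases Int.even_or_odd (-e) with ⟨k, hk⟩ | ⟨k, hk⟩
    · rw [hk, ← two_mul, zpow_mul, hsq, one_zpow] at hs
      exact gen_ne_one P s hs
    · rw [hk, zpow_add, zpow_mul, hsq, one_zpow, one_mul, zpow_one] at hs
      exact gen_ne_one P t (mul_eq_left.1 hs.symm)

/-- Two letters: an equation downstairs holds upstairs. -/
theorem pair_eq {s t : P.S} (hst : s ≠ t) {l l' : List P.S}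
    (hl : ∀ a ∈ l, a = s ∨ a = t) (hl' : ∀ a ∈ l', a = s ∨ a = t) (h : wp P l = wp P l') :
    cwp P l = cwp P l' := by
  have hrev : cwp P l'.reverse = (cwp P l')⁻¹ := by
    clear h hl hl'
    induction l' with
    | nil => simp
    | cons a l ih => simp [ih, cgen_inv]
  obtain ⟨e, he⟩ := pair_form P (s := s) (t := t) (l ++ l'.reverse) (by
    intro a ha
    rcases List.mem_append.1 ha with ha | ha
    · exact hl a ha
    · exact hl' a (List.mem_reverse.1 ha))
  have := pair_kernel P hst he (by
    rw [proj_cwp, wp_append, wp_reverse, h, mul_inv_cancel])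
  rw [cwp_append, hrev, mul_inv_eq_one] at this
  exact this

/-- alternating word starting with `s` -/
def alt : P.S → P.S → ℕ → List P.S
  | _, _, 0 => []
  | s, t, n + 1 => s :: alt t s n

theorem alt_length : ∀ (n : ℕ) (s t : P.S), (alt P s t n).length = n := by
  intro n
  induction n with
  | zero => simp [alt]
  | succ n ih => intro s t; simp [alt, ih]

theorem alt_mem : ∀ (n : ℕ) (s t : P.S), ∀ a ∈ alt P s t n, a = s ∨ a = t := by
  intro n
  induction n with
  | zero => simp [alt]
  | succ n ih =>
    intro s t a ha
    rcases List.mem_cons.1 ha with rfl | ha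
    · exact Or.inl rfl
    · exact (ih t s a ha).symm

theorem red_tail {s : P.S} {l : List P.S} (h : len P (wp P (s :: l)) = (s :: l).length) :
    len P (wp P l) = l.length := by
  have h1 := len_le P l
  have h2 := len_gen_mul_le P s (wp P l)
  rw [wp_cons, List.length_cons] at h
  omega

theorem matsumoto : ∀ (k : ℕ) (l l' : List P.S), l.length = k →
    len P (wp P l) = l.length → wp P l' = wp P l → l'.length = l.length →
    cwp P l' = cwp P l := by
  intro k
  induction k using Nat.strong_induction_on with
  | _ k ih =>
    intro l l' hk hred heq hlen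
    -- equal first letters
    have same : ∀ (a : P.S) (u u' : List P.S), u.length < k → len P (wp P (a :: u)) = (a :: u).length →
        wp P (a :: u') = wp P (a :: u) → u'.length = u.length → cwp P (a :: u') = cwp P (a :: u) := by
      intro a u u' hu hr he hl
      rw [cwp_cons, cwp_cons, ih _ hu u u' rfl (red_tail P hr) (by simpa using he) hl]
    -- a descent `s` against a word with an alternating prefix
    have main : ∀ (d j : ℕ) (s t : P.S) (r u : List P.S), j + d = k → 1 ≤ j → s ≠ t →
        (alt P t s j ++ r).length = k → (s :: u).length = k →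
        wp P (alt P t s j ++ r) = wp P l → wp P (s :: u) = wp P l →
        cwp P (s :: u) = cwp P (alt P t s j ++ r) := by
      intro d
      induction d with
      | zero =>
        intro j s t r u hjd hj hst hlr hlu hwr hwu
        have hr0 : r = [] := by
          rw [List.length_append, alt_length] at hlr
          exact List.length_eq_zero_iff.1 (by omega)
        subst hr0
        have hna : ¬ Asc P s (wp P (alt P t s j ++ [])) := by
          rw [hwr, ← hwu]; exact not_asc_head P (by rw [hwu, hred, hk, ← hlu]; simp)
        obtain ⟨i, hi, e⟩ := exchange P s _ hna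
        rw [List.append_nil] at e hi ⊢
        have hpe : cwp P (s :: alt P t s j) = cwp P ((alt P t s j).eraseIdx i) :=
          pair_eq P hst (fun a ha => by
            rcases List.mem_cons.1 ha with rfl | ha
            · exact Or.inl rfl
            · exact (alt_mem P j t s a ha).symm)
            (fun a ha => (alt_mem P j t s a (List.mem_of_mem_eraseIdx ha)).symm)
            (by rw [wp_cons]; exact e)
        have h2 : cwp P (alt P t s j) = cwp P (s :: (alt P t s j).eraseIdx i) := by
          rw [cwp_cons, ← hpe, cwp_cons, cgen_mul_cancel]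
        rw [h2]
        rw [List.append_nil] at hwr hlr
        have hlee : ((alt P t s j).eraseIdx i).length + 1 = k := by
          rw [List.length_eraseIdx_of_lt hi]; omega
        refine same s _ u (by omega) ?_ ?_ (by simp at hlu; omega)
        · rw [wp_cons, ← e, gen_mul_cancel, hwr, hred, List.length_cons, hlee, hk]
        · rw [hwu, wp_cons, ← e, gen_mul_cancel, hwr]
      | succ d ihd =>
        intro j s t r u hjd hj hst hlr hlu hwr hwu
        have hna : ¬ Asc P s (wp P (alt P t s j ++ r)) := by
          rw [hwr, ← hwu]; exact not_asc_head P (by rw [hwu, hred, hk, ← hlu]; simp)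
        obtain ⟨i, hi, e⟩ := exchange P s _ hna
        have hwe : wp P (s :: (alt P t s j ++ r).eraseIdx i) = wp P l := by
          rw [wp_cons, ← e, gen_mul_cancel, hwr]
        have hlee : (s :: (alt P t s j ++ r).eraseIdx i).length = k := by
          rw [List.length_cons, List.length_eraseIdx_of_lt hi]; omega
        have hfirst : cwp P (s :: u) = cwp P (s :: (alt P t s j ++ r).eraseIdx i) := by
          refine same s _ u ?_ ?_ (by rw [hwu, hwe]) ?_
          · simp at hlee; omega
          · rw [hwe, hred, hk, hlee]
          · simp at hlee hlu; omega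
        rw [hfirst]
        by_cases hij : i < j
        · rw [List.eraseIdx_append_of_lt_length (by rw [alt_length]; exact hij)] at e ⊢
          rw [wp_append, wp_append, ← mul_assoc] at e
          have hpe : cwp P (s :: alt P t s j) = cwp P ((alt P t s j).eraseIdx i) :=
            pair_eq P hst (fun a ha => by
              rcases List.mem_cons.1 ha with rfl | ha
              · exact Or.inl rfl
              · exact (alt_mem P j t s a ha).symm)
              (fun a ha => (alt_mem P j t s a (List.mem_of_mem_eraseIdx ha)).symm)
              (by rw [wp_cons]; exact mul_right_cancel e)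
          rw [cwp_cons, cwp_append, ← hpe, cwp_cons, mul_assoc, cgen_mul_cancel, cwp_append]
        · -- the alternating prefix grows
          have hji : (alt P t s j).length ≤ i := by rw [alt_length]; omega
          rw [List.eraseIdx_append_of_length_le hji] at hwe hlee ⊢
          have e2 : s :: (alt P t s j ++ r.eraseIdx (i - (alt P t s j).length)) =
              alt P s t (j + 1) ++ r.eraseIdx (i - (alt P t s j).length) := rfl
          rw [e2] at hwe hlee ⊢
          obtain ⟨v, hv⟩ : ∃ v, alt P t s j ++ r = t :: v := by
            cases j with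
            | zero => omega
            | succ j' => exact ⟨_, rfl⟩
          rw [hv] at hwr hlr ⊢
          exact (ihd (j + 1) t s _ v (by omega) (by omega) hst.symm hlee hlr hwe hwr).symm
    match l, l' with
    | [], l' => simp [List.length_eq_zero_iff.1 hlen]
    | t :: v, [] => simp at hlen
    | t :: v, s :: u =>
      by_cases hst : s = t
      · subst hst
        exact same s v u (by simp at hk; omega) hred heq (by simpa using hlen)
      · have := main (k - 1) 1 s t v u (by simp at hk; omega) le_rfl hst (by simpa [alt] using hk)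
          (by rw [hlen, hk]) (by simp [alt]) heq
        simpa [alt] using this

theorem exists_reduced_lift (x : (cmat P).Group) :
    ∃ l : List P.S, cwp P l = x ∧ len P (wp P l) = l.length := by
  have hx : x ∈ Subgroup.closure (Set.range (cmat P).toCoxeterSystem.simple) := by
    rw [CoxeterSystem.subgroup_closure_range_simple]; trivial
  have step : ∀ (s : P.S) (l : List P.S), len P (wp P l) = l.length →
      ∃ l' : List P.S, cwp P l' = cgen P s * cwp P l ∧ len P (wp P l') = l'.length := by
    intro s l hl
    by_cases ha : Asc P s (wp P l)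
    · exact ⟨s :: l, by simp, by rw [wp_cons, len_asc P ha, hl, List.length_cons]⟩
    · obtain ⟨m, hm, hmlen⟩ := exists_reduced P (gen P s * wp P l)
      have h1 := len_lt_of_not_asc P ha
      have h2 := len_le_len_gen_mul P s (wp P l)
      have hw : wp P (s :: m) = wp P l := by rw [wp_cons, hm, gen_mul_cancel]
      have := matsumoto P _ l (s :: m) rfl hl hw (by rw [List.length_cons]; omega)
      refine ⟨m, ?_, by rw [hm, hmlen]⟩
      rw [← this, cwp_cons, cgen_mul_cancel]
  induction hx using Subgroup.closure_induction_left with
  | one => exact ⟨[], rfl, by have := len_le P ([] : List P.S); simp at this ⊢; omega⟩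
  | mul_left y hy z hz ih =>
    obtain ⟨s, rfl⟩ := hy
    obtain ⟨l, rfl, hl⟩ := ih
    exact step s l hl
  | inv_mul_cancel y hy z hz ih =>
    obtain ⟨s, rfl⟩ := hy
    obtain ⟨l, rfl, hl⟩ := ih
    rw [CoxeterSystem.inv_simple]
    exact step s l hl

theorem proj_bijective : Function.Bijective (proj P) := by
  constructor
  · rw [injective_iff_map_eq_one]
    intro x hx
    obtain ⟨l, rfl, hl⟩ := exists_reduced_lift P x
    rw [proj_cwp] at hx
    rw [hx] at hl
    have h0 := len_le P ([] : List P.S)
    simp at h0
    rw [h0] at hl
    simp [List.length_eq_zero_iff.1 hl.symm]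
  · intro w
    obtain ⟨l, hl⟩ := exists_word P w
    exact ⟨cwp P l, by rw [proj_cwp, hl]⟩

theorem exists_coxeterSystem :
    ∃ (M : CoxeterMatrix P.S) (cs : CoxeterSystem M (Weyl P)),
      ∀ s : P.S, cs.simple s = gen P s := by
  refine ⟨cmat P, ⟨(MulEquiv.ofBijective (proj P) (proj_bijective P)).symm⟩, fun s => ?_⟩
  exact proj_cgen P s

end CfsgLib.Base.BN
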