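import Cfsg.Agent.Base.BNPair

/-!
Consequences of the Bruhat decomposition: parabolic subgroups, simplicity criterion.
-/

namespace CfsgLib.Base.BN

open Cfsg

universe u
variable {G : Type u} [Group G] (P : Cfsg.BNPair G)

theorem closure_le_N {J : Set G} (hJ : J ⊆ P.S) : Subgroup.closure J ≤ P.N :=
  (Subgroup.closure_le _).2 (hJ.trans P.subset)

theorem exists_rep_of_word (l : List P.S) {J : Set G} (hl : ∀ s ∈ l, (s : G) ∈ J) :
    ∃ n : P.N, (n : G) ∈ Subgroup.closure J ∧ π P n = wp P l := by
  induction l with
  | nil => exact ⟨1, one_mem _, rfl⟩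
  | cons s l ih =>
    obtain ⟨n, hn, e⟩ := ih (fun a ha => hl a (by simp [ha]))
    exact ⟨⟨(s : G), P.subset s.2⟩ * n, mul_mem (Subgroup.subset_closure (hl s (by simp))) hn,
      by rw [wp_cons, ← e]; rfl⟩

theorem mem_parabolic' {J : Set G} (hJ : J ⊆ P.S) {x : G} :
    x ∈ P.parabolic J ↔
      ∃ n ∈ Subgroup.closure J, x ∈ DoubleCoset.doubleCoset n (P.B : Set G) P.B := by
  constructor
  · intro h
    obtain ⟨l, hl, hx⟩ := (mem_parabolic P hJ).1 h
    obtain ⟨n, hn, e⟩ := exists_rep_of_word P l hl
    exact ⟨n, hn, by rw [← e] at hx; exact hx⟩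
  · rintro ⟨n, hn, hx⟩
    obtain ⟨b, hb, c, hc, rfl⟩ := DoubleCoset.mem_doubleCoset.1 hx
    exact mul_mem (mul_mem (B_le_parabolic P J hb) (Subgroup.mem_sup_right hn))
      (B_le_parabolic P J hc)

theorem exists_rep (g : G) : ∃ n : P.N, g ∈ C P (π P n) := by
  obtain ⟨w, hw⟩ := exists_mem_C P g
  obtain ⟨n, rfl⟩ := QuotientGroup.mk_surjective w
  exact ⟨n, hw⟩

theorem mem_parabolic_of_conj {J : Set G} {g : G}
    (h : ∀ b ∈ P.B, g * b * g⁻¹ ∈ P.parabolic J) : g ∈ P.parabolic J := by
  obtain ⟨n, hn⟩ := exists_rep P g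
  obtain ⟨b, hb, c, hc, rfl⟩ := (mem_C P).1 hn
  have hn' : (n : G) ∈ P.parabolic J := by
    refine (sup_le (B_le_parabolic P J) ?_) (mem_sup_conj P n)
    rintro _ ⟨y, hy, rfl⟩
    have h' := h (c⁻¹ * y * c) (mul_mem (mul_mem (inv_mem hc) hy) hc)
    have := mul_mem (mul_mem (B_le_parabolic P J (inv_mem hb)) h') (B_le_parabolic P J hb)
    simpa [mul_assoc] using this
  exact mul_mem (mul_mem (B_le_parabolic P J hb) hn') (B_le_parabolic P J hc)

theorem len_pos_gen (s : P.S) : len P (gen P s) = 1 := by
  have h1 := len_le P [s]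
  rw [wp_single] at h1
  rcases Nat.eq_zero_or_pos (len P (gen P s)) with h | h
  · exact absurd (len_eq_zero P h) (gen_ne_one P s)
  · simp at h1; omega

/-- inverse form of `Asc` -/
theorem asc_right {t : P.S} {w : Weyl P} (h : Asc P t w⁻¹) {x y : G}
    (hy : y ∈ C P w) (hx : x ∈ C P (gen P t)) : y * x ∈ C P (w * gen P t) := by
  have := C_inv P (h _ (gen_inv P t ▸ C_inv P hx) _ (C_inv P hy))
  simpa [mul_inv_rev, gen_inv] using this

/-- no descent from outside `J` on an element of `W_J` -/
theorem asc_of_mem_parabolic {J : Set G} (hJ : J ⊆ P.S) {t : P.S} (ht : (t : G) ∉ J)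
    {w : Weyl P} {x : G} (hx : x ∈ P.parabolic J) (hxw : x ∈ C P w) : Asc P t w := by
  by_contra hc
  obtain ⟨l, hl, hlen⟩ := exists_reduced P (gen P t * w)
  have h1 := len_lt_of_not_asc P hc
  have e : wp P (t :: l) = w := by rw [wp_cons, hl, gen_mul_cancel]
  have h2 := len_le_len_gen_mul P t w
  have hred : len P (wp P (t :: l)) = (t :: l).length := by
    rw [e, List.length_cons, hlen]; omega
  have := letters_mem P (B_le_parabolic P J) (t :: l) hred x hx (e.symm ▸ hxw) t (by simp)
  exact ht (mem_of_gen_mem_parabolic P hJ t.2 this)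

theorem simple_of_irreducible [Nontrivial G] (hirr : P.Irreducible)
    (hsolv : Group.IsSolvable P.B) (hperf : commutator G = ⊤) (hcore : P.B.normalCore = ⊥) :
    IsSimpleGroup G := by
  refine ⟨fun H hH => ?_⟩
  set M : Subgroup G := H ⊔ P.B with hM
  set J : Set G := P.S ∩ (M : Set G) with hJdef
  have hJ : J ⊆ P.S := Set.inter_subset_left
  have hMJ : M = P.parabolic J := le_eq_parabolic P le_sup_right
  have hHM : ∀ {x}, x ∈ H → x ∈ P.parabolic J := fun hx => hMJ ▸ Subgroup.mem_sup_left hx
  have hcomm : ∀ s ∈ J, ∀ t ∈ P.S \ J, s * t * s⁻¹ * t⁻¹ ∈ P.B := by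
    intro s hs t ht
    have hsM : s ∈ M := hs.2
    obtain ⟨h, hh, b, hb, hhb⟩ :=
      Subgroup.mem_sup_of_normal_left.1 (hM ▸ hsM)
    let s' : P.S := ⟨s, hs.1⟩
    let t' : P.S := ⟨t, ht.1⟩
    have hhC : h ∈ C P (gen P s') := by
      have : h = s * b⁻¹ := by rw [← hhb]; group
      rw [this]; exact C_mul_right P (self_mem_C_gen P s') (inv_mem hb)
    have hts : Asc P t' (gen P s') :=
      asc_of_mem_parabolic P hJ ht.2 (hHM hh) hhC
    have h1 : t * h ∈ C P (gen P t' * gen P s') := hts _ (self_mem_C_gen P t') _ hhC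
    have ht1 : t⁻¹ ∈ C P (gen P t') := gen_inv P t' ▸ C_inv P (self_mem_C_gen P t')
    have h3 : t * h * t⁻¹ ∈ P.parabolic J := hHM (hH.conj_mem h hh t)
    rcases C_mul' P t' h1 ht1 with h2 | h2
    · -- `v = t s t` lies in `W_J`
      set v := gen P t' * gen P s' * gen P t' with hv
      have hvt : Asc P t' v := asc_of_mem_parabolic P hJ ht.2 h3 h2
      have h4 := len_asc P hvt
      have h5 : gen P t' * v = gen P s' * gen P t' := by
        rw [hv, mul_assoc, gen_mul_cancel]
      have hst : len P (gen P s' * gen P t') ≤ 2 := by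
        have := len_le P [s', t']; simpa using this
      rw [h5] at h4
      have hv1 : len P v ≤ 1 := by omega
      obtain ⟨l, hl, hlen⟩ := exists_reduced P v
      match l, hlen with
      | [], hlen =>
        exfalso
        simp only [wp_nil] at hl
        rw [← hl, mul_one] at h5
        exact gen_ne_one P s' (mul_eq_right.1 h5.symm)
      | [a], hlen =>
        rw [wp_single] at hl
        by_cases hA : Asc P a (gen P t')
        · -- compare `t a` with `s t`
          rw [← hl] at h5
          have hasc : ¬ Asc P t' (gen P s' * gen P t') := by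
            rw [← h5]; exact not_asc_gen_mul P (hl ▸ hvt)
          obtain ⟨i, hi, e⟩ := exchange P t' [s', t'] (by simpa using hasc)
          rw [wp_cons, wp_single] at e
          rw [← h5, gen_mul_cancel] at e
          have hi' : i = 0 ∨ i = 1 := by simp at hi; omega
          rcases hi' with rfl | rfl
          · simp only [List.eraseIdx_cons_zero, wp_single] at e
            exfalso
            rw [e, gen_mul_self] at h5
            have := congrArg (fun z => gen P s' * z) h5
            simp only [mul_one, gen_mul_cancel] at this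
            have h9 : s = t := congrArg Subtype.val (gen_injective P this)
            rw [h9] at hs
            exact ht.2 hs
          · simp only [List.eraseIdx_cons_succ, List.eraseIdx_cons_zero, wp_single] at e
            rw [e] at h5
            have hB : ((⟨s, P.subset hs.1⟩ : P.N) * ⟨t, P.subset ht.1⟩ *
                (⟨s, P.subset hs.1⟩ : P.N)⁻¹ * (⟨t, P.subset ht.1⟩ : P.N)⁻¹ : P.N) ∈ T P := by
              rw [← QuotientGroup.eq_one_iff]
              show gen P s' * gen P t' * (gen P s')⁻¹ * (gen P t')⁻¹ = 1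
              rw [← h5]; group
            simpa using (mem_T P).1 hB
        · have h6 := len_lt_of_not_asc P hA
          rw [len_pos_gen] at h6
          have h7 := len_eq_zero P (w := gen P a * gen P t') (by omega)
          have hat : gen P a = gen P t' := by
            have := congrArg (· * gen P t') h7
            simpa [mul_assoc, gen_mul_self] using this
          exfalso
          have h8 := mem_of_gen_mem_parabolic P hJ t'.2 (s := (t' : G)) (by
            have : v = gen P t' := hl ▸ hat
            rw [this] at h2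
            obtain ⟨b', hb', c', hc', e'⟩ := (mem_C P).1 h2
            have := mul_mem (mul_mem (B_le_parabolic P J (inv_mem hb')) h3)
              (B_le_parabolic P J (inv_mem hc'))
            rw [e'] at this
            simpa [mul_assoc] using this)
          exact ht.2 h8
      | a :: a' :: l, hlen => simp at hlen; omega
    · exfalso
      obtain ⟨n, hn⟩ := QuotientGroup.mk_surjective (gen P s')
      have e : gen P t' * gen P s' = π P (⟨t, P.subset ht.1⟩ * n) := by rw [← hn]; rfl
      rw [e] at h2
      obtain ⟨b', hb', c', hc', e'⟩ := (mem_C P).1 h2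
      have htn : t * n ∈ P.parabolic J := by
        have := mul_mem (mul_mem (B_le_parabolic P J (inv_mem hb')) h3)
          (B_le_parabolic P J (inv_mem hc'))
        rw [e'] at this
        simpa [mul_assoc] using this
      rw [← hn] at hhC
      obtain ⟨b2, hb2, c2, hc2, e2⟩ := (mem_C P).1 hhC
      have hnP : (n : G) ∈ P.parabolic J := by
        have := mul_mem (mul_mem (B_le_parabolic P J (inv_mem hb2)) (hHM hh))
          (B_le_parabolic P J (inv_mem hc2))
        rw [e2] at this
        simpa [mul_assoc] using this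
      refine ht.2 (mem_of_gen_mem_parabolic P hJ ht.1 ?_)
      simpa using mul_mem htn (inv_mem hnP)
  by_cases hJe : J.Nonempty
  · by_cases hJc : (P.S \ J).Nonempty
    · obtain ⟨s, hs, t, ht, hst⟩ := hirr J hJ hJe hJc
      exact absurd (hcomm s hs t ht) hst
    · right
      have hJS : J = P.S := subset_antisymm hJ (fun x hx => by_contra fun h => hJc ⟨x, hx, h⟩)
      have htop : H ⊔ P.B = ⊤ := by rw [← hM, hMJ, hJS, parabolic_top]
      have hsurj : Function.Surjective ((QuotientGroup.mk' H).comp P.B.subtype) := by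
        intro q
        obtain ⟨g, rfl⟩ := QuotientGroup.mk'_surjective H q
        obtain ⟨h, hh, b, hb, rfl⟩ :=
          Subgroup.mem_sup_of_normal_left.1 (htop ▸ Subgroup.mem_top g)
        refine ⟨⟨b, hb⟩, ?_⟩
        simp [(QuotientGroup.eq_one_iff h).2 hh]
      have : Group.IsSolvable (G ⧸ H) := by
        have := hsolv
        exact Group.isSolvable_of_surjective hsurj
      have hq : commutator (G ⧸ H) = ⊤ := by
        rw [commutator_def, ← Subgroup.map_top_of_surjective _ (QuotientGroup.mk'_surjective H),
          ← Subgroup.map_commutator, ← commutator_def, hperf]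
      rcases subsingleton_or_nontrivial (G ⧸ H) with hs | hs
      · exact (QuotientGroup.subsingleton_iff).1 hs
      · exact absurd hq (Group.IsSolvable.commutator_lt_top_of_nontrivial (G ⧸ H)).ne
  · left
    have hJ0 : J = ∅ := Set.not_nonempty_iff_eq_empty.1 hJe
    have : H ≤ P.B := by
      intro x hx
      have := hHM hx
      rw [hJ0] at this
      simpa [Cfsg.BNPair.parabolic] using this
    rw [← le_bot_iff, ← hcore]
    have hle : H ≤ P.B := this
    exact (@Subgroup.normal_le_normalCore _ _ P.B H hH).2 hle

end CfsgLib.Base.BN
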