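import Mathlib
import Cfsg.Agent.Char.Orth
import Cfsg.Agent.Char.Induce
import Cfsg.Agent.Char.Central

/-!
The Brauer–Suzuki theorem for generalized quaternion Sylow 2-subgroups of order at least 16,
by exceptional characters: with `D` the derived subgroup of the Sylow subgroup, `X` its
centraliser and `μ` a linear character of `X` of order four, the function induced from `1 - μ`
has norm three.
-/

set_option autoImplicit false
set_option linter.unusedSectionVars false

namespace CfsgLib.Base.BS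

open Cfsg CfsgLib.Char
open scoped ComplexConjugate commutatorElement

universe u

variable {G : Type u} [Group G]

/-- Generators `A`, `B` of a generalized quaternion Sylow subgroup of order `2 ^ (k + 2)`. -/
structure QBase (S : Sylow 2 G) (k : ℕ) (A B : G) : Prop where
  hA : A ∈ S
  hB : B ∈ S
  hord : orderOf A = 2 ^ (k + 1)
  hconj : B * A * B⁻¹ = A⁻¹
  hB2 : B * B = A ^ (2 ^ k : ℕ)
  hgen : ∀ s ∈ S, ∃ j : ℤ, s = A ^ j ∨ s = B * A ^ j
  hcard : Nat.card (S : Subgroup G) = 2 ^ (k + 2)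

/-- The same with `k ≥ 2`: order at least sixteen. -/
structure QData (S : Sylow 2 G) (k : ℕ) (A B : G) : Prop extends QBase S k A B where
  hk : 2 ≤ k

open QuaternionGroup in
theorem exists_base [Finite G] (S : Sylow 2 G) (k : ℕ)
    (e : (S : Subgroup G) ≃* QuaternionGroup (2 ^ k)) :
    ∃ A B, QBase S k A B := by
  set N := 2 ^ k with hN
  set φ : QuaternionGroup N →* G := (S : Subgroup G).subtype.comp e.symm.toMonoidHom with hφ
  have hinj : Function.Injective φ := Subtype.val_injective.comp e.symm.injective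
  have hmem : ∀ q, φ q ∈ S := fun q => (e.symm q).2
  refine ⟨φ (a 1), φ (xa 0), hmem _, hmem _, ?_, ?_, ?_, ?_, ?_⟩
  · rw [orderOf_injective φ hinj, orderOf_a_one, hN]; ring
  · rw [← map_inv, ← map_mul, ← map_mul, ← map_inv]
    congr 1
    apply mul_right_cancel (b := a 1)
    rw [inv_mul_cancel]
    show xa 0 * a 1 * (xa 0)⁻¹ * a 1 = 1
    have h2 : (xa 0 : QuaternionGroup N)⁻¹ = xa (0 + N) := by
      apply inv_eq_of_mul_eq_one_right
      rw [xa_mul_xa, one_def]
      congr 1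
      have := ZMod.natCast_self (2 * N)
      push_cast at this
      linear_combination this
    rw [h2, xa_mul_a, xa_mul_xa, a_mul_a, one_def]
    congr 1
    have := ZMod.natCast_self (2 * N)
    push_cast at this
    linear_combination this
  · rw [← map_mul, ← map_pow, xa_mul_xa, a_one_pow, sub_zero, add_zero]
  · intro s hs
    obtain ⟨q, hq⟩ : ∃ q, φ q = s := ⟨e ⟨s, hs⟩, by simp [hφ]⟩
    rw [← hq]
    rcases q with i | i
    · refine ⟨i.val, Or.inl ?_⟩
      rw [zpow_natCast, ← map_pow, a_one_pow, ZMod.natCast_zmod_val]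
    · refine ⟨i.val, Or.inr ?_⟩
      rw [zpow_natCast, ← map_pow, ← map_mul, a_one_pow, ZMod.natCast_zmod_val, xa_mul_a,
        zero_add]
  · rw [Nat.card_congr e.toEquiv, Nat.card_eq_fintype_card, QuaternionGroup.card, hN]; ring

theorem exists_data [Finite G] (S : Sylow 2 G) (n : ℕ)
    (e : (S : Subgroup G) ≃* QuaternionGroup (2 ^ (n + 2))) :
    ∃ A B, QData S (n + 2) A B := by
  obtain ⟨A, B, Q⟩ := exists_base S (n + 2) e
  exact ⟨A, B, Q, le_add_self⟩

/-- The derived subgroup of the Sylow subgroup. -/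
def Dg (A : G) : Subgroup G := Subgroup.zpowers (A ^ 2)

/-- Its centraliser. -/
def Xc (A : G) : Subgroup G := Subgroup.centralizer (Dg A : Set G)

/-- Its normaliser. -/
def Nn (A : G) : Subgroup G := Subgroup.normalizer (Dg A : Set G)

theorem mem_Xc {A x : G} : x ∈ Xc A ↔ x * A ^ 2 * x⁻¹ = A ^ 2 := by
  rw [Xc, Dg, Subgroup.mem_centralizer_iff, mul_inv_eq_iff_eq_mul]
  constructor
  · intro h; exact (h _ (Subgroup.mem_zpowers _)).symm
  · rintro h y ⟨i, rfl⟩
    exact ((Commute.zpow_right (h : Commute x (A ^ 2)) i).eq).symm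

theorem Xc_le_Nn (A : G) : Xc A ≤ Nn A := by
  intro x hx
  rw [Xc, Subgroup.mem_centralizer_iff] at hx
  rw [Nn, Subgroup.mem_normalizer_iff]
  intro h
  refine ⟨fun hh => by rw [← hx h hh, mul_inv_cancel_right]; exact hh, fun hh => ?_⟩
  have := hx _ hh
  have h1 : x * h * x⁻¹ = h := by
    calc x * h * x⁻¹ = x⁻¹ * ((x * h * x⁻¹) * x) * 1 * x⁻¹ * x * x⁻¹ * x := by rw [this]; group
      _ = h := by group
  rwa [h1] at hh

theorem conj_mem_Xc {A x y : G} (hx : x ∈ Nn A) (hy : y ∈ Xc A) : x * y * x⁻¹ ∈ Xc A := by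
  rw [Xc, Subgroup.mem_centralizer_iff] at hy ⊢
  rw [Nn, Subgroup.mem_normalizer_iff''] at hx
  intro d hd
  have h := hy _ ((hx d).1 hd)
  calc d * (x * y * x⁻¹) = x * ((x⁻¹ * d * x) * y) * x⁻¹ := by group
    _ = x * y * x⁻¹ * d := by rw [h]; group

open Classical in
/-- Subgroups of a finite cyclic group are determined by their order. -/
theorem cyclic_subgroup_ext {C : Type*} [Group C] [Finite C] [IsCyclic C] {H K : Subgroup C}
    (h : Nat.card H = Nat.card K) : H = K := by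
  have := Fintype.ofFinite C
  have key : ∀ L : Subgroup C, Nat.card L = Nat.card H →
      (L : Set C).toFinset = Finset.univ.filter (fun x : C => x ^ Nat.card H = 1) := by
    intro L hL
    refine Finset.eq_of_subset_of_card_le (fun x hx => ?_) ?_
    · rw [Set.mem_toFinset] at hx
      rw [Finset.mem_filter, ← hL]
      refine ⟨Finset.mem_univ _, ?_⟩
      have := pow_card_eq_one' (x := (⟨x, hx⟩ : L))
      exact congrArg Subtype.val this
    · rw [← Set.ncard_eq_toFinset_card', ← Nat.card_coe_set_eq]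
      exact (IsCyclic.card_pow_eq_one_le Nat.card_pos).trans hL.ge
  exact SetLike.coe_injective (Set.toFinset_inj.1 ((key H rfl).trans (key K h.symm).symm))

namespace QBase

variable {S : Sylow 2 G} {k : ℕ} {A B : G} (Q : QBase S k A B)
include Q

theorem conj_pow (j : ℤ) : B * A ^ j * B⁻¹ = A ^ (-j) := by
  rw [← conj_zpow, Q.hconj, inv_zpow, zpow_neg]

theorem A_two_pow : A ^ (2 ^ (k + 1) : ℕ) = 1 := by rw [← Q.hord, pow_orderOf_eq_one]

theorem zpow_eq_one {j : ℤ} (h : A ^ j = 1) : ((2 ^ (k + 1) : ℕ) : ℤ) ∣ j := by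
  rw [← Q.hord]; exact orderOf_dvd_iff_zpow_eq_one.2 h

theorem u_ne_one : A ^ (2 ^ k : ℕ) ≠ 1 := by
  intro h
  have := Nat.le_of_dvd (by positivity) (Q.hord ▸ orderOf_dvd_of_pow_eq_one h)
  rw [pow_succ] at this
  have : 0 < 2 ^ k := by positivity
  omega

theorem u_order : orderOf (A ^ (2 ^ k : ℕ)) = 2 :=
  orderOf_eq_prime (by rw [← pow_mul, ← pow_succ, Q.A_two_pow]) Q.u_ne_one

theorem comm_B (j : ℤ) : B * A ^ j ≠ A ^ j * B ∨ A ^ (j + j) = 1 := by
  by_contra h
  push Not at h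
  apply h.2
  have := Q.conj_pow j
  rw [h.1, mul_inv_cancel_right, zpow_neg, eq_inv_iff_mul_eq_one, ← zpow_add] at this
  exact this

theorem invol_eq {s : G} (hs : s ∈ S) (h : orderOf s = 2) : s = A ^ (2 ^ k : ℕ) := by
  have hsq : s * s = 1 := by rw [← pow_two, ← h, pow_orderOf_eq_one]
  obtain ⟨j, rfl | rfl⟩ := Q.hgen s hs
  · rw [← zpow_add] at hsq
    obtain ⟨c, hc⟩ := Q.zpow_eq_one hsq
    rw [pow_succ] at hc
    push_cast at hc
    have hj : j = 2 ^ k * c := by linarith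
    rcases Int.even_or_odd c with ⟨d, rfl⟩ | ⟨d, rfl⟩
    · exfalso
      have : A ^ j = 1 := by
        rw [hj, show (2 : ℤ) ^ k * (d + d) = ((2 ^ (k + 1) : ℕ) : ℤ) * d by push_cast; ring,
          zpow_mul, zpow_natCast, Q.A_two_pow, one_zpow]
      rw [this, orderOf_one] at h
      omega
    · rw [hj, show (2 : ℤ) ^ k * (2 * d + 1)
        = ((2 ^ (k + 1) : ℕ) : ℤ) * d + ((2 ^ k : ℕ) : ℤ) by push_cast; ring,
        zpow_add, zpow_mul, zpow_natCast, zpow_natCast, Q.A_two_pow, one_zpow, one_mul]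
  · exfalso
    apply Q.u_ne_one
    rw [← hsq]
    calc A ^ (2 ^ k : ℕ) = (B * A ^ j * B⁻¹) * (B * B) * A ^ j := by
          rw [Q.conj_pow, Q.hB2, mul_assoc, (Commute.refl A).pow_left _ |>.zpow_right j |>.eq,
            ← mul_assoc, ← zpow_add, neg_add_cancel, zpow_zero, one_mul]
      _ = B * A ^ j * (B * A ^ j) := by group

variable [Finite G]

theorem invol_isConj {t : G} (ht : orderOf t = 2) : IsConj t (A ^ (2 ^ k : ℕ)) := by
  haveI : Fact (Nat.Prime 2) := ⟨Nat.prime_two⟩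
  have hp : IsPGroup 2 (Subgroup.zpowers t) :=
    IsPGroup.of_card (n := 1) (by rw [Nat.card_zpowers, ht, pow_one])
  obtain ⟨P, hP⟩ := hp.exists_le_sylow
  obtain ⟨g, rfl⟩ := MulAction.exists_smul_eq G S P
  have h1 : g⁻¹ * t * g ∈ S := by
    have := hP (Subgroup.mem_zpowers t)
    rw [Sylow.coe_subgroup_smul, Subgroup.pointwise_smul_def] at this
    obtain ⟨s, hs, rfl⟩ := this
    show g⁻¹ * (g * s * g⁻¹) * g ∈ S
    simpa [mul_assoc] using hs
  have h2 : orderOf (g⁻¹ * t * g) = 2 := by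
    rw [← ht]
    have := MulEquiv.orderOf_eq (MulAut.conj g⁻¹) t
    simpa using this
  rw [← Q.invol_eq h1 h2]
  exact isConj_iff.2 ⟨g⁻¹, by group⟩

theorem commuting_invol_eq {x w : G} (hx : orderOf x = 2) (hw : orderOf w = 2)
    (hc : Commute x w) : x = w := by
  haveI : Fact (Nat.Prime 2) := ⟨Nat.prime_two⟩
  have hpx : IsPGroup 2 (Subgroup.zpowers x) :=
    IsPGroup.of_card (n := 1) (by rw [Nat.card_zpowers, hx, pow_one])
  have hpw : IsPGroup 2 (Subgroup.zpowers w) :=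
    IsPGroup.of_card (n := 1) (by rw [Nat.card_zpowers, hw, pow_one])
  have hn : Subgroup.zpowers x ≤ Subgroup.normalizer ((Subgroup.zpowers w : Subgroup G) : Set G) := by
    rw [Subgroup.zpowers_le, Subgroup.mem_normalizer_iff]
    intro h
    have key : ∀ y : G, y ∈ Subgroup.zpowers w → x * y * x⁻¹ = y := by
      rintro y ⟨i, rfl⟩
      rw [(hc.zpow_right i).eq, mul_inv_cancel_right]
    refine ⟨fun hh => by rw [key h hh]; exact hh, fun hh => ?_⟩
    have h1 := key _ hh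
    have : x * h * x⁻¹ = h := by
      apply mul_left_cancel (a := x)
      apply mul_right_cancel (b := x⁻¹)
      exact h1
    rwa [this] at hh
  obtain ⟨P, hP⟩ := (hpx.to_sup_of_normal_right' hpw hn).exists_le_sylow
  obtain ⟨g, rfl⟩ := MulAction.exists_smul_eq G S P
  have key : ∀ t : G, orderOf t = 2 → t ∈ (g • S : Sylow 2 G) → g⁻¹ * t * g = A ^ (2 ^ k : ℕ) := by
    intro t ht htm
    change t ∈ ((g • S : Sylow 2 G) : Subgroup G) at htm
    rw [Sylow.coe_subgroup_smul, Subgroup.pointwise_smul_def] at htm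
    obtain ⟨s, hs, rfl⟩ := htm
    have e1 : g⁻¹ * (g * s * g⁻¹) * g = s := by group
    show g⁻¹ * (g * s * g⁻¹) * g = _
    rw [e1]
    refine Q.invol_eq hs ?_
    rw [← ht]
    exact (MulEquiv.orderOf_eq (MulAut.conj g) s).symm
  have h1 := (key x hx (hP (Subgroup.mem_sup_left (Subgroup.mem_zpowers x)))).trans
    (key w hw (hP (Subgroup.mem_sup_right (Subgroup.mem_zpowers w)))).symm
  exact mul_left_cancel (mul_right_cancel h1)

theorem not_four_dvd_of_invol_mul {x y : G} (hx : orderOf x = 2) (hy : orderOf y = 2) :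
    ¬ 4 ∣ orderOf (x * y) := by
  intro h4
  obtain ⟨c, hc⟩ := h4
  have hxx : x * x = 1 := by rw [← pow_two, ← hx, pow_orderOf_eq_one]
  have hyy : y * y = 1 := by rw [← pow_two, ← hy, pow_orderOf_eq_one]
  set z := (x * y) ^ c with hz
  have hc0 : c ≠ 0 := by
    rintro rfl
    rw [mul_zero] at hc
    exact (orderOf_pos (x * y)).ne' hc
  have hzo : orderOf z = 4 := by
    rw [hz, orderOf_pow_of_dvd hc0 (Dvd.intro_left 4 hc.symm), hc,
      Nat.mul_div_cancel _ (Nat.pos_of_ne_zero hc0)]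
  have hinv : x * z * x⁻¹ = z⁻¹ := by
    rw [hz, ← _root_.conj_pow, ← inv_pow]
    congr 1
    rw [mul_inv_rev, inv_eq_of_mul_eq_one_right hxx, inv_eq_of_mul_eq_one_right hyy,
      ← mul_assoc x x y, hxx, one_mul]
  have hw : orderOf (z ^ 2) = 2 := by
    rw [orderOf_pow_of_dvd two_ne_zero (by rw [hzo]; norm_num), hzo]
  have hcw : Commute x (z ^ 2) := by
    have h1 : x * z ^ 2 * x⁻¹ = z ^ 2 := by
      rw [← _root_.conj_pow, hinv, inv_pow, inv_eq_of_mul_eq_one_left]
      rw [← pow_add, show 2 + 2 = orderOf z by omega, pow_orderOf_eq_one]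
    show x * z ^ 2 = z ^ 2 * x
    calc x * z ^ 2 = x * z ^ 2 * x⁻¹ * x := by group
      _ = z ^ 2 * x := by rw [h1]
  have hxw := Q.commuting_invol_eq hx hw hcw
  have h1 : x * z * x⁻¹ = z := by rw [hxw]; group
  rw [hinv, inv_eq_iff_mul_eq_one, ← pow_two] at h1
  rw [h1, orderOf_one] at hw
  omega


end QBase

namespace QData

variable {S : Sylow 2 G} {k : ℕ} {A B : G} (Q : QData S k A B)
include Q

theorem k_pos : 1 ≤ k := le_trans one_le_two Q.hk

theorem A_four_ne : A ^ (4 : ℤ) ≠ 1 := by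
  intro h
  have h1 := Q.zpow_eq_one h
  have h2 : 2 ^ 3 ≤ 2 ^ (k + 1) := Nat.pow_le_pow_right two_pos (by have := Q.hk; omega)
  have := Int.le_of_dvd (by norm_num) h1
  push_cast at this
  have h3 : (2 : ℤ) ^ 3 ≤ 2 ^ (k + 1) := by exact_mod_cast h2
  omega

theorem A_mem_Xc : A ∈ Xc A := mem_Xc.2 (by group)

theorem B_notMem_Xc : B ∉ Xc A := by
  intro h
  rw [mem_Xc] at h
  apply Q.A_four_ne
  have := Q.conj_pow 2
  rw [zpow_ofNat] at this
  rw [h, zpow_neg, zpow_ofNat, eq_inv_iff_mul_eq_one, ← pow_add] at this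
  rw [zpow_ofNat]
  exact this

theorem central_eq {z : G} (hz : z ∈ S) (hc : ∀ s ∈ S, z * s = s * z) : z * z = 1 := by
  obtain ⟨j, rfl | rfl⟩ := Q.hgen z hz
  · rcases Q.comm_B j with h | h
    · exact absurd (hc B Q.hB).symm h
    · rw [← zpow_add]; exact h
  · exfalso
    have h := hc A Q.hA
    apply Q.B_notMem_Xc
    have h1 : B * A = A * B := by
      have : B * A * A ^ j = A * B * A ^ j := by
        calc B * A * A ^ j = B * A ^ j * A := by group
          _ = A * (B * A ^ j) := h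
          _ = A * B * A ^ j := by group
      exact mul_right_cancel this
    exact mem_Xc.2 (by
      rw [(Commute.pow_right (h1 : Commute B A) 2).eq, mul_inv_cancel_right])

theorem S_le_Nn : (S : Subgroup G) ≤ Nn A := by
  intro s hs
  obtain ⟨j, rfl | rfl⟩ := Q.hgen s hs
  · exact Xc_le_Nn A (zpow_mem Q.A_mem_Xc j)
  · refine mul_mem ?_ (Xc_le_Nn A (zpow_mem Q.A_mem_Xc j))
    rw [Nn, Dg, Subgroup.mem_normalizer_iff]
    intro h
    constructor
    · rintro ⟨i, rfl⟩
      refine ⟨-i, ?_⟩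
      show (A ^ 2) ^ (-i) = B * (A ^ 2) ^ i * B⁻¹
      rw [← zpow_natCast, ← zpow_mul, ← zpow_mul, Q.conj_pow, mul_neg]
    · rintro ⟨i, hi⟩
      refine ⟨-i, ?_⟩
      show (A ^ 2) ^ (-i) = h
      have h1 : h = B⁻¹ * (A ^ 2) ^ i * B := by
        show h = _
        rw [show (A ^ 2) ^ i = B * h * B⁻¹ from hi]; group
      rw [h1, ← zpow_natCast, ← zpow_mul, ← zpow_mul]
      have h2 := Q.conj_pow ((2 : ℕ) * -i)
      rw [show -(((2 : ℕ) : ℤ) * -i) = (2 : ℕ) * i by ring] at h2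
      rw [← h2]; group

theorem B_mem_Nn : B ∈ Nn A := Q.S_le_Nn Q.hB

theorem orderOf_sq : orderOf (A ^ 2) = 2 ^ k := by
  rw [orderOf_pow_of_dvd two_ne_zero (by rw [Q.hord]; exact dvd_pow_self 2 (Nat.succ_ne_zero _)),
    Q.hord, pow_succ, Nat.mul_div_cancel _ two_pos]

theorem card_Dg : Nat.card (Dg A) = 2 ^ k := by rw [Dg, Nat.card_zpowers, Q.orderOf_sq]

theorem derived_eq : ⁅(S : Subgroup G), (S : Subgroup G)⁆ = Dg A := by
  apply le_antisymm
  · rw [Subgroup.commutator_le]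
    have hBB : ∀ l : ℤ, B * B * A ^ l = A ^ l * (B * B) := fun l => by
      rw [Q.hB2]; exact ((Commute.refl A).pow_left _).zpow_right l |>.eq
    suffices h : ∀ s ∈ S, ∀ t ∈ S, ∃ l : ℤ, ⁅s, t⁆ = A ^ (l + l) by
      intro s hs t ht
      obtain ⟨l, hl⟩ := h s hs t ht
      exact ⟨l, by show (A ^ 2) ^ l = _; rw [hl, ← zpow_natCast, ← zpow_mul]; congr 1; push_cast; ring⟩
    intro s hs t ht
    obtain ⟨i, rfl | rfl⟩ := Q.hgen s hs <;> obtain ⟨j, rfl | rfl⟩ := Q.hgen t ht
    · exact ⟨0, by rw [commutatorElement_def]; group⟩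
    · refine ⟨i, ?_⟩
      calc ⁅A ^ i, B * A ^ j⁆ = A ^ i * (B * A ^ (-i) * B⁻¹) := by
            rw [commutatorElement_def]; group
        _ = A ^ (i + i) := by rw [Q.conj_pow, neg_neg, ← zpow_add]
    · refine ⟨-j, ?_⟩
      calc ⁅B * A ^ i, A ^ j⁆ = (B * A ^ j * B⁻¹) * A ^ (-j) := by
            rw [commutatorElement_def]; group
        _ = A ^ (-j + -j) := by rw [Q.conj_pow, ← zpow_add]
    · refine ⟨j - i, ?_⟩
      calc ⁅B * A ^ i, B * A ^ j⁆
          = (B * A ^ i * B⁻¹) * (B * B * A ^ (j - i) * (B * B)⁻¹) * (B * A ^ (-j) * B⁻¹) := by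
            rw [commutatorElement_def]; group
        _ = A ^ (-i) * A ^ (j - i) * A ^ j := by
            rw [Q.conj_pow, Q.conj_pow, hBB, mul_inv_cancel_right, neg_neg]
        _ = A ^ (j - i + (j - i)) := by rw [← zpow_add, ← zpow_add]; congr 1; ring
  · rw [Dg, Subgroup.zpowers_le]
    have h := Subgroup.commutator_mem_commutator Q.hA Q.hB
    have e1 : ⁅A, B⁆ = A ^ 2 := by
      calc ⁅A, B⁆ = A * (B * A ^ (-1 : ℤ) * B⁻¹) := by rw [commutatorElement_def]; group
        _ = A ^ 2 := by rw [Q.conj_pow, neg_neg, zpow_one, pow_two]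
    rwa [e1] at h

variable [Finite G]

theorem sylow_le_zpowers {P : Subgroup G} (hP : IsPGroup 2 P) (hPX : P ≤ Xc A) :
    Nat.card P ≤ 2 ^ (k + 1) := by
  haveI : Fact (Nat.Prime 2) := ⟨Nat.prime_two⟩
  by_contra hlt
  push Not at hlt
  obtain ⟨P', hP'⟩ := hP.exists_le_sylow
  have hc : Nat.card (P' : Subgroup G) = 2 ^ (k + 2) := by
    rw [Sylow.card_eq_multiplicity P', ← Sylow.card_eq_multiplicity S, Q.hcard]
  obtain ⟨l, hl⟩ := IsPGroup.iff_card.1 hP
  rw [hl] at hlt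
  have hl' : k + 1 < l := (Nat.pow_lt_pow_iff_right one_lt_two).1 hlt
  have hPe : P = (P' : Subgroup G) := Subgroup.eq_of_le_of_card_ge hP' (by
    rw [hc, hl]; exact Nat.pow_le_pow_right two_pos hl')
  obtain ⟨g, rfl⟩ := MulAction.exists_smul_eq G S P'
  have hAX : A ^ 2 ∈ (g • S : Sylow 2 G) := by
    -- `A ^ 2` centralises `P`, so lies in it
    have hp2 : IsPGroup 2 (Dg A) := IsPGroup.of_card Q.card_Dg
    have hn : Dg A ≤ Subgroup.normalizer (((g • S : Sylow 2 G) : Subgroup G) : Set G) := by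
      intro d hd
      rw [Subgroup.mem_normalizer_iff]
      intro h
      have key : ∀ y ∈ ((g • S : Sylow 2 G) : Subgroup G), d * y * d⁻¹ = y := by
        intro y hy
        have h1 : d * y = y * d := (Subgroup.mem_centralizer_iff.1 (hPX (hPe.ge hy))) d hd
        rw [h1, mul_inv_cancel_right]
      refine ⟨fun hh => by rw [key h hh]; exact hh, fun hh => ?_⟩
      have h1 := key _ hh
      have : d * h * d⁻¹ = h := by
        apply mul_left_cancel (a := d)
        apply mul_right_cancel (b := d⁻¹)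
        exact h1
      rwa [this] at hh
    have hsup := (g • S : Sylow 2 G).3 (hp2.to_sup_of_normal_right' (g • S : Sylow 2 G).2 hn)
      le_sup_right
    have hm : A ^ 2 ∈ Dg A ⊔ ((g • S : Sylow 2 G) : Subgroup G) :=
      Subgroup.mem_sup_left (Subgroup.mem_zpowers _)
    rwa [hsup] at hm
  change A ^ 2 ∈ ((g • S : Sylow 2 G) : Subgroup G) at hAX
  rw [Sylow.coe_subgroup_smul, Subgroup.pointwise_smul_def] at hAX
  obtain ⟨s, hs, hsA⟩ := hAX
  change g * s * g⁻¹ = A ^ 2 at hsA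
  have hcs : ∀ t ∈ S, s * t = t * s := by
    intro t ht
    have htP : g * t * g⁻¹ ∈ P := by
      rw [hPe, Sylow.coe_subgroup_smul, Subgroup.pointwise_smul_def]
      exact ⟨t, ht, rfl⟩
    have h1 := mem_Xc.1 (hPX htP)
    rw [← hsA] at h1
    have h2 : g * (t * s * t⁻¹) * g⁻¹ = g * s * g⁻¹ := by rw [← h1]; group
    have h3 := mul_left_cancel (mul_right_cancel h2)
    calc s * t = t * s * t⁻¹ * t := by rw [h3]
      _ = t * s := by group
  have := Q.central_eq hs hcs
  apply Q.A_four_ne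
  rw [zpow_ofNat, show (4 : ℕ) = 2 + 2 from rfl, pow_add, ← hsA]
  calc g * s * g⁻¹ * (g * s * g⁻¹) = g * (s * s) * g⁻¹ := by group
    _ = 1 := by rw [this]; group

theorem index_two : ((Xc A).subgroupOf (Nn A)).index = 2 := by
  haveI : Fact (Nat.Prime 2) := ⟨Nat.prime_two⟩
  set i := ((Xc A).subgroupOf (Nn A)).index with hi
  have hdvd : i ∣ 2 ^ k := by
    haveI : IsCyclic (Dg A) := Subgroup.isCyclic_zpowers (A ^ 2)
    have hker : (Subgroup.normalizerMonoidHom (Dg A)).ker = (Xc A).subgroupOf (Nn A) :=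
      Subgroup.normalizerMonoidHom_ker _
    have h1 : i ∣ Nat.card (MulAut (Dg A)) := by
      have h0 := Subgroup.card_subgroup_dvd_card (Subgroup.normalizerMonoidHom (Dg A)).range
      rw [← Subgroup.index_ker, hker] at h0
      exact h0
    rw [IsCyclic.card_mulAut, Q.card_Dg, Nat.totient_prime_pow Nat.prime_two Q.k_pos] at h1
    simp only [Nat.reduceSub, mul_one] at h1
    exact h1.trans (pow_dvd_pow 2 (Nat.sub_le _ _))
  obtain ⟨j, -, hj⟩ := (Nat.dvd_prime_pow Nat.prime_two).1 hdvd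
  have hmul : Nat.card (Xc A) * i = Nat.card (Nn A) := by
    rw [hi, ← Nat.card_congr (Subgroup.subgroupOfEquivOfLe (Xc_le_Nn A)).toEquiv,
      Subgroup.card_mul_index]
  have hSN : 2 ^ (k + 2) ∣ Nat.card (Nn A) := Q.hcard ▸ Subgroup.card_dvd_of_le Q.S_le_Nn
  have hNG : ¬ 2 ^ (k + 3) ∣ Nat.card G := by
    rw [← (S : Subgroup G).card_mul_index, Q.hcard, pow_succ]
    intro h
    exact S.not_dvd_index ((Nat.mul_dvd_mul_iff_left (by positivity)).1 h)
  have hX : 2 ^ (k + 1) ∣ Nat.card (Xc A) := by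
    rw [← Q.hord, ← Nat.card_zpowers]
    exact Subgroup.card_dvd_of_le (Subgroup.zpowers_le.2 Q.A_mem_Xc)
  have hX' : ¬ 2 ^ (k + 2) ∣ Nat.card (Xc A) := by
    intro h
    obtain ⟨H, hH⟩ := Sylow.exists_subgroup_card_pow_prime 2 h
    have hHG : Nat.card (H.map (Xc A).subtype) = 2 ^ (k + 2) := by
      rw [← Nat.card_congr (H.equivMapOfInjective _ Subtype.val_injective).toEquiv, hH]
    have := Q.sylow_le_zpowers (IsPGroup.of_card hHG) (Subgroup.map_subtype_le H)
    rw [hHG, Nat.pow_le_pow_iff_right one_lt_two] at this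
    omega
  rw [hj] at hmul ⊢
  obtain ⟨c, hc⟩ := hX
  have hodd : ¬ 2 ∣ c := fun ⟨d, hd⟩ => hX' ⟨d, by rw [hc, hd]; ring⟩
  rcases j with _ | _ | j
  · exfalso
    rw [← hmul, pow_zero, mul_one] at hSN
    exact hX' hSN
  · rw [pow_one]
  · exfalso
    apply hNG
    refine dvd_trans ?_ (Subgroup.card_subgroup_dvd_card (Nn A))
    rw [← hmul, hc]
    exact ⟨c * 2 ^ j, by ring⟩

theorem Nn_cases {x : G} (hx : x ∈ Nn A) : x ∈ Xc A ∨ B⁻¹ * x ∈ Xc A := by
  by_contra h
  push Not at h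
  have := (Subgroup.mul_mem_iff_of_index_two Q.index_two (a := (⟨B, Q.B_mem_Nn⟩ : Nn A)⁻¹)
    (b := ⟨x, hx⟩)).2
  apply h.2
  simp only [Subgroup.mem_subgroupOf] at this
  refine this ⟨fun hh => ?_, fun hh => absurd hh h.1⟩
  exact absurd ((inv_mem_iff).1 hh) Q.B_notMem_Xc

/-- The cyclic Sylow 2-subgroup of the centraliser. -/
theorem sylow_card_index :
    ¬ 2 ∣ ((Subgroup.zpowers A).subgroupOf (Xc A)).index := by
  haveI : Fact (Nat.Prime 2) := ⟨Nat.prime_two⟩
  intro h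
  set Z := (Subgroup.zpowers A).subgroupOf (Xc A) with hZ
  have hc : Nat.card Z = 2 ^ (k + 1) := by
    rw [hZ, Nat.card_congr (Subgroup.subgroupOfEquivOfLe
      (Subgroup.zpowers_le.2 Q.A_mem_Xc)).toEquiv, Nat.card_zpowers, Q.hord]
  have hd : 2 ^ (k + 2) ∣ Nat.card (Xc A) := by
    rw [← Z.card_mul_index, hc, pow_succ]
    exact mul_dvd_mul_left _ h
  obtain ⟨H, hH⟩ := Sylow.exists_subgroup_card_pow_prime 2 hd
  have hHG : Nat.card (H.map (Xc A).subtype) = 2 ^ (k + 2) := by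
    rw [← Nat.card_congr (H.equivMapOfInjective _ Subtype.val_injective).toEquiv, hH]
  have := Q.sylow_le_zpowers (IsPGroup.of_card hHG) (Subgroup.map_subtype_le H)
  rw [hHG, Nat.pow_le_pow_iff_right one_lt_two] at this
  omega

/-- The retraction of the centraliser onto its cyclic Sylow 2-subgroup. -/
theorem exists_retraction :
    ∃ f : Xc A →* Subgroup.zpowers A, (∀ y : Xc A, f y = 1 ↔ Odd (orderOf y)) ∧
      ∃ j : ℕ, Odd j ∧ f ⟨A, Q.A_mem_Xc⟩ = ⟨A, Subgroup.mem_zpowers A⟩ ^ j := by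
  haveI : Fact (Nat.Prime 2) := ⟨Nat.prime_two⟩
  set Z := (Subgroup.zpowers A).subgroupOf (Xc A) with hZ
  have hle : Subgroup.zpowers A ≤ Xc A := Subgroup.zpowers_le.2 Q.A_mem_Xc
  have hcZ : Nat.card Z = 2 ^ (k + 1) := by
    rw [hZ, Nat.card_congr (Subgroup.subgroupOfEquivOfLe hle).toEquiv, Nat.card_zpowers, Q.hord]
  have hpZ : IsPGroup 2 Z := IsPGroup.of_card hcZ
  let P : Sylow 2 (Xc A) := hpZ.toSylow Q.sylow_card_index
  have hcyc : IsCyclic (P : Subgroup (Xc A)) := by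
    show IsCyclic Z
    exact isCyclic_of_surjective _ (Subgroup.subgroupOfEquivOfLe hle).symm.surjective
  have heven : 2 ∣ Nat.card (Xc A) :=
    dvd_trans (dvd_pow_self 2 (Nat.succ_ne_zero k)) (hcZ ▸ Subgroup.card_subgroup_dvd_card Z)
  have hmin : (Nat.card (Xc A)).minFac = 2 := (Nat.minFac_eq_two_iff _).2 heven
  have hP := IsCyclic.normalizer_le_centralizer (P := P) hmin hcyc
  let f := MonoidHom.transferSylow P hP
  let i : (P : Subgroup (Xc A)) ≃* Subgroup.zpowers A := Subgroup.subgroupOfEquivOfLe hle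
  refine ⟨i.toMonoidHom.comp f, fun y => ?_, (P : Subgroup (Xc A)).index, ?_, ?_⟩
  · show i (f y) = 1 ↔ _
    rw [MulEquiv.map_eq_one_iff]
    constructor
    · intro hy
      rw [← Nat.not_even_iff_odd, even_iff_two_dvd]
      intro h2
      apply MonoidHom.not_dvd_card_ker_transferSylow P hP
      refine h2.trans ?_
      rw [← Nat.card_zpowers]
      exact Subgroup.card_dvd_of_le (Subgroup.zpowers_le.2 hy)
    · intro hodd
      rw [← orderOf_eq_one_iff]
      obtain ⟨l, hl⟩ := IsPGroup.iff_orderOf.1 P.2 (f y)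
      have hd := orderOf_map_dvd f y
      rw [hl] at hd ⊢
      rcases l with _ | l
      · rfl
      · exact absurd (even_iff_two_dvd.2 ((dvd_pow_self 2 (Nat.succ_ne_zero l)).trans hd))
          (Nat.not_even_iff_odd.2 hodd)
  · rw [← Nat.not_even_iff_odd, even_iff_two_dvd]
    exact P.not_dvd_index
  · show i (f ⟨A, Q.A_mem_Xc⟩) = _
    have := MonoidHom.transferSylow_eq_pow P hP ⟨A, Q.A_mem_Xc⟩
      (Subgroup.mem_subgroupOf.2 (Subgroup.mem_zpowers A))
    rw [this]
    apply Subtype.ext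
    show ((⟨A, Q.A_mem_Xc⟩ : Xc A) ^ (P : Subgroup (Xc A)).index : Xc A).1 = _
    simp

theorem pow_mem_Dg {y : G} (hy : y ∈ Xc A) (h : 2 ^ k ∣ orderOf y) : Dg A ≤ Subgroup.zpowers y := by
  haveI : Fact (Nat.Prime 2) := ⟨Nat.prime_two⟩
  obtain ⟨c, hc⟩ := h
  have hc0 : c ≠ 0 := by
    rintro rfl
    rw [mul_zero] at hc
    exact (orderOf_pos y).ne' hc
  set z := y ^ c with hz
  have hzo : orderOf z = 2 ^ k := by
    rw [hz, orderOf_pow_of_dvd hc0 (Dvd.intro_left _ hc.symm), hc,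
      Nat.mul_div_cancel _ (Nat.pos_of_ne_zero hc0)]
  set Z := (Subgroup.zpowers A).subgroupOf (Xc A) with hZ
  have hle : Subgroup.zpowers A ≤ Xc A := Subgroup.zpowers_le.2 Q.A_mem_Xc
  have hcZ : Nat.card Z = 2 ^ (k + 1) := by
    rw [hZ, Nat.card_congr (Subgroup.subgroupOfEquivOfLe hle).toEquiv, Nat.card_zpowers, Q.hord]
  let P : Sylow 2 (Xc A) := (IsPGroup.of_card hcZ).toSylow Q.sylow_card_index
  set z' : Xc A := ⟨z, pow_mem hy c⟩ with hz'
  have hp : IsPGroup 2 (Subgroup.zpowers z') := IsPGroup.of_card (n := k) (by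
    rw [Nat.card_zpowers, ← Subgroup.orderOf_coe, hz', hzo])
  obtain ⟨P', hP'⟩ := hp.exists_le_sylow
  obtain ⟨x, rfl⟩ := MulAction.exists_smul_eq (Xc A) P P'
  have hm := hP' (Subgroup.mem_zpowers z')
  rw [Sylow.coe_subgroup_smul, Subgroup.pointwise_smul_def] at hm
  obtain ⟨s, hs, hsz⟩ := hm
  change x * s * x⁻¹ = z' at hsz
  have hsA : (s : G) ∈ Subgroup.zpowers A := hs
  obtain ⟨j, hj⟩ := hsA
  have hj' : (s : G) = A ^ j := hj.symm
  have hso : orderOf (s : G) = 2 ^ k := by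
    rw [← hzo]
    have : z = (MulAut.conj (x : G)) (s : G) := by
      rw [MulAut.conj_apply]; exact (congrArg Subtype.val hsz).symm
    rw [this, MulEquiv.orderOf_eq]
  have heven : Even j := by
    have h1 : A ^ (j * (2 ^ k : ℕ)) = 1 := by
      rw [zpow_mul, ← hj', zpow_natCast, ← hso, pow_orderOf_eq_one]
    obtain ⟨d, hd⟩ := Q.zpow_eq_one h1
    rw [pow_succ] at hd
    push_cast at hd
    have hkne : (2 : ℤ) ^ k ≠ 0 := pow_ne_zero _ two_ne_zero
    exact ⟨d, mul_left_cancel₀ hkne (by linarith)⟩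
  have hsD : (s : G) ∈ Dg A := by
    obtain ⟨d, rfl⟩ := heven
    refine ⟨d, ?_⟩
    show (A ^ 2) ^ d = _
    rw [hj', ← zpow_natCast, ← zpow_mul]; congr 1; push_cast; ring
  have hxs : z = (s : G) := by
    refine (congrArg Subtype.val hsz).symm.trans ?_
    show (x : G) * (s : G) * (x : G)⁻¹ = s
    have := Subgroup.mem_centralizer_iff.1 x.2 _ hsD
    rw [← this, mul_inv_cancel_right]
  have heq : Subgroup.zpowers z = Dg A := Subgroup.eq_of_le_of_card_ge
    (Subgroup.zpowers_le.2 (hxs ▸ hsD)) (by rw [Q.card_Dg, Nat.card_zpowers, hzo])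
  rw [← heq, Subgroup.zpowers_le]
  exact ⟨c, by show y ^ (c : ℤ) = z; rw [zpow_natCast]⟩

theorem mem_Nn_of_conj {g y : G} (hy : y ∈ Xc A) (h : 2 ^ k ∣ orderOf y)
    (hg : g * y * g⁻¹ ∈ Xc A) : g ∈ Nn A := by
  have h' : 2 ^ k ∣ orderOf (g * y * g⁻¹) := by
    rw [show g * y * g⁻¹ = MulAut.conj g y from rfl, MulEquiv.orderOf_eq]; exact h
  have h1 := Q.pow_mem_Dg hy h
  have h2 := Q.pow_mem_Dg hg h'
  have h3 : (Dg A).map (MulAut.conj g).toMonoidHom ≤ Subgroup.zpowers (g * y * g⁻¹) :=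
    (Subgroup.map_mono h1).trans (le_of_eq (MonoidHom.map_zpowers _ _))
  have hcyc : IsCyclic (Subgroup.zpowers (g * y * g⁻¹)) := Subgroup.isCyclic_zpowers _
  have hcard : Nat.card ((Dg A).map (MulAut.conj g).toMonoidHom) = Nat.card (Dg A) :=
    (Nat.card_congr ((Dg A).equivMapOfInjective _ (MulAut.conj g).injective).toEquiv).symm
  have h4 : (Dg A).map (MulAut.conj g).toMonoidHom = Dg A := by
    have e1 : ((Dg A).map (MulAut.conj g).toMonoidHom).subgroupOf (Subgroup.zpowers (g * y * g⁻¹))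
        = (Dg A).subgroupOf (Subgroup.zpowers (g * y * g⁻¹)) := by
      apply cyclic_subgroup_ext
      rw [Nat.card_congr (Subgroup.subgroupOfEquivOfLe h3).toEquiv,
        Nat.card_congr (Subgroup.subgroupOfEquivOfLe h2).toEquiv, hcard]
    rw [← Subgroup.map_subgroupOf_eq_of_le h3, e1, Subgroup.map_subgroupOf_eq_of_le h2]
  rw [Nn, Subgroup.mem_normalizer_iff]
  intro d
  constructor
  · intro hd
    rw [← h4]
    exact ⟨d, hd, rfl⟩
  · intro hd
    have : g * d * g⁻¹ ∈ (Dg A).map (MulAut.conj g).toMonoidHom := h4.ge hd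
    obtain ⟨d', hd', hdd⟩ := this
    have : d' = d := (MulAut.conj g).injective hdd
    exact this ▸ hd'


end QData

end CfsgLib.Base.BS
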