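import Cfsg.Agent.Base.BrauerSuzuki

/-!
The exceptional characters of the Brauer–Suzuki theorem and their consequences.
-/

set_option autoImplicit false
set_option linter.unusedSectionVars false

namespace CfsgLib.Base.BS

open Cfsg CfsgLib.Char
open scoped ComplexConjugate commutatorElement

universe u

variable {G : Type u} [Group G]

open Classical in
/-- A generalized character of norm three containing the trivial character once and vanishing at
the identity is `1 + χ₂ - χ₁`. -/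
theorem decomp_three [Fintype G] {F : G → ℂ} (hF : IsGeneralizedCharacter G F)
    (hnorm : classInner F F = 3) (hone : classInner F (fun _ => 1) = 1) (h1 : F 1 = 0) :
    ∃ χ₁ χ₂ : IrrCharacter G, (χ₁ : G → ℂ) ≠ (fun _ => 1) ∧ (χ₂ : G → ℂ) ≠ (fun _ => 1) ∧
      ∀ g, F g = 1 + (χ₂ : G → ℂ) g - (χ₁ : G → ℂ) g := by
  obtain ⟨hcf, hn⟩ := isGeneralized_iff.1 hF
  choose n hn using hn
  have hexp : F = ∑ χ : IrrCharacter G, (n χ : ℂ) • (χ : G → ℂ) := by
    conv_lhs => rw [classFun_eq_sum hcf]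
    simp_rw [hn]
  have hsq : ∑ χ : IrrCharacter G, n χ * n χ = 3 := by
    have h : classInner F F = ∑ χ : IrrCharacter G, ((n χ * n χ : ℤ) : ℂ) := by
      conv_lhs => arg 1; rw [hexp]
      rw [classInner_sum_left]
      refine Finset.sum_congr rfl fun χ _ => ?_
      rw [classInner_smul_left, ← classInner_conj, hn, map_intCast, Int.cast_mul]
    rw [hnorm, ← Int.cast_sum] at h
    exact_mod_cast h.symm
  let o : IrrCharacter G := ⟨fun _ => 1, isIrr_one⟩
  have hno : n o = 1 := by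
    have := hn o
    rw [show (o : G → ℂ) = fun _ => 1 from rfl, hone] at this
    exact_mod_cast this.symm
  set T := (Finset.univ.erase o).filter (fun χ => n χ ≠ 0) with hT
  have hrest : ∑ χ ∈ T, n χ * n χ = 2 := by
    rw [hT, Finset.sum_filter_of_ne (p := fun χ => n χ ≠ 0) (fun χ _ h h0 => h (by rw [h0, mul_zero]))]
    have := Finset.add_sum_erase Finset.univ (fun χ => n χ * n χ) (Finset.mem_univ o)
    simp only [hno, mul_one] at this
    omega
  have hpm : ∀ χ ∈ T, n χ = 1 ∨ n χ = -1 := by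
    intro χ hχ
    have hle : n χ * n χ ≤ 2 := hrest ▸ Finset.single_le_sum
      (fun ψ _ => mul_self_nonneg (n ψ)) hχ
    have h0 := (Finset.mem_filter.1 hχ).2
    have h2 : n χ ≤ 1 := by nlinarith
    have h3 : -1 ≤ n χ := by nlinarith
    omega
  have hcard : T.card = 2 := by
    have : ∑ χ ∈ T, n χ * n χ = T.card := by
      rw [Finset.sum_congr rfl (fun χ hχ => show n χ * n χ = 1 by
        rcases hpm χ hχ with h | h <;> rw [h] <;> norm_num)]
      simp
    omega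
  obtain ⟨a, b, hab, hTab⟩ := Finset.card_eq_two.1 hcard
  have hFg : ∀ g, F g = 1 + (n a : ℂ) * (a : G → ℂ) g + (n b : ℂ) * (b : G → ℂ) g := by
    intro g
    conv_lhs => rw [hexp]
    rw [Finset.sum_apply, ← Finset.add_sum_erase _ _ (Finset.mem_univ o),
      ← Finset.sum_filter_of_ne (p := fun χ => n χ ≠ 0) (fun χ _ h h0 => h (by simp [h0])), ← hT,
      hTab, Finset.sum_pair hab]
    simp [hno, o, add_assoc]
  have haT : a ∈ T := hTab ▸ Finset.mem_insert_self a {b}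
  have hbT : b ∈ T := hTab ▸ Finset.mem_insert_of_mem (Finset.mem_singleton_self b)
  have hne : ∀ χ ∈ T, (χ : G → ℂ) ≠ fun _ => 1 := fun χ hχ h =>
    (Finset.mem_erase.1 (Finset.mem_filter.1 hχ).1).1 (Subtype.ext h)
  obtain ⟨da, hda0, hda⟩ := irr_deg a.2
  obtain ⟨db, hdb0, hdb⟩ := irr_deg b.2
  have hz := hFg 1
  rw [h1, hda, hdb] at hz
  have hz' : (0 : ℤ) = 1 + n a * da + n b * db := by exact_mod_cast hz
  rcases hpm a haT with h | h <;> rcases hpm b hbT with h' | h' <;> rw [h, h'] at hz'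
  · omega
  · exact ⟨b, a, hne b hbT, hne a haT, fun g => by rw [hFg g, h, h']; push_cast; ring⟩
  · exact ⟨a, b, hne a haT, hne b hbT, fun g => by rw [hFg g, h, h']; push_cast; ring⟩
  · omega

namespace QData

variable [Fintype G] {S : Sylow 2 G} {k : ℕ} {A B : G} (Q : QData S k A B)
include Q

/-- The linear character of order four of the centraliser. -/
theorem exists_mu : ∃ μ : Xc A →* ℂˣ, (∀ y, μ y ^ 4 = 1) ∧
    ((μ ⟨A, Q.A_mem_Xc⟩ : ℂ) ^ 2 = -1) ∧
    (∀ y : Xc A, μ y ≠ 1 → 2 ^ k ∣ orderOf (y : G)) ∧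
    (∀ y : Xc A, μ ⟨B * y * B⁻¹, conj_mem_Xc Q.B_mem_Nn y.2⟩ = (μ y)⁻¹) := by
  obtain ⟨f, hf, j, hj, hfA⟩ := Q.exists_retraction
  set gen : Subgroup.zpowers A := ⟨A, Subgroup.mem_zpowers A⟩ with hgen
  have hgm : ∀ x : Subgroup.zpowers A, x ∈ Subgroup.zpowers gen := by
    rintro ⟨x, i, rfl⟩
    exact ⟨i, Subtype.ext rfl⟩
  have hgo : orderOf gen = 2 ^ (k + 1) := by rw [← Subgroup.orderOf_coe, hgen, Q.hord]
  let iu : ℂˣ := Units.mk0 Complex.I Complex.I_ne_zero
  have hi4 : iu ^ 4 = 1 := Units.ext (by simp [iu])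
  have h4 : 4 ∣ 2 ^ (k + 1) := by
    have := pow_dvd_pow 2 (show 2 ≤ k + 1 by have := Q.hk; omega)
    simpa using this
  have hdvd : orderOf iu ∣ orderOf gen := by
    rw [hgo]
    exact (orderOf_dvd_of_pow_eq_one hi4).trans h4
  let h := monoidHomOfForallMemZpowers hgm hdvd
  have hhg : h gen = iu := monoidHomOfForallMemZpowers_apply_gen _ _
  have hμ4 : ∀ y, (h.comp f) y ^ 4 = 1 := by
    intro y
    obtain ⟨i, hi⟩ := hgm (f y)
    show h (f y) ^ 4 = 1
    rw [← hi, map_zpow, hhg, ← zpow_natCast, ← zpow_mul, mul_comm i, zpow_mul, zpow_natCast, hi4,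
      one_zpow]
  have hodd1 : ∀ y : Xc A, Odd (orderOf y) → (h.comp f) y = 1 := fun y hy => by
    show h (f y) = 1
    rw [(hf y).2 hy, map_one]
  refine ⟨h.comp f, hμ4, ?_, ?_, ?_⟩
  · show (h (f ⟨A, Q.A_mem_Xc⟩) : ℂ) ^ 2 = -1
    rw [hfA, map_pow, hhg, Units.val_pow_eq_pow_val, ← pow_mul, mul_comm, pow_mul]
    show (Complex.I ^ 2) ^ j = -1
    rw [Complex.I_sq, hj.neg_one_pow]
  · intro y hy
    haveI : Fact (Nat.Prime 2) := ⟨Nat.prime_two⟩
    rw [Subgroup.orderOf_coe]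
    refine dvd_trans ?_ (orderOf_map_dvd f y)
    obtain ⟨l, -, hl⟩ := (Nat.dvd_prime_pow Nat.prime_two).1
      ((orderOf_dvd_natCard (f y)).trans (by rw [Nat.card_zpowers, Q.hord]))
    rw [hl]
    refine pow_dvd_pow 2 ?_
    by_contra hlk
    push Not at hlk
    apply hy
    show h (f y) = 1
    have hp : f y ^ (2 ^ (k - 1)) = 1 := by
      obtain ⟨d, hd⟩ := pow_dvd_pow 2 (show l ≤ k - 1 by omega)
      rw [hd, ← hl, pow_mul, pow_orderOf_eq_one, one_pow]
    obtain ⟨i, hi⟩ := hgm (f y)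
    change gen ^ i = f y at hi
    rw [← hi, ← zpow_natCast, ← zpow_mul] at hp
    have h1 := orderOf_dvd_iff_zpow_eq_one.2 hp
    rw [hgo] at h1
    obtain ⟨d, hd⟩ := h1
    have hk2 : (2 : ℤ) ^ (k + 1) = 4 * 2 ^ (k - 1) := by
      rw [show k + 1 = 2 + (k - 1) by have := Q.hk; omega, pow_add]; norm_num
    push_cast at hd
    rw [hk2] at hd
    have hne : (2 : ℤ) ^ (k - 1) ≠ 0 := pow_ne_zero _ two_ne_zero
    have hi' : i = 4 * d := mul_right_cancel₀ hne (by linarith)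
    rw [← hi, map_zpow, hhg, hi', zpow_mul, show iu ^ (4 : ℤ) = 1 by exact_mod_cast hi4, one_zpow]
  · intro y
    let cB : Xc A →* Xc A :=
      { toFun := fun y => ⟨B * y * B⁻¹, conj_mem_Xc Q.B_mem_Nn y.2⟩
        map_one' := by ext; simp
        map_mul' := fun a b => by ext; simp [mul_assoc] }
    let μ := h.comp f
    suffices ht : μ (cB y) * μ y = 1 from eq_inv_of_mul_eq_one_left ht
    obtain ⟨m, hm⟩ : ∃ m, ((gen ^ j) ^ m : Subgroup.zpowers A) = gen := by
      apply exists_pow_eq_self_of_coprime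
      rw [hgo]
      exact Nat.Coprime.pow_right _ (Nat.coprime_two_right.2 hj)
    obtain ⟨i, hi⟩ := hgm (f y)
    change gen ^ i = f y at hi
    set a : Xc A := (⟨A, Q.A_mem_Xc⟩ : Xc A) ^ ((m : ℤ) * i) with ha
    have hfa : f a = f y := by
      rw [ha, map_zpow, hfA, zpow_mul, zpow_natCast, hm, hi]
    set r := y * a⁻¹ with hr
    have hro : Odd (orderOf r) := (hf r).1 (by rw [hr, map_mul, map_inv, hfa, mul_inv_cancel])
    have hro' : Odd (orderOf (cB r)) := by
      rw [← Subgroup.orderOf_coe]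
      show Odd (orderOf (B * (r : G) * B⁻¹))
      rw [show B * (r : G) * B⁻¹ = MulAut.conj B (r : G) from rfl, MulEquiv.orderOf_eq,
        Subgroup.orderOf_coe]
      exact hro
    have hcBA : cB ⟨A, Q.A_mem_Xc⟩ = (⟨A, Q.A_mem_Xc⟩ : Xc A)⁻¹ := Subtype.ext Q.hconj
    have hy : y = r * a := by rw [hr, inv_mul_cancel_right]
    clear_value r
    rw [hy, map_mul, map_mul, map_mul, hodd1 r hro, hodd1 _ hro', one_mul, one_mul, ha, map_zpow cB,
      hcBA, inv_zpow, map_inv, inv_mul_cancel]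

theorem exists_exceptional : ∃ χ₁ χ₂ : IrrCharacter G,
    (χ₁ : G → ℂ) ≠ (fun _ => 1) ∧ (χ₂ : G → ℂ) ≠ (fun _ => 1) ∧
    (χ₁ : G → ℂ) 1 = (χ₂ : G → ℂ) 1 + 1 ∧
    (∀ g, ¬ 4 ∣ orderOf g → (χ₁ : G → ℂ) g - (χ₂ : G → ℂ) g = 1) ∧
    (χ₁ : G → ℂ) (A ^ (2 ^ k : ℕ)) = (χ₁ : G → ℂ) 1 ∧
    (χ₁ : G → ℂ) (A ^ 2) ≠ (χ₁ : G → ℂ) 1 := by
  classical
  obtain ⟨μ, hμ4, hμA, hμo, hμB⟩ := Q.exists_mu
  letI := Fintype.ofFinite (Xc A)
  let θ : Xc A → ℂ := fun y => 1 - (μ y : ℂ)
  let F : G → ℂ := indFun (Xc A) θ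
  have h4 : 4 ∣ 2 ^ k := (show (4 : ℕ) = 2 ^ 2 by norm_num) ▸ pow_dvd_pow 2 Q.hk
  have hext : ∀ w : G, extendByZero (Xc A) θ w ≠ 0 → w ∈ Xc A ∧ 2 ^ k ∣ orderOf w := by
    intro w hw
    by_cases hm : w ∈ Xc A
    · refine ⟨hm, hμo ⟨w, hm⟩ fun h => hw ?_⟩
      rw [extendByZero_mem' _ θ hm]
      show 1 - (μ ⟨w, hm⟩ : ℂ) = 0
      rw [h, Units.val_one, sub_self]
    · exact absurd (extendByZero_not_mem _ θ hm) hw
  have hzero : ∀ g, ¬ 4 ∣ orderOf g → F g = 0 := by
    intro g hg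
    show indFun (Xc A) θ g = 0
    rw [indFun_apply, Finset.sum_eq_zero fun x _ => ?_, mul_zero]
    by_contra h
    apply hg
    have := (hext _ h).2
    rw [show x⁻¹ * g * x = MulAut.conj x⁻¹ g by simp, MulEquiv.orderOf_eq] at this
    exact h4.trans this
  have hval : ∀ y : Xc A, μ y ≠ 1 → F y = 2 - (μ y : ℂ) - ((μ y)⁻¹ : ℂˣ) := by
    intro y hy
    show indFun (Xc A) θ y = _
    set Fx : G → ℂ := fun x => extendByZero (Xc A) θ (x⁻¹ * y * x) with hFx
    have hout : ∀ x, x ∉ Xc A → B⁻¹ * x ∉ Xc A → Fx x = 0 := by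
      intro x h1 h2
      by_contra h
      obtain ⟨hw, hwo⟩ := hext _ h
      have := Q.mem_Nn_of_conj (g := x) hw hwo (by
        rw [show x * (x⁻¹ * (y : G) * x) * x⁻¹ = y by group]; exact y.2)
      rcases Q.Nn_cases this with h' | h'
      · exact h1 h'
      · exact h2 h'
    have hdisj : ∀ x, x ∈ Xc A → B⁻¹ * x ∉ Xc A := fun x h1 h2 => Q.B_notMem_Xc (by
      have := mul_mem h1 (inv_mem h2)
      simpa using this)
    let F1 : G → ℂ := fun x => if x ∈ Xc A then Fx x else 0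
    let F2 : G → ℂ := fun x => if B⁻¹ * x ∈ Xc A then Fx x else 0
    have hsplit : ∀ x, Fx x = F1 x + F2 x := by
      intro x
      show Fx x = (if x ∈ Xc A then Fx x else 0) + (if B⁻¹ * x ∈ Xc A then Fx x else 0)
      by_cases h1 : x ∈ Xc A
      · rw [if_pos h1, if_neg (hdisj x h1), add_zero]
      · by_cases h2 : B⁻¹ * x ∈ Xc A
        · rw [if_neg h1, if_pos h2, zero_add]
        · rw [if_neg h1, if_neg h2, add_zero, hout x h1 h2]
    have hs1 : ∑ x : G, F1 x = (Nat.card (Xc A) : ℂ) * (1 - (μ y : ℂ)) := by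
      rw [sum_subgroup (Xc A) F1 (fun x hx => if_neg hx)]
      rw [Finset.sum_congr rfl (fun (z : Xc A) _ => show F1 z = 1 - (μ y : ℂ) by
        show (if (z : G) ∈ Xc A then Fx z else 0) = _
        rw [if_pos z.2, hFx]
        show extendByZero (Xc A) θ ((z⁻¹ * y * z : Xc A) : G) = _
        rw [extendByZero_mem]
        show 1 - (μ (z⁻¹ * y * z) : ℂ) = _
        rw [map_mul, map_mul, map_inv, inv_mul_cancel_comm])]
      rw [Finset.sum_const, Finset.card_univ, nsmul_eq_mul, Nat.card_eq_fintype_card]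
    have hs2 : ∑ x : G, F2 x = (Nat.card (Xc A) : ℂ) * (1 - ((μ y)⁻¹ : ℂˣ)) := by
      rw [← Fintype.sum_equiv (Equiv.mulLeft B) (fun x => F2 (B * x)) F2 (fun x => rfl),
        sum_subgroup (Xc A) (fun x => F2 (B * x)) (fun x hx => if_neg (by simpa using hx))]
      have hy' : B⁻¹ * (y : G) * B ∈ Xc A := by
        have := conj_mem_Xc (inv_mem Q.B_mem_Nn) y.2
        rwa [inv_inv] at this
      rw [Finset.sum_congr rfl (fun (z : Xc A) _ => show F2 (B * z) = 1 - ((μ y)⁻¹ : ℂˣ) by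
        show (if B⁻¹ * (B * (z : G)) ∈ Xc A then Fx (B * z) else 0) = _
        rw [if_pos (by simp), hFx]
        show extendByZero (Xc A) θ ((B * (z : G))⁻¹ * y * (B * z)) = _
        rw [show (B * (z : G))⁻¹ * y * (B * z) = ((z⁻¹ * ⟨_, hy'⟩ * z : Xc A) : G) by
          push_cast; group, extendByZero_mem]
        show 1 - (μ (z⁻¹ * ⟨_, hy'⟩ * z) : ℂ) = _
        rw [map_mul, map_mul, map_inv, inv_mul_cancel_comm]
        congr 2
        have := hμB ⟨_, hy'⟩
        rw [← inv_inv (μ ⟨_, hy'⟩), ← this]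
        congr 2
        apply Subtype.ext
        show B * (B⁻¹ * (y : G) * B) * B⁻¹ = y
        group)]
      rw [Finset.sum_const, Finset.card_univ, nsmul_eq_mul, Nat.card_eq_fintype_card]
    rw [indFun_apply, Finset.sum_congr rfl (fun x _ => hsplit x), Finset.sum_add_distrib, hs1, hs2]
    have := natCard_ne_zero (Xc A)
    field_simp
    ring
  have hθgen : IsGeneralizedCharacter (Xc A) θ :=
    ⟨fun _ => 1, fun y => (μ y : ℂ), isCharacter_one, isCharacter_linear μ, rfl⟩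
  have hFgen : IsGeneralizedCharacter G F := gen_indFun _ hθgen
  have hroot : ∀ y, ((μ y)⁻¹ : ℂˣ) = conj (μ y : ℂ) := fun y => by
    rw [conj_root (n := 4) (by norm_num) (by
      rw [← Units.val_pow_eq_pow_val, hμ4, Units.val_one]), Units.val_inv_eq_inv_val]
  have hA2ne : ∀ ν : Xc A →* ℂ, ν ⟨A, Q.A_mem_Xc⟩ ≠ 1 → ∑ y, ν y = 0 := fun ν h =>
    sum_hom_units_eq_zero ν fun h0 => h (by rw [h0]; rfl)
  have hμAne : (μ ⟨A, Q.A_mem_Xc⟩ : ℂ) ≠ 1 := by
    intro h
    rw [h] at hμA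
    norm_num at hμA
  have s1 : ∑ y, (μ y : ℂ) = 0 := hA2ne ((Units.coeHom ℂ).comp μ) hμAne
  have s2 : ∑ y, ((μ y)⁻¹ : ℂˣ).val = 0 := by
    have h := congrArg conj s1
    rw [map_sum, map_zero] at h
    simpa only [hroot] using h
  have s3 : ∑ y, (μ y : ℂ) * (μ y : ℂ) = 0 :=
    hA2ne (((Units.coeHom ℂ).comp μ) * ((Units.coeHom ℂ).comp μ)) (by
      show (μ ⟨A, Q.A_mem_Xc⟩ : ℂ) * (μ ⟨A, Q.A_mem_Xc⟩ : ℂ) ≠ 1
      rw [← pow_two, hμA]; norm_num)
  have hnorm : classInner F F = 3 := by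
    show classInner (indFun (Xc A) θ) F = 3
    rw [frobenius (Xc A) θ (classFun_of_gen hFgen), classInner_def]
    have hterm : ∀ y : Xc A, θ y * conj (F y) =
        3 - ((μ y)⁻¹ : ℂˣ).val - 3 * (μ y : ℂ) + (μ y : ℂ) * (μ y : ℂ) := by
      intro y
      show (1 - (μ y : ℂ)) * conj (F y) = _
      by_cases hy : μ y = 1
      · rw [hy, inv_one, Units.val_one]; ring
      · rw [hval y hy, map_sub, map_sub, hroot, Complex.conj_conj, map_ofNat, ← hroot]
        have hu : (μ y : ℂ) * ((μ y)⁻¹ : ℂˣ).val = 1 := by rw [← Units.val_mul, mul_inv_cancel, Units.val_one]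
        linear_combination hu
    rw [Finset.sum_congr rfl (fun y _ => hterm y), Finset.sum_add_distrib, Finset.sum_sub_distrib,
      Finset.sum_sub_distrib, ← Finset.mul_sum, s1, s2, s3, Finset.sum_const, Finset.card_univ,
      Nat.card_eq_fintype_card]
    have : (Fintype.card (Xc A) : ℂ) ≠ 0 := by simp
    field_simp
    simp
  have hone : classInner F (fun _ => 1) = 1 := by
    show classInner (indFun (Xc A) θ) _ = 1
    rw [frobenius (Xc A) θ (classFun_of_irr isIrr_one), classInner_def]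
    simp only [θ, map_one, mul_one, Finset.sum_sub_distrib, s1, sub_zero, Finset.sum_const,
      Finset.card_univ, nsmul_eq_mul, Nat.card_eq_fintype_card]
    have : (Fintype.card (Xc A) : ℂ) ≠ 0 := by simp
    field_simp
  have hF1 : F 1 = 0 := by
    show indFun (Xc A) θ 1 = 0
    rw [indFun_one]
    simp [θ]
  obtain ⟨χ₁, χ₂, hn1, hn2, hFeq⟩ := decomp_three hFgen hnorm hone hF1
  have hsub : ∀ g, ¬ 4 ∣ orderOf g → (χ₁ : G → ℂ) g - (χ₂ : G → ℂ) g = 1 := fun g hg => by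
    have := hFeq g
    rw [hzero g hg] at this
    linear_combination this
  have hdeg : (χ₁ : G → ℂ) 1 = (χ₂ : G → ℂ) 1 + 1 := by
    have := hsub 1 (by rw [orderOf_one]; norm_num)
    linear_combination this
  -- no element of order divisible by four is a product of two involutions
  set w := A ^ (2 ^ k : ℕ) with hw
  set K := Finset.univ.filter (fun x => IsConj w x) with hK
  have hKo : ∀ x ∈ K, orderOf x = 2 := by
    intro x hx
    obtain ⟨c, hc⟩ := isConj_iff.1 (Finset.mem_filter.1 hx).2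
    rw [← hc, show c * w * c⁻¹ = MulAut.conj c w from rfl, MulEquiv.orderOf_eq, hw, Q.u_order]
  have hsum : ∑ x ∈ K, ∑ y ∈ K, F (x * y) = 0 :=
    Finset.sum_eq_zero fun x hx => Finset.sum_eq_zero fun y hy =>
      hzero _ (Q.not_four_dvd_of_invol_mul (hKo x hx) (hKo y hy))
  have hKc : (K.card : ℂ) = ((Subgroup.centralizer ({w} : Set G)).index : ℂ) := by
    rw [hK, card_filter_isConj]
  set c : ℂ := (K.card : ℂ) with hc
  have hc0 : c ≠ 0 := by
    rw [hKc]; exact_mod_cast Subgroup.FiniteIndex.index_ne_zero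
  have hclass : ∀ χ : IrrCharacter G, ∑ x ∈ K, ∑ y ∈ K, (χ : G → ℂ) (x * y) =
      c ^ 2 * (χ : G → ℂ) w ^ 2 / (χ : G → ℂ) 1 := by
    intro χ
    have h := centralChar_mul χ.2 w w
    rw [centralChar, ← hKc, ← hK] at h
    have h0 := irr_one_ne_zero χ.2
    field_simp at h ⊢
    linear_combination -h
  have ha0 := irr_one_ne_zero χ₂.2
  have ha1 := irr_one_ne_zero χ₁.2
  set a := (χ₂ : G → ℂ) 1 with ha
  set b := (χ₂ : G → ℂ) w with hb
  have hb1 : (χ₁ : G → ℂ) w = b + 1 := by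
    have := hsub w (by rw [hw, Q.u_order]; norm_num)
    linear_combination this
  have hker : b = a := by
    simp only [hFeq, Finset.sum_add_distrib, Finset.sum_sub_distrib, hclass, Finset.sum_const,
      nsmul_eq_mul, mul_one] at hsum
    rw [← hc, hb1, hdeg, ← ha, ← hb] at hsum
    rw [hdeg] at ha1
    field_simp at hsum
    have : (b - a) ^ 2 = 0 := by
      have hh : (b - a) ^ 2 * c ^ 2 = 0 := by linear_combination hsum
      exact (mul_eq_zero.1 hh).resolve_right (pow_ne_zero _ hc0)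
    exact sub_eq_zero.1 (pow_eq_zero_iff (two_ne_zero) |>.1 this)
  refine ⟨χ₁, χ₂, hn1, hn2, hdeg, hsub, by rw [hb1, hker, hdeg], fun h => ?_⟩
  have hA2 : (μ ⟨A ^ 2, pow_mem Q.A_mem_Xc 2⟩ : ℂ) = -1 := by
    rw [← hμA, ← Units.val_pow_eq_pow_val, ← map_pow]; rfl
  have hval2 := hval ⟨A ^ 2, pow_mem Q.A_mem_Xc 2⟩ (fun h1 => by
    rw [h1, Units.val_one] at hA2; norm_num at hA2)
  rw [hFeq, Units.val_inv_eq_inv_val, hA2] at hval2
  obtain ⟨d, -, hd⟩ := irr_deg χ₂.2
  have hle := char_norm_le (isCharacter_of_isIrr χ₂.2) (A ^ 2)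
  rw [charDegree_eq hd] at hle
  have h2 : (χ₂ : G → ℂ) (A ^ 2) = (((d + 4 : ℕ) : ℝ) : ℂ) := by
    have hh : (χ₁ : G → ℂ) (A ^ 2) = (d : ℂ) + 1 := by rw [h, hdeg, ha, hd]
    push_cast
    linear_combination hval2 + hh + (by norm_num : (2 : ℂ) - (-1) - (-1)⁻¹ = 4)
  rw [h2, Complex.norm_real, Real.norm_of_nonneg (by positivity)] at hle
  push_cast at hle
  linarith

/-- The normal subgroup given by the kernel of the exceptional character. -/
theorem exists_kernel_subgroup : ∃ M : Subgroup G, M.Normal ∧ A ^ (2 ^ k : ℕ) ∈ M ∧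
    A ^ 2 ∉ M ∧ A ^ 2 ∈ commutator G := by
  obtain ⟨χ₁, χ₂, -, -, -, -, hu, hA⟩ := Q.exists_exceptional
  obtain ⟨K, hKn, hK, -⟩ := exists_kernel (isCharacter_of_isIrr χ₁.2)
  refine ⟨K, hKn, (hK _).2 hu, fun h => hA ((hK _).1 h), ?_⟩
  have h : A ^ 2 ∈ ⁅(S : Subgroup G), (S : Subgroup G)⁆ := by
    rw [Q.derived_eq]; exact Subgroup.mem_zpowers _
  exact Subgroup.commutator_mono le_top le_top h

theorem mem_zpowers_of_mem_kernel {M : Subgroup G} (hM : M.Normal) (hA : A ^ 2 ∉ M) {s : G}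
    (hs : s ∈ S) (hsM : s ∈ M) : s ∈ Subgroup.zpowers A := by
  obtain ⟨j, rfl | rfl⟩ := Q.hgen s hs
  · exact ⟨j, rfl⟩
  · exfalso
    apply hA
    have h1 : A * (B * A ^ j) * A⁻¹ * (B * A ^ j)⁻¹ ∈ M :=
      mul_mem (hM.conj_mem _ hsM A) (inv_mem hsM)
    have e1 : A * (B * A ^ j) * A⁻¹ * (B * A ^ j)⁻¹ = A ^ 2 := by
      calc A * (B * A ^ j) * A⁻¹ * (B * A ^ j)⁻¹ = A * (B * A ^ (-1 : ℤ) * B⁻¹) := by group
        _ = A ^ 2 := by rw [Q.conj_pow, neg_neg, zpow_one, pow_two]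
    rwa [e1] at h1

theorem closure_le {M : Subgroup G} (hM : M.Normal) (hu : A ^ (2 ^ k : ℕ) ∈ M) :
    Subgroup.closure {g : G | orderOf g = 2} ≤ M := by
  rw [Subgroup.closure_le]
  intro t ht
  obtain ⟨c, hc⟩ := isConj_iff.1 (Q.invol_isConj ht).symm
  exact hc ▸ hM.conj_mem _ hu c

theorem isCyclic_two_subgroup_kernel {M : Subgroup G} (hM : M.Normal) (hA : A ^ 2 ∉ M)
    {P : Subgroup G} (hP : IsPGroup 2 P) (hPM : P ≤ M) : IsCyclic P := by
  haveI : Fact (Nat.Prime 2) := ⟨Nat.prime_two⟩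
  obtain ⟨P', hP'⟩ := hP.exists_le_sylow
  obtain ⟨g, rfl⟩ := MulAction.exists_smul_eq G S P'
  have hmem : ∀ x : P, g⁻¹ * x * g ∈ Subgroup.zpowers A := by
    intro x
    refine Q.mem_zpowers_of_mem_kernel hM hA ?_ ?_
    · have := hP' x.2
      rw [Sylow.coe_subgroup_smul, Subgroup.pointwise_smul_def] at this
      obtain ⟨s, hs, hsx⟩ := this
      rw [← hsx]
      show g⁻¹ * (g * s * g⁻¹) * g ∈ S
      simpa [mul_assoc] using hs
    · have := hM.conj_mem _ (hPM x.2) g⁻¹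
      rwa [inv_inv] at this
  let f : P →* Subgroup.zpowers A :=
    { toFun := fun x => ⟨g⁻¹ * x * g, hmem x⟩
      map_one' := by ext; simp
      map_mul' := fun x y => by ext; simp [mul_assoc] }
  refine isCyclic_of_injective f fun x y h => Subtype.ext ?_
  exact mul_left_cancel (mul_right_cancel (congrArg Subtype.val h))

/-- If the odd core is trivial the centre has order two. -/
theorem card_center (hO : ∀ N : Subgroup G, N.Normal → Odd (Nat.card N) → N = ⊥) :
    Nat.card (Subgroup.center G) = 2 := by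
  haveI : Fact (Nat.Prime 2) := ⟨Nat.prime_two⟩
  obtain ⟨M, hM, hu, hA, -⟩ := Q.exists_kernel_subgroup
  set L := Subgroup.closure {g : G | orderOf g = 2} with hL
  set w := A ^ (2 ^ k : ℕ) with hw
  have hwL : w ∈ L := Subgroup.subset_closure Q.u_order
  have hLn : L.Normal := Subgroup.Normal.mk fun x hx g => by
    induction hx using Subgroup.closure_induction with
    | mem y hy =>
      refine Subgroup.subset_closure ?_
      show orderOf (g * y * g⁻¹) = 2
      rw [show g * y * g⁻¹ = MulAut.conj g y from rfl, MulEquiv.orderOf_eq]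
      exact hy
    | one => simp
    | mul y z _ _ ihy ihz =>
      have : g * (y * z) * g⁻¹ = (g * y * g⁻¹) * (g * z * g⁻¹) := by group
      rw [this]; exact mul_mem ihy ihz
    | inv y _ ih =>
      have : g * y⁻¹ * g⁻¹ = (g * y * g⁻¹)⁻¹ := by group
      rw [this]; exact inv_mem ih
  obtain ⟨P⟩ := (inferInstance : Nonempty (Sylow 2 L))
  have hcyc : IsCyclic (P : Subgroup L) := by
    have := Q.isCyclic_two_subgroup_kernel hM hA (P.2.map L.subtype)
      ((Subgroup.map_subtype_le _).trans (Q.closure_le hM hu))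
    exact isCyclic_of_surjective _
      ((P : Subgroup L).equivMapOfInjective L.subtype Subtype.val_injective).symm.surjective
  have heven : 2 ∣ Nat.card L := by
    rw [← Q.u_order, ← Subgroup.orderOf_mk w hwL]; exact orderOf_dvd_natCard _
  have hP := IsCyclic.normalizer_le_centralizer (P := P)
    ((Nat.minFac_eq_two_iff _).2 heven) hcyc
  set f := MonoidHom.transferSylow P hP with hf
  have hK : f.ker.map L.subtype = ⊥ := by
    have hodd : Odd (Nat.card (f.ker.map L.subtype)) := by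
      rw [← Nat.card_congr (f.ker.equivMapOfInjective _ Subtype.val_injective).toEquiv,
        ← Nat.not_even_iff_odd, even_iff_two_dvd]
      exact MonoidHom.not_dvd_card_ker_transferSylow P hP
    refine hO _ (Subgroup.Normal.mk ?_) hodd
    rintro _ ⟨x, hx, rfl⟩ g
    refine ⟨⟨g * x * g⁻¹, hLn.conj_mem _ x.2 g⟩, ?_, rfl⟩
    show f _ = 1
    rw [← orderOf_eq_one_iff]
    obtain ⟨l, hl⟩ := IsPGroup.iff_orderOf.1 P.2 (f ⟨g * x * g⁻¹, hLn.conj_mem _ x.2 g⟩)
    have hd := orderOf_map_dvd f ⟨g * x * g⁻¹, hLn.conj_mem _ x.2 g⟩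
    rw [hl] at hd ⊢
    rcases l with _ | l
    · rfl
    · exfalso
      have h2 := (dvd_pow_self 2 (Nat.succ_ne_zero l)).trans hd
      rw [Subgroup.orderOf_mk, show g * (x : G) * g⁻¹ = MulAut.conj g (x : G) from rfl,
        MulEquiv.orderOf_eq, Subgroup.orderOf_coe] at h2
      apply MonoidHom.not_dvd_card_ker_transferSylow P hP
      refine h2.trans ?_
      rw [← Nat.card_zpowers]
      exact Subgroup.card_dvd_of_le (Subgroup.zpowers_le.2 hx)
  have hinj : Function.Injective f := by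
    rw [← MonoidHom.ker_eq_bot_iff]
    rw [Subgroup.map_eq_bot_iff_of_injective _ Subtype.val_injective] at hK
    exact hK
  have hL2 : IsPGroup 2 L := P.2.of_injective f hinj
  have hLS : L ≤ S := by
    haveI := hLn
    exact hL2.le_sylow_of_normal S
  have hcent : ∀ g : G, g * w * g⁻¹ = w := fun g =>
    Q.invol_eq (hLS (hLn.conj_mem _ hwL g)) (by
      rw [show g * w * g⁻¹ = MulAut.conj g w from rfl, MulEquiv.orderOf_eq, hw, Q.u_order])
  have hwZ : w ∈ Subgroup.center G := Subgroup.mem_center_iff.2 fun g =>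
    mul_inv_eq_iff_eq_mul.1 (hcent g)
  have hZ2 : IsPGroup 2 (Subgroup.center G) := by
    rw [IsPGroup.iff_orderOf]
    intro z
    obtain ⟨a, m, hm, he⟩ := Nat.exists_eq_two_pow_mul_odd (orderOf_pos z).ne'
    refine ⟨a, ?_⟩
    have hN : Subgroup.zpowers ((z : G) ^ (2 ^ a)) = ⊥ := by
      refine hO _ (Subgroup.Normal.mk ?_) ?_
      · rintro x ⟨i, rfl⟩ g
        refine ⟨i, ?_⟩
        show _ = g * ((z : G) ^ (2 ^ a)) ^ i * g⁻¹
        rw [((Subgroup.mem_center_iff.1 (zpow_mem (pow_mem z.2 _) i)) g), mul_inv_cancel_right]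
      · rw [Nat.card_zpowers, orderOf_pow_of_dvd (by positivity)
          (by rw [Subgroup.orderOf_coe, he]; exact dvd_mul_right _ _), Subgroup.orderOf_coe, he,
          Nat.mul_div_cancel_left _ (by positivity)]
        exact hm
    rw [Subgroup.zpowers_eq_bot] at hN
    have h1 : orderOf z ∣ 2 ^ a := by
      rw [← Subgroup.orderOf_coe]; exact orderOf_dvd_of_pow_eq_one hN
    exact Nat.dvd_antisymm h1 (he ▸ dvd_mul_right _ _)
  have hZS : Subgroup.center G ≤ S := hZ2.le_sylow_of_normal S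
  have hzw : ∀ z ∈ Subgroup.center G, z = 1 ∨ z = w := by
    intro z hz
    by_cases h1 : z = 1
    · exact Or.inl h1
    right
    refine Q.invol_eq (hZS hz) (orderOf_eq_prime ?_ h1)
    rw [pow_two]
    exact Q.central_eq (hZS hz) fun s _ => (Subgroup.mem_center_iff.1 hz s).symm
  have hZeq : Subgroup.center G = Subgroup.zpowers w := by
    refine le_antisymm (fun z hz => ?_) (Subgroup.zpowers_le.2 hwZ)
    rcases hzw z hz with rfl | rfl
    · exact one_mem _
    · exact Subgroup.mem_zpowers _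
  rw [hZeq, Nat.card_zpowers, hw, Q.u_order]

end QData

end CfsgLib.Base.BS

namespace CfsgLib.Base.BS.QData

open Cfsg

variable {G : Type*} [Group G] [Finite G] {S : Sylow 2 G} {k : ℕ} {A B : G} (Q : QData S k A B)
include Q

theorem inf_Xc : (S : Subgroup G) ⊓ Xc A = Subgroup.zpowers A := by
  refine le_antisymm (fun x ⟨hxS, hxX⟩ => ?_)
    (Subgroup.zpowers_le.2 ⟨Q.hA, Q.A_mem_Xc⟩)
  obtain ⟨j, rfl | rfl⟩ := Q.hgen x hxS
  · exact ⟨j, rfl⟩
  · exfalso
    apply Q.B_notMem_Xc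
    have := mul_mem (show B * A ^ j ∈ Xc A from hxX) (inv_mem (zpow_mem Q.A_mem_Xc j))
    rwa [mul_inv_cancel_right] at this

theorem exists_complement : ∃ K : Subgroup G, Odd (Nat.card K) ∧ K ≤ Xc A ∧
    Nn A ≤ Subgroup.normalizer (K : Set G) ∧ K ⊔ (S : Subgroup G) = Nn A ∧
    K ⊔ ((S : Subgroup G) ⊓ Xc A) = Xc A := by
  obtain ⟨f, hf, j, hj, hfA⟩ := Q.exists_retraction
  set K := f.ker.map (Xc A).subtype with hK
  have hKX : K ≤ Xc A := Subgroup.map_subtype_le _
  have hmemK : ∀ x, x ∈ K ↔ x ∈ Xc A ∧ Odd (orderOf x) := by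
    intro x
    constructor
    · rintro ⟨y, hy, rfl⟩
      exact ⟨y.2, by
        rw [show (Xc A).subtype y = (y : G) from rfl, Subgroup.orderOf_coe]; exact (hf y).1 hy⟩
    · rintro ⟨hx, ho⟩
      exact ⟨⟨x, hx⟩, (hf _).2 (by rw [Subgroup.orderOf_mk]; exact ho), rfl⟩
  have hodd : Odd (Nat.card K) := by
    rw [← Nat.not_even_iff_odd, even_iff_two_dvd]
    intro h
    haveI : Fact (Nat.Prime 2) := ⟨Nat.prime_two⟩
    obtain ⟨x, hx⟩ := exists_prime_orderOf_dvd_card' 2 h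
    have := ((hmemK x).1 x.2).2
    rw [Subgroup.orderOf_coe, hx] at this
    exact absurd this (by decide)
  have hnorm : Nn A ≤ Subgroup.normalizer (K : Set G) := by
    intro g hg
    rw [Subgroup.mem_normalizer_iff]
    intro x
    have key : ∀ g ∈ Nn A, ∀ x ∈ K, g * x * g⁻¹ ∈ K := by
      intro g hg x hx
      rw [hmemK] at hx ⊢
      refine ⟨conj_mem_Xc hg hx.1, ?_⟩
      rw [show g * x * g⁻¹ = MulAut.conj g x from rfl, MulEquiv.orderOf_eq]
      exact hx.2
    refine ⟨key g hg x, fun h => ?_⟩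
    have := key g⁻¹ (inv_mem hg) _ h
    simpa [mul_assoc] using this
  have hX : K ⊔ ((S : Subgroup G) ⊓ Xc A) = Xc A := by
    refine le_antisymm (sup_le hKX inf_le_right) fun x hx => ?_
    obtain ⟨m, hm⟩ : ∃ m, ((⟨A, Subgroup.mem_zpowers A⟩ : Subgroup.zpowers A) ^ j) ^ m
        = ⟨A, Subgroup.mem_zpowers A⟩ := by
      apply exists_pow_eq_self_of_coprime
      rw [← Subgroup.orderOf_coe, Q.hord]
      exact Nat.Coprime.pow_right _ (Nat.coprime_two_right.2 hj)
    obtain ⟨i, hi⟩ := (f ⟨x, hx⟩).2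
    set a : Xc A := (⟨A, Q.A_mem_Xc⟩ : Xc A) ^ ((m : ℤ) * i) with ha
    have hfa : f a = f ⟨x, hx⟩ := by
      rw [ha, map_zpow, hfA, zpow_mul, zpow_natCast, hm]
      exact Subtype.ext hi
    have hk : (⟨x, hx⟩ * a⁻¹ : Xc A) ∈ f.ker := by
      rw [MonoidHom.mem_ker, map_mul, map_inv, hfa, mul_inv_cancel]
    have h1 : x = ((⟨x, hx⟩ * a⁻¹ : Xc A) : G) * (a : G) := by simp
    rw [h1, Q.inf_Xc]
    refine mul_mem (Subgroup.mem_sup_left ⟨_, hk, rfl⟩) (Subgroup.mem_sup_right ?_)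
    exact ⟨(m : ℤ) * i, by simp [ha]⟩
  refine ⟨K, hodd, hKX, hnorm, le_antisymm (sup_le (hKX.trans (Xc_le_Nn A)) Q.S_le_Nn) ?_, hX⟩
  intro x hx
  rcases Q.Nn_cases hx with h | h
  · rw [← hX] at h
    exact (sup_le le_sup_left (inf_le_left.trans le_sup_right) : _ ≤ K ⊔ (S : Subgroup G)) h
  · rw [← hX] at h
    have h1 : B⁻¹ * x ∈ K ⊔ (S : Subgroup G) :=
      (sup_le le_sup_left (inf_le_left.trans le_sup_right) : _ ≤ K ⊔ (S : Subgroup G)) h
    have := mul_mem (Subgroup.mem_sup_right Q.hB : B ∈ K ⊔ (S : Subgroup G)) h1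
    rwa [mul_inv_cancel_left] at this

end CfsgLib.Base.BS.QData
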