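import Cfsg.Agent.S0630
import Cfsg.Agent.Inv.CharPLocal
import Cfsg.Agent.Solv.ThompsonPre

/-!
`p`-constraint and characteristic `p` of the quotient by `O_{p'}`; inheritance to normal subgroups and local subgroups.
-/

set_option autoImplicit false
set_option linter.style.haveILetI false
set_option linter.deprecated false

open Cfsg

namespace CfsgLib.Base.Constrained

variable {G : Type*} [Group G] [Finite G] {p : ℕ} [hp : Fact p.Prime]

/-- Characteristic `p`. -/
def CharP' (p : ℕ) (G : Type*) [Group G] : Prop :=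
  Subgroup.centralizer (pCore p G : Set G) ≤ pCore p G

theorem core_bot_of_charP (h : CharP' p G) : pPrimeCore p G = ⊥ := by
  haveI := CfsgLib.Solv.pPrimeCore_normal G p
  haveI := CfsgLib.Solv.pCore_normal G p
  set K := pPrimeCore p G
  have hKp : K ⊓ pCore p G = ⊥ := by
    refine Subgroup.inf_eq_bot_of_coprime ?_
    obtain ⟨n, hn⟩ := IsPGroup.iff_card.1 (CfsgLib.Solv.pCore_isPGroup G p)
    rw [hn]
    exact (CfsgLib.Solv.pPrimeCore_coprime G p).pow_right n
  rw [← hKp, eq_comm, inf_eq_left]
  intro x hx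
  refine h (Subgroup.mem_centralizer_iff.mpr fun q hq => ?_)
  exact (Subgroup.commute_of_normal_of_disjoint _ _ inferInstance inferInstance
    (disjoint_iff.mpr hKp) x q hx hq).eq.symm

/-- A constrained group with trivial `O_{p'}` has characteristic `p`, and conversely. -/
theorem constrained_iff_of_core_bot (hbot : pPrimeCore p G = ⊥) : IsPConstrained p G ↔ CharP' p G := by
  have h1 : pPrimePCore p G = pCore p G := by
    have hinj : Function.Injective (QuotientGroup.mk' (pPrimeCore p G)) := by
      rw [← MonoidHom.ker_eq_bot_iff, QuotientGroup.ker_mk', hbot]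
    set e := MulEquiv.ofBijective _ ⟨hinj, QuotientGroup.mk'_surjective _⟩
    show (pCore p _).comap (QuotientGroup.mk' (pPrimeCore p G)) = _
    rw [← CfsgLib.Solv.map_pCore_equiv e]
    exact Subgroup.comap_map_eq_self_of_injective hinj _
  have hp' : IsPGroup p ↥(pPrimePCore p G) := h1 ▸ CfsgLib.Solv.pCore_isPGroup G p
  have htop : ∀ P : Sylow p ↥(pPrimePCore p G),
      (P : Subgroup ↥(pPrimePCore p G)).map (pPrimePCore p G).subtype = pPrimePCore p G := fun P => by
    have : (P : Subgroup ↥(pPrimePCore p G)) = ⊤ :=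
      (P.is_maximal' (Q := ⊤) (hp'.of_equiv Subgroup.topEquiv.symm) le_top).symm
    rw [this, ← MonoidHom.range_eq_map, Subgroup.range_subtype]
  constructor
  · intro h
    have := h default
    rw [htop, h1] at this
    exact this
  · intro h P
    rw [htop, h1]
    exact h

theorem quotient_charP (h : IsPConstrained p G) : CharP' p (G ⧸ pPrimeCore p G) :=
  (constrained_iff_of_core_bot CfsgLib.Solv.pPrimeCore_quotient_self).1 (Cfsg.Agent.S0630.result.1 h)

theorem constrained_of_surj {Q : Type*} [Group Q] [Finite Q] (f : G →* Q) (hf : Function.Surjective f)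
    (hker : (Nat.card f.ker).Coprime p) (hQ : CharP' p Q) :
    IsPConstrained p G ∧ f.ker = pPrimeCore p G := by
  haveI := CfsgLib.Solv.pPrimeCore_normal G p
  have heq : f.ker = pPrimeCore p G := by
    refine le_antisymm (CfsgLib.Solv.le_pPrimeCore hker) ?_
    rw [← Subgroup.map_eq_bot_iff, eq_bot_iff, ← core_bot_of_charP hQ]
    exact CfsgLib.Solv.map_pPrimeCore_le hf
  refine ⟨Cfsg.Agent.S0630.result.2 ?_, heq⟩
  rw [constrained_iff_of_core_bot CfsgLib.Solv.pPrimeCore_quotient_self]
  exact CfsgLib.Inv.Coset.charP_equiv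
    ((QuotientGroup.quotientKerEquivOfSurjective f hf).symm.trans (QuotientGroup.quotientMulEquivOfEq heq)) hQ

theorem constrained_equiv {H : Type*} [Group H] [Finite H] (e : G ≃* H) (h : IsPConstrained p H) :
    IsPConstrained p G := by
  haveI := CfsgLib.Solv.pPrimeCore_normal H p
  refine (constrained_of_surj ((QuotientGroup.mk' (pPrimeCore p H)).comp e.toMonoidHom)
    ((QuotientGroup.mk'_surjective _).comp e.surjective) ?_ (quotient_charP h)).1
  rw [← MonoidHom.comap_ker, QuotientGroup.ker_mk', Subgroup.comap_equiv_eq_map_symm',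
    Subgroup.card_map_of_injective e.symm.injective]
  exact CfsgLib.Solv.pPrimeCore_coprime H p

theorem constrained_normal (h : IsPConstrained p G) (C : Subgroup G) [hC : C.Normal] :
    IsPConstrained p ↥C := by
  haveI := CfsgLib.Solv.pPrimeCore_normal G p
  set π := QuotientGroup.mk' (pPrimeCore p G)
  set f := π.comp C.subtype
  have hn : (C.map π).Normal := hC.map π (QuotientGroup.mk'_surjective _)
  refine (constrained_of_surj (π.subgroupMap C) (π.subgroupMap_surjective C) ?_
    (CfsgLib.Inv.charP_subnormal (quotient_charP h) hn.isSubnormal)).1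
  refine Nat.Coprime.coprime_dvd_left ?_ (CfsgLib.Solv.pPrimeCore_coprime G p)
  refine Subgroup.card_dvd_of_injective
    (MonoidHom.mk' (fun x : (π.subgroupMap C).ker => (⟨((x : C) : G), by
      have := congrArg Subtype.val (MonoidHom.mem_ker.mp x.2)
      exact (QuotientGroup.eq_one_iff _).mp this⟩ : pPrimeCore p G)) fun a b => rfl) fun a b hab => ?_
  exact Subtype.ext (Subtype.ext (congrArg Subtype.val hab :))

theorem constrained_sub {H K : Subgroup G} (h : IsPConstrained p ↥H) (hKH : K ≤ H)
    (hn : H ≤ Subgroup.normalizer (K : Set G)) : IsPConstrained p ↥K := by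
  haveI : (K.subgroupOf H).Normal := (Subgroup.normal_subgroupOf_iff_le_normalizer hKH).2 hn
  exact constrained_equiv (Subgroup.subgroupOfEquivOfLe hKH).symm (constrained_normal h _)

/-- Local subgroups of a constrained group are constrained. -/
theorem constrained_normalizer (h : IsPConstrained p G) {T : Subgroup G} (hT : IsPGroup p T) :
    IsPConstrained p ↥(Subgroup.normalizer (T : Set G)) := by
  haveI := CfsgLib.Solv.pPrimeCore_normal G p
  set K := pPrimeCore p G with hK
  set π := QuotientGroup.mk' K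
  have hQ := quotient_charP h
  set N := Subgroup.normalizer (T : Set G)
  have htop : Subgroup.centralizer (pCore p ↥(⊤ : Subgroup (G ⧸ K)) : Set ↥(⊤ : Subgroup (G ⧸ K))) ≤
      pCore p ↥(⊤ : Subgroup (G ⧸ K)) := CfsgLib.Inv.Coset.charP_equiv Subgroup.topEquiv.symm hQ
  have h1 := CfsgLib.Inv.charP_normalizer htop (hT.map π) le_top le_top
  have himg : N.map π = Subgroup.normalizer ((T.map π : Subgroup (G ⧸ K)) : Set (G ⧸ K)) := by
    refine le_antisymm (Subgroup.le_normalizer_map π) (CfsgLib.Solv.normalizer_map_mk'_le ?_ ?_)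
    · obtain ⟨n, hn⟩ := IsPGroup.iff_card.1 hT
      rw [hn]
      exact (CfsgLib.Solv.pPrimeCore_coprime G p).symm.pow_left n
    · haveI := hT.isNilpotent
      infer_instance
  rw [← himg] at h1
  refine (constrained_of_surj (π.subgroupMap N) (π.subgroupMap_surjective N) ?_ h1).1
  refine Nat.Coprime.coprime_dvd_left ?_ (CfsgLib.Solv.pPrimeCore_coprime G p)
  refine Subgroup.card_dvd_of_injective
    (MonoidHom.mk' (fun x : (π.subgroupMap N).ker => (⟨((x : N) : G), by
      have := congrArg Subtype.val (MonoidHom.mem_ker.mp x.2)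
      exact (QuotientGroup.eq_one_iff _).mp this⟩ : K)) fun a b => rfl) fun a b hab => ?_
  exact Subtype.ext (Subtype.ext (congrArg Subtype.val hab :))

/-- A local subgroup is constrained when it lies in a constrained subgroup. -/
theorem constrained_normalizer_inf {M T : Subgroup G} (h : IsPConstrained p ↥M) (hT : IsPGroup p T)
    (hTM : T ≤ M) : IsPConstrained p ↥(M ⊓ Subgroup.normalizer (T : Set G) : Subgroup G) := by
  have h1 := constrained_normalizer (G := ↥M) h
    (hT.of_equiv (Subgroup.subgroupOfEquivOfLe hTM).symm : IsPGroup p ↥(T.subgroupOf M))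
  have e : ((Subgroup.normalizer (T : Set G)).subgroupOf M) =
      Subgroup.normalizer ((T.subgroupOf M : Subgroup ↥M) : Set ↥M) := Subgroup.subgroupOf_normalizer_eq hTM
  rw [← e, ← Subgroup.inf_subgroupOf_left] at h1
  exact constrained_equiv (Subgroup.subgroupOfEquivOfLe (inf_le_left : M ⊓ Subgroup.normalizer (T : Set G) ≤ M)).symm h1

/-- `N(T)` is constrained when `C(T)` is. -/
theorem constrained_of_centralizer {T : Subgroup G} (hT : IsPGroup p T)
    (h : IsPConstrained p ↥(Subgroup.centralizer (T : Set G))) :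
    IsPConstrained p ↥(Subgroup.normalizer (T : Set G)) := by
  set N := Subgroup.normalizer (T : Set G) with hN
  set C := (Subgroup.centralizer (T : Set G)).subgroupOf N with hC
  haveI : C.Normal := by
    refine ⟨fun c hc n => ?_⟩
    rw [hC, Subgroup.mem_subgroupOf, Subgroup.mem_centralizer_iff] at hc ⊢
    intro t ht
    have h1 := hc _ ((Subgroup.mem_normalizer_iff''.1 n.2 t).1 ht)
    simp only [Subgroup.coe_mul, Subgroup.coe_inv]
    calc t * (↑n * ↑c * (↑n)⁻¹) = ↑n * (((↑n)⁻¹ * t * ↑n) * ↑c) * (↑n)⁻¹ := by group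
      _ = ↑n * (↑c * ((↑n)⁻¹ * t * ↑n)) * (↑n)⁻¹ := by rw [h1]
      _ = _ := by group
  have hTN : T ≤ N := Subgroup.le_normalizer
  set T' := T.subgroupOf N with hT'
  have hT'p : IsPGroup p ↥T' := hT.of_equiv (Subgroup.subgroupOfEquivOfLe hTN).symm
  haveI : T'.Normal := Subgroup.normal_in_normalizer
  have hcC : ∀ x : ↥N, (∀ t ∈ T', t * x = x * t) → x ∈ C := fun x hx =>
    Subgroup.mem_subgroupOf.mpr (Subgroup.mem_centralizer_iff.mpr fun t ht =>
      congrArg Subtype.val (hx ⟨t, hTN ht⟩ (Subgroup.mem_subgroupOf.mpr ht)))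
  haveI := CfsgLib.Solv.pPrimeCore_normal ↥N p
  set K := pPrimeCore p ↥N with hK
  have hdisj : T' ⊓ K = ⊥ := by
    refine Subgroup.inf_eq_bot_of_coprime ?_
    obtain ⟨n, hn⟩ := IsPGroup.iff_card.1 hT'p
    rw [hn]
    exact (CfsgLib.Solv.pPrimeCore_coprime ↥N p).symm.pow_left n
  have hKC : K ≤ C := fun x hx => hcC x fun t ht =>
    (Subgroup.commute_of_normal_of_disjoint _ _ inferInstance inferInstance (disjoint_iff.mpr hdisj) t x ht hx).eq
  have hCc : IsPConstrained p ↥C :=
    constrained_equiv (Subgroup.subgroupOfEquivOfLe (Subgroup.centralizer_le_normalizer _)) h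
  set π := QuotientGroup.mk' K with hπ
  refine (constrained_of_surj π (QuotientGroup.mk'_surjective K)
    (by rw [QuotientGroup.ker_mk']; exact CfsgLib.Solv.pPrimeCore_coprime ↥N p) ?_).1
  set Cb := C.map π with hCb
  haveI hCbn : Cb.Normal := Subgroup.Normal.map inferInstance π (QuotientGroup.mk'_surjective K)
  have hCbc : CharP' p ↥Cb := by
    haveI := CfsgLib.Solv.pPrimeCore_normal ↥C p
    have hker : (π.subgroupMap C).ker = pPrimeCore p ↥C := by
      refine le_antisymm (CfsgLib.Solv.le_pPrimeCore ?_) ?_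
      · refine Nat.Coprime.coprime_dvd_left ?_ (CfsgLib.Solv.pPrimeCore_coprime ↥N p)
        refine Subgroup.card_dvd_of_injective
          (MonoidHom.mk' (fun x : (π.subgroupMap C).ker => (⟨(x : C), by
            have := congrArg Subtype.val (MonoidHom.mem_ker.mp x.2)
            exact (QuotientGroup.eq_one_iff _).mp this⟩ : K)) fun a b => rfl) fun a b hab => ?_
        exact Subtype.ext (Subtype.ext (congrArg Subtype.val hab :))
      · intro x hx
        have h1 : (x : ↥N) ∈ (pPrimeCore p ↥C).map C.subtype := ⟨x, hx, rfl⟩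
        rw [CfsgLib.Solv.map_pPrimeCore_subtype_eq_inf C] at h1
        refine Subtype.ext ((QuotientGroup.eq_one_iff _).mpr ?_)
        exact (Subgroup.mem_inf.mp h1).elim (fun a b => by first | exact a | exact b)
    exact CfsgLib.Inv.Coset.charP_equiv
      ((QuotientGroup.quotientMulEquivOfEq hker.symm).trans
        (QuotientGroup.quotientKerEquivOfSurjective _ (π.subgroupMap_surjective C))) (quotient_charP hCc)
  intro y hy
  obtain ⟨x, rfl⟩ := QuotientGroup.mk'_surjective K y
  have hTP : T'.map π ≤ pCore p (↥N ⧸ K) := by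
    haveI : (T'.map π).Normal := Subgroup.Normal.map inferInstance π (QuotientGroup.mk'_surjective K)
    exact CfsgLib.Solv.le_pCore (hT'p.map π)
  have hxC : x ∈ C := hcC x fun t ht => by
    have h1 := Subgroup.mem_centralizer_iff.mp hy (π t) (hTP ⟨t, ht, rfl⟩)
    have h2 : t * x * t⁻¹ * x⁻¹ ∈ K := by
      rw [← QuotientGroup.eq_one_iff]
      change π (t * x * t⁻¹ * x⁻¹) = 1
      rw [map_mul, map_mul, map_mul, h1, map_inv, map_inv, hπ]; group
    have h3 : t * x * t⁻¹ * x⁻¹ ∈ T' := by
      have := T'.mul_mem ht ((inferInstance : T'.Normal).conj_mem _ (T'.inv_mem ht) x)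
      simpa [mul_assoc] using this
    have h4 : t * x * t⁻¹ * x⁻¹ = 1 := by
      have : t * x * t⁻¹ * x⁻¹ ∈ T' ⊓ K := ⟨h3, h2⟩
      rwa [hdisj, Subgroup.mem_bot] at this
    exact mul_inv_eq_iff_eq_mul.mp (mul_inv_eq_one.mp h4)
  have hle : (pCore p ↥Cb).map Cb.subtype ≤ pCore p (↥N ⧸ K) := CfsgLib.Solv.map_pCore_subtype_le Cb
  refine hle ⟨⟨π x, ⟨x, hxC, rfl⟩⟩, hCbc (Subgroup.mem_centralizer_iff.mpr fun c hc => ?_), rfl⟩
  exact Subtype.ext (Subgroup.mem_centralizer_iff.mp hy _ (hle ⟨c, hc, rfl⟩))

end CfsgLib.Base.Constrained
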