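import Cfsg.Agent.Solv.Basic
import Mathlib.GroupTheory.Sylow
import Mathlib.GroupTheory.SpecificGroups.KleinFour
import Mathlib.Tactic

/-!
Elementary abelian 2-subgroups of a 2-group acting on a normal elementary abelian subgroup `E`:
the size of `C_E(u)` and chains of commuting subgroups through `E`.
-/

set_option autoImplicit false
set_option linter.style.haveILetI false

namespace CfsgLib.Base.FourChain

variable {P : Type*} [Group P]

/-- `K` is elementary abelian of exponent two. -/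
def IsEA (K : Subgroup P) : Prop := ∀ a ∈ K, a * a = 1 ∧ ∀ b ∈ K, a * b = b * a

theorem IsEA.mono {K L : Subgroup P} (hL : IsEA L) (h : K ≤ L) : IsEA K :=
  fun a ha => ⟨(hL a (h ha)).1, fun b hb => (hL a (h ha)).2 b (h hb)⟩

theorem isEA_zpowers {u : P} (hu : u * u = 1) : IsEA (Subgroup.zpowers u) := by
  intro a ha
  obtain ⟨i, rfl⟩ := Subgroup.mem_zpowers_iff.mp ha
  refine ⟨by rw [← (Commute.refl u).mul_zpow, hu, one_zpow], fun b hb => ?_⟩
  obtain ⟨j, rfl⟩ := Subgroup.mem_zpowers_iff.mp hb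
  exact zpow_mul_comm u i j

theorem IsEA.sup {A B : Subgroup P} (hA : IsEA A) (hB : IsEA B)
    (hc : ∀ a ∈ A, ∀ b ∈ B, a * b = b * a) : IsEA (A ⊔ B) := by
  have hAB : A ≤ Subgroup.normalizer (B : Set P) := fun a ha => Subgroup.centralizer_le_normalizer _
    (Subgroup.mem_centralizer_iff.mpr fun b hb => (hc a ha b hb).symm)
  have hmem : ∀ x ∈ A ⊔ B, ∃ a ∈ A, ∃ b ∈ B, x = a * b := by
    intro x hx
    rw [← SetLike.mem_coe, Subgroup.coe_mul_of_left_le_normalizer_right A B hAB] at hx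
    obtain ⟨a, ha, b, hb, rfl⟩ := hx
    exact ⟨a, ha, b, hb, rfl⟩
  intro x hx
  obtain ⟨a, ha, b, hb, rfl⟩ := hmem x hx
  refine ⟨?_, fun y hy => ?_⟩
  · calc a * b * (a * b) = a * (b * a) * b := by simp [mul_assoc]
      _ = (a * a) * (b * b) := by rw [← hc a ha b hb]; simp [mul_assoc]
      _ = 1 := by rw [(hA a ha).1, (hB b hb).1, one_mul]
  · obtain ⟨a', ha', b', hb', rfl⟩ := hmem y hy
    calc a * b * (a' * b') = a * (b * a') * b' := by simp [mul_assoc]
      _ = (a * a') * (b * b') := by rw [← hc a' ha' b hb]; simp [mul_assoc]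
      _ = (a' * a) * (b' * b) := by rw [(hA a ha).2 a' ha', (hB b hb).2 b' hb']
      _ = a' * (a * b') * b := by simp [mul_assoc]
      _ = _ := by rw [hc a ha b' hb']; simp [mul_assoc]

theorem commute_sup {A B : Subgroup P} {x : P} (hA : ∀ a ∈ A, a * x = x * a) (hB : ∀ b ∈ B, b * x = x * b) :
    ∀ c ∈ A ⊔ B, c * x = x * c := by
  have h : A ⊔ B ≤ Subgroup.centralizer ({x} : Set P) :=
    sup_le (fun a ha => Subgroup.mem_centralizer_singleton_iff.mpr (hA a ha))
      (fun b hb => Subgroup.mem_centralizer_singleton_iff.mpr (hB b hb))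
  exact fun c hc => Subgroup.mem_centralizer_singleton_iff.mp (h hc)

/-- An involution acting on an elementary abelian group centralizes at least the square root of its order. -/
theorem card_le_sq [Finite P] {E : Subgroup P} (hE : IsEA E) {u : P}
    (hu : u * u = 1) (hN : ∀ e ∈ E, u * e * u⁻¹ ∈ E) :
    Nat.card E ≤ Nat.card ↥(E ⊓ Subgroup.centralizer ({u} : Set P)) *
      Nat.card ↥(E ⊓ Subgroup.centralizer ({u} : Set P)) := by
  set K := E ⊓ Subgroup.centralizer ({u} : Set P) with hK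
  let φ : ↥E →* ↥E := MonoidHom.mk' (fun e => ⟨(e : P) * (u * e * u⁻¹), E.mul_mem e.2 (hN e e.2)⟩)
    (fun a b => Subtype.ext (by
      show (a : P) * b * (u * (a * b) * u⁻¹) = (a : P) * (u * a * u⁻¹) * ((b : P) * (u * b * u⁻¹))
      calc (a : P) * b * (u * (a * b) * u⁻¹) = (a : P) * ((b : P) * (u * a * u⁻¹)) * (u * b * u⁻¹) := by group
        _ = (a : P) * ((u * a * u⁻¹) * b) * (u * b * u⁻¹) := by rw [(hE b b.2).2 _ (hN a a.2)]
        _ = _ := by group))
  have huinv : u⁻¹ = u := inv_eq_of_mul_eq_one_right hu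
  have hker : φ.ker.map E.subtype ≤ K := by
    rintro _ ⟨e, he, rfl⟩
    refine ⟨e.2, ?_⟩
    show (e : P) ∈ Subgroup.centralizer ({u} : Set P)
    rw [Subgroup.mem_centralizer_singleton_iff]
    have h1 : (e : P) * (u * e * u⁻¹) = 1 := congrArg Subtype.val he
    have h2 : u * e * u⁻¹ = e := by
      rw [← one_mul (u * e * u⁻¹), ← (hE e e.2).1, mul_assoc, h1, mul_one]
    exact (mul_inv_eq_iff_eq_mul.mp h2).symm
  have hran : φ.range.map E.subtype ≤ K := by
    rintro _ ⟨_, ⟨e, rfl⟩, rfl⟩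
    refine ⟨(φ e).2, ?_⟩
    show (e : P) * (u * e * u⁻¹) ∈ Subgroup.centralizer ({u} : Set P)
    rw [Subgroup.mem_centralizer_singleton_iff]
    have hc := (hE e e.2).2 _ (hN e e.2)
    calc (e : P) * (u * e * u⁻¹) * u = (u * e * u⁻¹) * (e : P) * u := by rw [hc]
      _ = u * ((e : P) * (u * e * u⁻¹)) := by rw [huinv]; simp [mul_assoc]
  rw [← Subgroup.card_mul_index φ.ker, Subgroup.index_ker]
  refine Nat.mul_le_mul ?_ ?_
  · exact le_trans (le_of_eq (Nat.card_congr (φ.ker.equivMapOfInjective _ E.subtype_injective).toEquiv))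
      (Subgroup.card_le_of_le hker)
  · exact le_trans (le_of_eq (Nat.card_congr (φ.range.equivMapOfInjective _ E.subtype_injective).toEquiv))
      (Subgroup.card_le_of_le hran)

/-- The bound turned into the next power of two. -/
theorem pow_le_card [Finite P] (hP : IsPGroup 2 P) {K : Subgroup P} {k n : ℕ}
    (h : 2 ^ n ≤ Nat.card K * Nat.card K) (hk : 2 * k < n + 2) : 2 ^ k ≤ Nat.card K := by
  obtain ⟨j, hj⟩ := (hP.to_subgroup K).exists_card_eq
  rw [hj, ← pow_add] at h
  rw [hj]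
  have := (Nat.pow_le_pow_iff_right (by norm_num : 1 < 2)).mp h
  exact Nat.pow_le_pow_right (by norm_num) (by omega)

/-- A subgroup of given order inside a given one. -/
theorem exists_sub [Finite P] (hP : IsPGroup 2 P) {K : Subgroup P} {k : ℕ} (h : 2 ^ k ≤ Nat.card K) :
    ∃ D : Subgroup P, D ≤ K ∧ Nat.card D = 2 ^ k :=
  Sylow.exists_subgroup_le_card_pow_prime_of_le_card Nat.prime_two hP h

theorem card_lt_sup [Finite P] {A B : Subgroup P} (h : ¬ B ≤ A) :
    2 * Nat.card A ≤ Nat.card ↥(A ⊔ B) := by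
  have hle : A ≤ A ⊔ B := le_sup_left
  have h1 := CfsgLib.Solv.relIndex_mul_card hle
  have h2 : A.relIndex (A ⊔ B) ≠ 1 := fun e => h (le_trans le_sup_right (Subgroup.relIndex_eq_one.mp e))
  have h3 : A.relIndex (A ⊔ B) ≠ 0 := Subgroup.index_ne_zero_of_finite
  rw [← h1, mul_comm]
  exact Nat.mul_le_mul_left _ (by omega)

theorem isKleinFour_of {D : Subgroup P} (hD : IsEA D) (hc : Nat.card D = 4) : IsKleinFour D := by
  refine ⟨hc, ?_⟩
  haveI : Finite D := Nat.finite_of_card_ne_zero (by omega)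
  have h1 : Monoid.exponent D ∣ 2 := Monoid.exponent_dvd_of_forall_pow_eq_one fun a =>
    Subtype.ext (by simpa [sq] using (hD a a.2).1)
  rcases (Nat.dvd_prime Nat.prime_two).mp h1 with h | h
  · haveI : Subsingleton D := Monoid.exp_eq_one_iff.mp h
    rw [Nat.card_eq_one_iff_unique.mpr ⟨inferInstance, inferInstance⟩] at hc
    omega
  · exact h

theorem isEA_of_isKleinFour {D : Subgroup P} (hD : IsKleinFour D) : IsEA D := by
  intro a ha
  have h : ∀ x : D, x * x = 1 := fun x => by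
    rw [← sq, ← hD.exponent_two, Monoid.pow_exponent_eq_one]
  refine ⟨congrArg Subtype.val (h ⟨a, ha⟩), fun b hb => ?_⟩
  have hi : ∀ x : D, x⁻¹ = x := fun x => inv_eq_of_mul_eq_one_right (h x)
  have : (⟨a, ha⟩ : D) * ⟨b, hb⟩ = ⟨b, hb⟩ * ⟨a, ha⟩ := by
    rw [← hi (⟨a, ha⟩ * ⟨b, hb⟩), mul_inv_rev, hi, hi]
  exact congrArg Subtype.val this

end CfsgLib.Base.FourChain
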