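import Cfsg.Prelude.Def_Local
import Cfsg.Agent.Solv.Basic

/-!
The subgroup `O_{p',p}(G)`, its Sylow subgroup inside a fixed Sylow subgroup, and the Frattini argument for it.
-/

set_option autoImplicit false
set_option linter.style.haveILetI false

namespace CfsgLib.Base.PPrimeP

variable {G : Type*} [Group G] {p : ℕ}

theorem pPrimePCore_normal [Finite G] : (Cfsg.pPrimePCore p G).Normal := by
  haveI := CfsgLib.Solv.pPrimeCore_normal G p
  haveI := CfsgLib.Solv.pCore_normal (G ⧸ Cfsg.pPrimeCore p G) (p := p)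
  exact Subgroup.Normal.comap inferInstance _

theorem pPrimeCore_le [Finite G] : Cfsg.pPrimeCore p G ≤ Cfsg.pPrimePCore p G := by
  haveI := CfsgLib.Solv.pPrimeCore_normal G p
  exact QuotientGroup.le_comap_mk' _ _

theorem inf_pPrimeCore [Finite G] [hp : Fact p.Prime] {K : Subgroup G} (hK : IsPGroup p ↥K) :
    K ⊓ Cfsg.pPrimeCore p G = ⊥ := by
  refine Subgroup.inf_eq_bot_of_coprime ?_
  obtain ⟨n, hn⟩ := IsPGroup.iff_card.1 hK
  rw [hn]
  exact (CfsgLib.Solv.pPrimeCore_coprime G p).symm.pow_left n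

/-- `O_{p',p}(G) = (S ∩ O_{p',p}(G)) O_{p'}(G)`. -/
theorem sylow_sup_core [Finite G] [hp : Fact p.Prime] (S : Sylow p G) :
    ((S : Subgroup G) ⊓ Cfsg.pPrimePCore p G) ⊔ Cfsg.pPrimeCore p G = Cfsg.pPrimePCore p G := by
  refine le_antisymm (sup_le inf_le_right pPrimeCore_le) ?_
  haveI := CfsgLib.Solv.pPrimeCore_normal G p
  intro x hx
  have h1 : QuotientGroup.mk' (Cfsg.pPrimeCore p G) x ∈ Cfsg.pCore p (G ⧸ Cfsg.pPrimeCore p G) := hx
  have h2 := CfsgLib.Solv.pCore_le_sylow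
    (S.mapSurjective (QuotientGroup.mk'_surjective (Cfsg.pPrimeCore p G))) h1
  obtain ⟨s, hs, hse⟩ := h2
  have h3 : s⁻¹ * x ∈ Cfsg.pPrimeCore p G := by
    rw [← QuotientGroup.eq]; exact hse
  have hsP : s ∈ Cfsg.pPrimePCore p G := by
    show QuotientGroup.mk' (Cfsg.pPrimeCore p G) s ∈ Cfsg.pCore p (G ⧸ Cfsg.pPrimeCore p G)
    exact hse ▸ h1
  rw [← mul_inv_cancel_left s x]
  exact Subgroup.mul_mem_sup ⟨hs, hsP⟩ h3

/-- The index of `S ∩ O_{p',p}(G)` in `O_{p',p}(G)` is prime to `p`. -/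
theorem not_dvd_relIndex [Finite G] [hp : Fact p.Prime] (S : Sylow p G) :
    ¬ p ∣ ((S : Subgroup G) ⊓ Cfsg.pPrimePCore p G).relIndex (Cfsg.pPrimePCore p G) := by
  haveI := CfsgLib.Solv.pPrimeCore_normal G p
  intro hd
  have h1 := CfsgLib.Solv.card_sup_mul_card_inf ((S : Subgroup G) ⊓ Cfsg.pPrimePCore p G)
    (Cfsg.pPrimeCore p G)
  rw [sylow_sup_core S, inf_pPrimeCore (S.isPGroup'.to_le inf_le_left), Subgroup.card_bot, mul_one,
    ← CfsgLib.Solv.relIndex_mul_card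
      (inf_le_right : (S : Subgroup G) ⊓ Cfsg.pPrimePCore p G ≤ Cfsg.pPrimePCore p G)] at h1
  rw [Nat.eq_of_mul_eq_mul_left Nat.card_pos h1] at hd
  exact CfsgLib.Solv.not_dvd_card_pPrimeCore hd

/-- Frattini: `G = N_G(S ∩ O_{p',p}(G)) O_{p'}(G)`. -/
theorem normalizer_sup_core [Finite G] [hp : Fact p.Prime] (S : Sylow p G) :
    Subgroup.normalizer (((S : Subgroup G) ⊓ Cfsg.pPrimePCore p G : Subgroup G) : Set G) ⊔
      Cfsg.pPrimeCore p G = ⊤ := by
  haveI := pPrimePCore_normal (G := G) (p := p)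
  haveI := CfsgLib.Solv.pPrimeCore_normal G p
  set M := Cfsg.pPrimePCore p G with hM
  set K := (S : Subgroup G) ⊓ M with hK
  have hsc : K ⊔ Cfsg.pPrimeCore p G = M := sylow_sup_core S
  have hKp : IsPGroup p ↥(K.subgroupOf M) :=
    (S.isPGroup'.to_le inf_le_left).of_equiv (Subgroup.subgroupOfEquivOfLe (inf_le_right : K ≤ M)).symm
  have hidx : ¬ p ∣ (K.subgroupOf M).index := not_dvd_relIndex S
  have h := Sylow.normalizer_sup_eq_top (hKp.toSylow hidx)
  rw [IsPGroup.toSylow_coe, Subgroup.subgroupOf_map_subtype, inf_of_le_left (inf_le_right : K ≤ M)] at h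
  rw [eq_top_iff, ← h]
  refine sup_le le_sup_left ?_
  conv_lhs => rw [← hsc]
  exact sup_le (Subgroup.le_normalizer.trans le_sup_left) le_sup_right

/-- Elements of `G` decompose as `o * n` with `o ∈ O_{p'}(G)` and `n` normalizing `S ∩ O_{p',p}(G)`. -/
theorem exists_decomp [Finite G] [hp : Fact p.Prime] (S : Sylow p G) (g : G) :
    ∃ o ∈ Cfsg.pPrimeCore p G, ∃ n ∈ Subgroup.normalizer
      (((S : Subgroup G) ⊓ Cfsg.pPrimePCore p G : Subgroup G) : Set G), g = o * n := by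
  haveI := CfsgLib.Solv.pPrimeCore_normal G p
  have hg : g ∈ Cfsg.pPrimeCore p G ⊔ Subgroup.normalizer
      (((S : Subgroup G) ⊓ Cfsg.pPrimePCore p G : Subgroup G) : Set G) := by
    rw [sup_comm, normalizer_sup_core S]; trivial
  rw [Subgroup.mem_sup_of_normal_left] at hg
  obtain ⟨o, ho, n, hn, rfl⟩ := hg
  exact ⟨o, ho, n, hn, rfl⟩

/-- An element of `O_{p'}(G)` normalizing a `p`-subgroup centralizes it. -/
theorem commute_of_core [Finite G] [hp : Fact p.Prime] {K : Subgroup G} (hK : IsPGroup p ↥K) {o : G}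
    (ho : o ∈ Cfsg.pPrimeCore p G) {x : G} (hx : x ∈ K) (h : o * x * o⁻¹ ∈ K) : o * x = x * o := by
  haveI := CfsgLib.Solv.pPrimeCore_normal G p
  have h1 : o * x * o⁻¹ * x⁻¹ ∈ K ⊓ Cfsg.pPrimeCore p G :=
    ⟨K.mul_mem h (K.inv_mem hx), by
      simpa [mul_assoc] using (Cfsg.pPrimeCore p G).mul_mem ho
        ((inferInstance : (Cfsg.pPrimeCore p G).Normal).conj_mem _ ((Cfsg.pPrimeCore p G).inv_mem ho) x)⟩
  rw [inf_pPrimeCore hK, Subgroup.mem_bot] at h1
  exact mul_inv_eq_iff_eq_mul.mp (mul_inv_eq_one.mp h1)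

end CfsgLib.Base.PPrimeP
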