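import Cfsg.Agent.Solv.UniqueSub
import Mathlib.GroupTheory.Abelianization.Defs
import Mathlib.Tactic

/-! Central extensions of generalised quaternion groups. -/

set_option autoImplicit false
set_option linter.style.haveILetI false

open scoped commutatorElement

namespace CfsgLib.QuatExt

open Subgroup

universe u
variable {S : Type u} [Group S] [Finite S] {D : Subgroup S} [D.Normal]

/-- A maximal subgroup of an abelian 2-group has index two. -/
theorem coatom_two {Z : Type*} [Group Z] [Finite Z] (hZ : IsPGroup 2 Z) (hab : ∀ a b : Z, a * b = b * a)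
    {M : Subgroup Z} (hM : IsCoatom M) :
    ∃ z, z ∉ M ∧ z * z ∈ M ∧ ∀ w, w ∈ M ∨ w * z ∈ M := by
  classical
  obtain ⟨u, hu⟩ : ∃ u, u ∉ M := by
    by_contra h
    push Not at h
    exact hM.1 (eq_top_iff.2 fun x _ => h x)
  have hex : ∃ k, u ^ 2 ^ k ∈ M := by
    obtain ⟨k, hk⟩ := hZ u
    exact ⟨k, hk ▸ one_mem _⟩
  obtain ⟨k, hk⟩ : ∃ k, Nat.find hex = k + 1 := ⟨Nat.find hex - 1, by
    have : Nat.find hex ≠ 0 := fun h => hu (by simpa [h] using Nat.find_spec hex)
    omega⟩
  set z := u ^ 2 ^ k with hz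
  have hzM : z ∉ M := Nat.find_min hex (by omega)
  have hzz : z * z ∈ M := by
    rw [hz, ← pow_add, ← two_mul, ← pow_succ', ← hk]; exact Nat.find_spec hex
  refine ⟨z, hzM, hzz, fun w => ?_⟩
  have : M.Normal := ⟨fun n hn g => by rw [hab g n, mul_inv_cancel_right]; exact hn⟩
  have htop : M ⊔ zpowers z = ⊤ :=
    hM.2 _ (lt_of_le_of_ne le_sup_left fun e => hzM (e ▸ mem_sup_right (mem_zpowers z)))
  have hw : w ∈ (↑(M ⊔ zpowers z) : Set Z) := by rw [htop]; trivial
  rw [normal_mul] at hw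
  obtain ⟨a, ha, b, hb, rfl⟩ := Set.mem_mul.1 hw
  obtain ⟨i, rfl⟩ := mem_zpowers_iff.1 hb
  rcases Int.even_or_odd i with ⟨j, rfl⟩ | ⟨j, rfl⟩
  · exact .inl (M.mul_mem ha (by rw [← two_mul, zpow_mul, zpow_ofNat, pow_two]; exact M.zpow_mem hzz j))
  · refine .inr ?_
    rw [mul_assoc, ← zpow_add_one, show 2 * j + 1 + 1 = 2 * (j + 1) by ring, zpow_mul, zpow_ofNat,
      pow_two]
    exact M.mul_mem ha (M.zpow_mem hzz _)

/-- The hypotheses on a central extension. -/
structure Ext (D : Subgroup S) [D.Normal] : Prop where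
  le : D ≤ center S
  coatom : IsCoatom (D.subgroupOf (center S))
  nonabelian : ¬ IsMulCommutative (S ⧸ D)
  unique : ∃! x : S ⧸ D, orderOf x = 2

theorem of_map {C : Subgroup (center S)} (hC : IsCoatom C) [(C.map (center S).subtype).Normal]
    (h1 : ¬ IsMulCommutative (S ⧸ C.map (center S).subtype))
    (h2 : ∃! x : S ⧸ C.map (center S).subtype, orderOf x = 2) : Ext (C.map (center S).subtype) where
  le := map_subtype_le C
  coatom := by
    have : (C.map (center S).subtype).subgroupOf (center S) = C :=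
      comap_map_eq_self_of_injective (center S).subtype_injective C
    rwa [this]
  nonabelian := h1
  unique := h2

variable (hS : IsPGroup 2 S) (h : Ext D)
include hS h

theorem exists_z : ∃ z ∈ center S, z ∉ D ∧ z * z ∈ D ∧ ∀ w ∈ center S, w ∈ D ∨ w * z ∈ D := by
  obtain ⟨z, h1, h2, h3⟩ := coatom_two (hS.to_subgroup (center S))
    (fun a b => Subtype.ext (mem_center_iff.1 b.2 a.1)) h.coatom
  exact ⟨z.1, z.2, h1, h2, fun w hw => h3 ⟨w, hw⟩⟩

/-- An element whose square is in `D` is central. -/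
theorem central_of_sq {s : S} (hs : s * s ∈ D) : s ∈ center S := by
  obtain ⟨z, hzc, hz, hzz, -⟩ := exists_z hS h
  by_cases hsD : s ∈ D
  · exact h.le hsD
  have o : ∀ t : S, t ∉ D → t * t ∈ D → orderOf (t : S ⧸ D) = 2 := fun t ht htt =>
    orderOf_eq_prime (by rw [pow_two, ← QuotientGroup.mk_mul, QuotientGroup.eq_one_iff]; exact htt)
      (fun e => ht ((QuotientGroup.eq_one_iff t).1 e))
  have e := h.unique.unique (o s hsD hs) (o z hz hzz)
  rw [QuotientGroup.eq] at e
  have := (center S).inv_mem ((center S).mul_mem (h.le e) ((center S).inv_mem hzc))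
  simpa using this

theorem sq_not_mem {s : S} (hs : s ∉ center S) : s * s ∉ D := fun e => hs (central_of_sq hS h e)

/-- Generators of the extension. -/
theorem exists_gens : ∃ (x y : S) (N : ℕ), 2 ∣ N ∧ 0 < N ∧ orderOf (x : S ⧸ D) = 2 * N ∧
    Nat.card (S ⧸ D) = 4 * N ∧ x ^ N ∈ center S ∧ x ^ (N / 2) ∉ center S ∧ y * y ∈ center S ∧
    y ∉ center S ∧ y * x ∉ center S ∧ y * x * y⁻¹ * x ∈ D ∧
    ∀ s : S, ∃ i : ℤ, (x ^ i)⁻¹ * s ∈ D ∨ (y * x ^ i)⁻¹ * s ∈ D := by
  have : Fact (Nat.Prime 2) := ⟨Nat.prime_two⟩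
  obtain ⟨z, hzc, hz, hzz, hzall⟩ := exists_z hS h
  have hu : ∀ a b : S ⧸ D, orderOf a = 2 → orderOf b = 2 → b ∈ zpowers a := fun a b ha hb =>
    h.unique.unique ha hb ▸ mem_zpowers a
  rcases CfsgLib.Solv.pgroup_unique_sub (hS.to_quotient D) hu with hc | ⟨-, k, ⟨e⟩⟩
  · exact absurd hc.isMulCommutative h.nonabelian
  set N := 2 ^ (k + 1) with hN
  have : NeZero N := ⟨pow_ne_zero _ two_ne_zero⟩
  have h2N : 2 ≤ N := Nat.le_self_pow (Nat.succ_ne_zero k) 2
  obtain ⟨x, hx⟩ := QuotientGroup.mk_surjective (e.symm (.a 1))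
  obtain ⟨y, hy⟩ := QuotientGroup.mk_surjective (e.symm (.xa 0))
  have ex : e (x : S ⧸ D) = .a 1 := by rw [hx, MulEquiv.apply_symm_apply]
  have ey : e (y : S ⧸ D) = .xa 0 := by rw [hy, MulEquiv.apply_symm_apply]
  have hord : orderOf (x : S ⧸ D) = 2 * N := by
    rw [← orderOf_injective e.toMonoidHom e.injective]
    exact (congrArg orderOf ex).trans QuaternionGroup.orderOf_a_one
  have hyy : ((y * y : S) : S ⧸ D) = ((x ^ N : S) : S ⧸ D) := by
    refine e.injective ?_
    rw [QuotientGroup.mk_mul, QuotientGroup.mk_pow, map_mul, map_pow, ex, ey,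
      QuaternionGroup.a_one_pow, QuaternionGroup.xa_mul_xa]
    simp
  have hyx : y * x * y⁻¹ * x ∈ D := by
    rw [← QuotientGroup.eq_one_iff]
    refine e.injective ?_
    simp only [QuotientGroup.mk_mul, QuotientGroup.mk_inv, map_mul, map_inv, map_one, ex, ey]
    have h1 : (QuaternionGroup.xa 0 : QuaternionGroup N) * .a 1 = (QuaternionGroup.a 1)⁻¹ * .xa 0 := by
      rw [show ((QuaternionGroup.a 1 : QuaternionGroup N))⁻¹ = .a (-1) from rfl,
        QuaternionGroup.xa_mul_a, QuaternionGroup.a_mul_xa]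
      simp
    rw [h1, mul_inv_cancel_right, inv_mul_cancel]
  have hcov : ∀ s : S, ∃ i : ℤ, (x ^ i)⁻¹ * s ∈ D ∨ (y * x ^ i)⁻¹ * s ∈ D := by
    intro s
    have hp : ∀ j : ZMod (2 * N), e ((x : S ⧸ D) ^ (j.val : ℤ)) = .a j := fun j => by
      rw [zpow_natCast, map_pow, ex, QuaternionGroup.a_one_pow, ZMod.natCast_zmod_val]
    cases hs : e (s : S ⧸ D) with
    | a j =>
      refine ⟨j.val, .inl (QuotientGroup.eq.1 (e.injective ?_))⟩
      rw [hs, QuotientGroup.mk_zpow, hp]
    | xa j =>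
      refine ⟨j.val, .inr (QuotientGroup.eq.1 (e.injective ?_))⟩
      rw [hs, QuotientGroup.mk_mul, QuotientGroup.mk_zpow, map_mul, hp, ey,
        QuaternionGroup.xa_mul_a, zero_add]
  have nonc : ∀ s t : S, e (s : S ⧸ D) * e (t : S ⧸ D) ≠ e (t : S ⧸ D) * e (s : S ⧸ D) →
      s ∉ center S := fun s t hne hs => hne (by
    rw [← map_mul, ← map_mul, ← QuotientGroup.mk_mul, ← QuotientGroup.mk_mul, mem_center_iff.1 hs t])
  have h2ne : (2 : ZMod (2 * N)) ≠ 0 := fun h0 => by
    have := Nat.le_of_dvd two_pos ((ZMod.natCast_eq_zero_iff 2 (2 * N)).1 (by exact_mod_cast h0))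
    omega
  have hxN : x ^ N ∈ center S := by
    refine central_of_sq hS h ?_
    rw [← pow_add, ← two_mul, ← QuotientGroup.eq_one_iff, QuotientGroup.mk_pow, ← hord]
    exact pow_orderOf_eq_one _
  have hynot : y ∉ center S := nonc y x (by
    rw [ex, ey, QuaternionGroup.xa_mul_a, QuaternionGroup.a_mul_xa]
    intro e'
    apply h2ne
    have := QuaternionGroup.xa.inj e'
    linear_combination this)
  have hyy' : y * y ∈ center S := by
    have hd := (center S).mul_mem hxN (h.le (QuotientGroup.eq.1 hyy.symm))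
    rwa [mul_inv_cancel_left] at hd
  refine ⟨x, y, N, dvd_pow_self 2 (Nat.succ_ne_zero k), by omega, hord, ?_, hxN, ?_, hyy', hynot, ?_,
    hyx, hcov⟩
  · rw [Nat.card_congr e.toEquiv, Nat.card_eq_fintype_card, QuaternionGroup.card]
  · refine nonc _ y ?_
    rw [ey, QuotientGroup.mk_pow, map_pow, ex, QuaternionGroup.a_one_pow,
      QuaternionGroup.xa_mul_a, QuaternionGroup.a_mul_xa]
    intro e'
    have h0 : ((2 * (N / 2) : ℕ) : ZMod (2 * N)) = 0 := by
      push_cast
      linear_combination -(QuaternionGroup.xa.inj e')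
    have := Nat.le_of_dvd (by omega) ((ZMod.natCast_eq_zero_iff _ _).1 h0)
    omega
  · refine nonc _ x ?_
    rw [QuotientGroup.mk_mul, map_mul, ex, ey, QuaternionGroup.xa_mul_a,
      QuaternionGroup.xa_mul_a, QuaternionGroup.a_mul_xa]
    intro e'
    apply h2ne
    linear_combination (QuaternionGroup.xa.inj e')

/-- The derived group is cyclic and not trivial. -/
theorem commutator_cyclic : commutator S ≠ ⊥ ∧ IsCyclic (commutator S) := by
  obtain ⟨x, y, N, -, -, -, -, -, -, hyy, -, -, hyx, hcov⟩ := exists_gens hS h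
  set d := y * x * y⁻¹ * x with hd
  have hdc : d ∈ center S := h.le hyx
  set c := y * x * y⁻¹ * x⁻¹ with hc
  have hcd : c = d * (x⁻¹ * x⁻¹) := by rw [hc, hd]; group
  have hyxy : y * x * y⁻¹ = d * x⁻¹ := by rw [hd]; group
  have hdcom : ∀ g : S, g * d = d * g := mem_center_iff.1 hdc
  have hcx : Commute c x := by
    rw [hcd]
    exact (show Commute d x from (hdcom x).symm).mul_left
      (((Commute.refl x).inv_left).mul_left ((Commute.refl x).inv_left))
  have hcy : y * c * y⁻¹ = c⁻¹ := by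
    have : y * d * y⁻¹ = d := by rw [hdcom, mul_inv_cancel_right]
    calc y * c * y⁻¹ = (y * d * y⁻¹) * ((y * x * y⁻¹)⁻¹ * (y * x * y⁻¹)⁻¹) := by rw [hcd]; group
      _ = d * ((d * x⁻¹)⁻¹ * (d * x⁻¹)⁻¹) := by rw [this, hyxy]
      _ = (d * x) * d⁻¹ * x * d⁻¹ := by group
      _ = (x * d) * d⁻¹ * x * d⁻¹ := by rw [hdcom x]
      _ = c⁻¹ := by rw [mul_inv_cancel_right, hcd]; exact (fun e : S => show x * x * e⁻¹ = (e * (x⁻¹ * x⁻¹))⁻¹ by rw [mul_inv_rev, mul_inv_rev, inv_inv]) d
  have hn : ∀ g : S, g * c * g⁻¹ = c ∨ g * c * g⁻¹ = c⁻¹ := by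
    intro g
    obtain ⟨i, hg | hg⟩ := hcov g
    · left
      have := mem_center_iff.1 (h.le hg) c
      calc g * c * g⁻¹ = x ^ i * (((x ^ i)⁻¹ * g) * c) * g⁻¹ := by group
        _ = x ^ i * (c * ((x ^ i)⁻¹ * g)) * g⁻¹ := by rw [this]
        _ = x ^ i * c * (x ^ i)⁻¹ := by group
        _ = c := by rw [(hcx.zpow_right i).symm.eq, mul_inv_cancel_right]
    · right
      have := mem_center_iff.1 (h.le hg) c
      calc g * c * g⁻¹ = y * x ^ i * (((y * x ^ i)⁻¹ * g) * c) * g⁻¹ := by group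
        _ = y * x ^ i * (c * ((y * x ^ i)⁻¹ * g)) * g⁻¹ := by rw [this]
        _ = y * (x ^ i * c * (x ^ i)⁻¹) * y⁻¹ := by group
        _ = c⁻¹ := by rw [(hcx.zpow_right i).symm.eq, mul_inv_cancel_right, hcy]
  haveI : (zpowers c).Normal := ⟨fun a ha g => by
    obtain ⟨j, rfl⟩ := mem_zpowers_iff.1 ha
    rw [← conj_zpow]
    rcases hn g with e | e <;> rw [e]
    · exact zpow_mem (mem_zpowers c) j
    · exact zpow_mem (inv_mem (mem_zpowers c)) j⟩
  have hle : commutator S ≤ zpowers c := by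
    rw [← Normal.quotient_commutative_iff_commutator_le]
    refine ⟨?_⟩
    set q := QuotientGroup.mk' (zpowers c) with hq
    have hxy : Commute (q y) (q x) := by
      have : q c = 1 := (QuotientGroup.eq_one_iff c).2 (mem_zpowers c)
      replace this : q (y * x * y⁻¹ * x⁻¹) = 1 := this
      rw [map_mul, map_mul, map_mul, map_inv, map_inv] at this
      exact mul_inv_eq_iff_eq_mul.1 (mul_inv_eq_one.1 this)
    have key : ∀ g : S, Commute (q g) (q x) ∧ Commute (q g) (q y) := by
      intro g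
      obtain ⟨i, hg | hg⟩ := hcov g
      · have hz := mem_center_iff.1 (h.le hg)
        have : g = x ^ i * ((x ^ i)⁻¹ * g) := by group
        rw [this, map_mul, map_zpow]
        exact ⟨((Commute.refl _).zpow_left i).mul_left ((Commute.map (hz x).symm q : _)),
          (hxy.symm.zpow_left i).mul_left ((Commute.map (hz y).symm q : _))⟩
      · have hz := mem_center_iff.1 (h.le hg)
        have : g = y * x ^ i * ((y * x ^ i)⁻¹ * g) := by group
        rw [this, map_mul, map_mul, map_zpow]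
        exact ⟨(hxy.mul_left ((Commute.refl _).zpow_left i)).mul_left (Commute.map (hz x).symm q),
          ((Commute.refl _).mul_left (hxy.symm.zpow_left i)).mul_left (Commute.map (hz y).symm q)⟩
    refine ⟨fun a b => ?_⟩
    obtain ⟨a, rfl⟩ := QuotientGroup.mk'_surjective (zpowers c) a
    obtain ⟨b, rfl⟩ := QuotientGroup.mk'_surjective (zpowers c) b
    obtain ⟨i, hb | hb⟩ := hcov b
    · have hz := mem_center_iff.1 (h.le hb)
      have : b = x ^ i * ((x ^ i)⁻¹ * b) := by group
      rw [this, map_mul, map_zpow]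
      exact ((key a).1.zpow_right i).mul_right (Commute.map (hz a) q)
    · have hz := mem_center_iff.1 (h.le hb)
      have : b = y * x ^ i * ((y * x ^ i)⁻¹ * b) := by group
      rw [this, map_mul, map_mul, map_zpow]
      exact ((key a).2.mul_right ((key a).1.zpow_right i)).mul_right (Commute.map (hz a) q)
  refine ⟨fun e => h.nonabelian ?_, Subgroup.isCyclic_of_le hle⟩
  refine ⟨⟨fun a b => ?_⟩⟩
  induction a using QuotientGroup.induction_on with
  | _ a =>
    induction b using QuotientGroup.induction_on with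
    | _ b =>
      rw [← QuotientGroup.mk_mul, ← QuotientGroup.mk_mul]
      congr 1
      have hab : ⁅a, b⁆ ∈ commutator S := Subgroup.commutator_mem_commutator (mem_top a) (mem_top b)
      rw [e, mem_bot, commutatorElement_eq_one_iff_commute] at hab
      exact hab.eq

end CfsgLib.QuatExt
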