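import Cfsg.Agent.Base.BrauerSuzukiChar
import Cfsg.Agent.Blk.Principal
import Cfsg.Agent.Blk.Criterion
import Cfsg.Agent.Fus.CoreBasic

/-!
The Brauer–Suzuki theorem for quaternion Sylow 2-subgroups of order eight, by the column of the
principal block at an element of order four.
-/

set_option autoImplicit false
set_option linter.unusedSectionVars false

namespace CfsgLib.Base.BS

open Cfsg CfsgLib.Char CfsgLib.Blk
open scoped ComplexConjugate

universe u

section arith

theorem zmod_four_first : ∀ a b : ZMod 4,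
    (a + b) ^ 2 * ((-1 + 2 * a) * (-1 + 2 * b)) =
      (1 + 2 * (a + b)) * (a ^ 2 * (-1 + 2 * b) + b ^ 2 * (-1 + 2 * a)) →
    2 * a = 0 ∧ 2 * b = 0 := by decide

theorem zmod_four_second : ∀ a b : ZMod 4,
    (a + b) ^ 2 * (-1 * -1) = 1 * (a ^ 2 * -1 + b ^ 2 * -1) → 2 * a = 0 ∧ 2 * b = 0 := by decide

theorem even_of_two_mul_eq_zero {m : ℤ} (h : (2 : ZMod 4) * (m : ZMod 4) = 0) : 2 ∣ m := by
  have h' : ((2 * m : ℤ) : ZMod 4) = 0 := by push_cast; exact h
  rw [ZMod.intCast_zmod_eq_zero_iff_dvd] at h'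
  omega

/-- No infinite descent for the degree equation. -/
theorem descent {x₁ x₂ x₃ : ℤ} (h1 : (x₁ : ZMod 4) = 1) (h2 : (x₂ : ZMod 4) = -1)
    (h3 : (x₃ : ZMod 4) = -1) : ∀ n : ℕ, ∀ m₂ m₃ : ℤ, m₂.natAbs + m₃.natAbs = n →
      (m₂ + m₃) ^ 2 * (x₂ * x₃) = x₁ * (m₂ ^ 2 * x₃ + m₃ ^ 2 * x₂) → m₂ = 0 ∧ m₃ = 0 := by
  intro n
  induction n using Nat.strong_induction_on with
  | _ n ih =>
  intro m₂ m₃ hn he
  have hz := congrArg (fun z : ℤ => (z : ZMod 4)) he
  push_cast at hz
  rw [h1, h2, h3] at hz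
  obtain ⟨ha, hb⟩ := zmod_four_second _ _ hz
  obtain ⟨a, rfl⟩ := even_of_two_mul_eq_zero ha
  obtain ⟨b, rfl⟩ := even_of_two_mul_eq_zero hb
  by_cases h0 : a = 0 ∧ b = 0
  · simp [h0.1, h0.2]
  have hlt : a.natAbs + b.natAbs < n := by
    rw [← hn, Int.natAbs_mul, Int.natAbs_mul, show (2 : ℤ).natAbs = 2 from rfl]
    omega
  have := ih _ hlt a b rfl (by
    have h4 : (4 : ℤ) * ((a + b) ^ 2 * (x₂ * x₃)) = 4 * (x₁ * (a ^ 2 * x₃ + b ^ 2 * x₂)) := by
      linear_combination he
    linarith)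
  exact absurd this h0

theorem arith_pnn {x₁ x₂ x₃ m₂ m₃ : ℤ} (h1 : (x₁ : ZMod 4) = 1 + 2 * ((m₂ + m₃ : ℤ) : ZMod 4))
    (h2 : (x₂ : ZMod 4) = -1 + 2 * (m₂ : ZMod 4)) (h3 : (x₃ : ZMod 4) = -1 + 2 * (m₃ : ZMod 4))
    (he : (m₂ + m₃) ^ 2 * (x₂ * x₃) = x₁ * (m₂ ^ 2 * x₃ + m₃ ^ 2 * x₂)) : m₂ = 0 ∧ m₃ = 0 := by
  have hz := congrArg (fun z : ℤ => (z : ZMod 4)) he
  push_cast at hz h1
  rw [h1, h2, h3] at hz
  obtain ⟨ha, hb⟩ := zmod_four_first _ _ hz
  refine descent (x₁ := x₁) (x₂ := x₂) (x₃ := x₃) ?_ ?_ ?_ _ m₂ m₃ rfl he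
  · rw [h1, mul_add, ha, hb, add_zero, add_zero]
  · rw [h2, ha, add_zero]
  · rw [h3, hb, add_zero]

theorem arith_ppn {x₁ x₂ x₃ m₁ m₂ m₃ : ℤ} (hx₁ : 0 < x₁) (hx₂ : 0 < x₂)
    (hsum : x₃ = 1 + x₁ + x₂) (hm : m₃ = m₁ + m₂) (hm₁ : 0 ≤ m₁) (hm₂ : 0 ≤ m₂)
    (he : m₃ ^ 2 * (x₁ * x₂) = x₃ * (m₁ ^ 2 * x₂ + m₂ ^ 2 * x₁)) : m₃ = 0 := by
  by_contra h
  have h0 : 0 < m₃ ^ 2 := by positivity
  have e1 : (m₁ ^ 2 * x₂ + m₂ ^ 2 * x₁) * (x₁ + x₂) = m₃ ^ 2 * (x₁ * x₂) + (m₁ * x₂ - m₂ * x₁) ^ 2 := by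
    subst hm; ring
  have e2 : (m₁ ^ 2 * x₂ + m₂ ^ 2 * x₁) * 1 + (m₁ * x₂ - m₂ * x₁) ^ 2 = 0 := by
    subst hsum
    linear_combination -he - e1
  have h4 : 0 < m₁ ^ 2 * x₂ + m₂ ^ 2 * x₁ := by
    rcases (show m₁ ≠ 0 ∨ m₂ ≠ 0 by omega) with h5 | h5
    · have : 0 < m₁ ^ 2 := by positivity
      nlinarith [sq_nonneg m₂]
    · have : 0 < m₂ ^ 2 := by positivity
      nlinarith [sq_nonneg m₁]
  nlinarith [sq_nonneg (m₁ * x₂ - m₂ * x₁)]

end arith

variable {G : Type u} [Group G]

/-- A normal subgroup with cyclic Sylow 2-subgroup is a 2-group when the odd core is trivial. -/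
theorem isPGroup_of_cyclic_sylow [Finite G] (hO : ∀ N : Subgroup G, N.Normal → Odd (Nat.card N) → N = ⊥)
    (M : Subgroup G) [hM : M.Normal] (heven : 2 ∣ Nat.card M) (P : Sylow 2 M)
    (hcyc : IsCyclic (P : Subgroup M)) : IsPGroup 2 M := by
  haveI : Fact (Nat.Prime 2) := ⟨Nat.prime_two⟩
  have hP := IsCyclic.normalizer_le_centralizer (P := P)
    ((Nat.minFac_eq_two_iff _).2 heven) hcyc
  set f := MonoidHom.transferSylow P hP with hf
  have hodd : Odd (Nat.card f.ker) := by
    rw [← Nat.not_even_iff_odd, even_iff_two_dvd]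
    exact MonoidHom.not_dvd_card_ker_transferSylow P hP
  have hK : f.ker.map M.subtype = ⊥ := by
    refine hO _ (Subgroup.Normal.mk ?_)
      (by rwa [← Nat.card_congr (f.ker.equivMapOfInjective _ Subtype.val_injective).toEquiv])
    rintro _ ⟨x, hx, rfl⟩ g
    refine ⟨⟨g * x * g⁻¹, hM.conj_mem _ x.2 g⟩, ?_, rfl⟩
    show f _ = 1
    rw [← orderOf_eq_one_iff]
    obtain ⟨l, hl⟩ := IsPGroup.iff_orderOf.1 P.2 (f ⟨g * x * g⁻¹, hM.conj_mem _ x.2 g⟩)
    have hd := orderOf_map_dvd f ⟨g * x * g⁻¹, hM.conj_mem _ x.2 g⟩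
    rw [hl] at hd ⊢
    rcases l with _ | l
    · rfl
    · exfalso
      have h2 := (dvd_pow_self 2 (Nat.succ_ne_zero l)).trans hd
      rw [Subgroup.orderOf_mk, show g * (x : G) * g⁻¹ = MulAut.conj g (x : G) from rfl,
        MulEquiv.orderOf_eq, Subgroup.orderOf_coe, ← Nat.card_zpowers] at h2
      exact Nat.not_even_iff_odd.2 hodd (even_iff_two_dvd.2
        (h2.trans (Subgroup.card_dvd_of_le (Subgroup.zpowers_le.2 hx))))
  rw [Subgroup.map_eq_bot_iff_of_injective _ Subtype.val_injective, MonoidHom.ker_eq_bot_iff] at hK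
  exact P.2.of_injective f hK

namespace QBase

variable [Finite G] {S : Sylow 2 G} {A B : G} (Q : QBase S 1 A B)
include Q

theorem A_four : A ^ 4 = 1 := by simpa using Q.A_two_pow

theorem A_order : orderOf A = 4 := by rw [Q.hord]; norm_num

theorem inv_isConj : IsConj A A⁻¹ := isConj_iff.2 ⟨B, Q.hconj⟩

theorem forms {s : G} (hs : s ∈ S) :
    s = 1 ∨ s = A ∨ s = A ^ 2 ∨ s = A⁻¹ ∨ s = B ∨ s = B * A ∨ s = B⁻¹ ∨ s = (B * A)⁻¹ := by
  have hA3 : A ^ 3 = A⁻¹ := eq_inv_of_mul_eq_one_left (by rw [← pow_succ]; exact Q.A_four)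
  have hB : B * A ^ 2 = B⁻¹ := by
    apply eq_inv_of_mul_eq_one_right
    rw [← mul_assoc, Q.hB2, ← pow_add]
    exact Q.A_four
  have hBA : B * A * A ^ 2 = (B * A)⁻¹ := by
    apply eq_inv_of_mul_eq_one_right
    have h1 : B * A * (B * A) = A ^ 2 := by
      calc B * A * (B * A) = (B * A * B⁻¹) * (B * B) * A := by group
        _ = A⁻¹ * A ^ 2 * A := by rw [Q.hconj, Q.hB2, pow_one]
        _ = A ^ 2 := by group
    rw [← mul_assoc, h1, ← pow_add]
    exact Q.A_four
  obtain ⟨j, hj⟩ := Q.hgen s hs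
  have hr : ∃ r : ℕ, r < 4 ∧ A ^ j = A ^ r := by
    refine ⟨(j % 4).toNat, by omega, ?_⟩
    rw [← zpow_natCast, Int.toNat_of_nonneg (Int.emod_nonneg _ (by norm_num))]
    conv_lhs => rw [← zpow_mod_orderOf, Q.A_order]
    rfl
  obtain ⟨r, hr4, hr'⟩ := hr
  rw [hr'] at hj
  interval_cases r <;> rcases hj with hj | hj <;>
    (try simp only [pow_zero, pow_one, mul_one] at hj)
  · exact Or.inl hj
  · simp [hj]
  · simp [hj]
  · simp [hj]
  · simp [hj]
  · simp [hj, hB]
  · simp [hj, hA3]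
  · refine Or.inr (Or.inr (Or.inr (Or.inr (Or.inr (Or.inr (Or.inr ?_))))))
    rw [hj, ← hBA, pow_succ', ← mul_assoc]

theorem invol_conj_eq {M : Subgroup G} [hn : M.Normal] (hp : IsPGroup 2 M)
    (hu : A ^ 2 ∈ M) (g : G) : g * A ^ 2 * g⁻¹ = A ^ 2 := by
  haveI : Fact (Nat.Prime 2) := ⟨Nat.prime_two⟩
  have := Q.invol_eq (hp.le_sylow_of_normal S (hn.conj_mem _ hu g)) (by
    rw [show g * A ^ 2 * g⁻¹ = MulAut.conj g (A ^ 2) from rfl, MulEquiv.orderOf_eq]
    simpa using Q.u_order)
  simpa using this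

theorem sq_of_order_four {C : G} (hC : C ∈ S) (hCo : orderOf C = 4) : C ^ 2 = A ^ 2 := by
  have := Q.invol_eq (pow_mem hC 2) (by
    rw [orderOf_pow_of_dvd two_ne_zero (by rw [hCo]; norm_num), hCo])
  simpa using this

theorem pow_two_le {C : G} (hC : C ∈ S) (hCo : orderOf C = 4) {y : G}
    (hy : y ∈ Subgroup.zpowers C) : y = 1 ∨ y = A ^ 2 ∨ y = C ∨ y = C⁻¹ := by
  obtain ⟨j, rfl⟩ := hy
  have e : C ^ j = C ^ (j % 4) := by
    conv_lhs => rw [← zpow_mod_orderOf, hCo]
    rfl
  have hC4 : C ^ 4 = 1 := by rw [← hCo]; exact pow_orderOf_eq_one C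
  rcases (show j % 4 = 0 ∨ j % 4 = 1 ∨ j % 4 = 2 ∨ j % 4 = 3 by omega) with h | h | h | h <;>
    simp only [e, h]
  · exact Or.inl (zpow_zero C)
  · exact Or.inr (Or.inr (Or.inl (zpow_one C)))
  · refine Or.inr (Or.inl ?_)
    rw [zpow_ofNat, Q.sq_of_order_four hC hCo]
  · refine Or.inr (Or.inr (Or.inr ?_))
    rw [zpow_ofNat]
    exact eq_inv_of_mul_eq_one_left (by rw [← pow_succ]; exact hC4)

/-- If the elements of order four are not all conjugate, there is a subgroup of index two. -/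
theorem index_two_of_not_conj {C D : G} (hC : C ∈ S) (hD : D ∈ S) (hCo : orderOf C = 4)
    (hDo : orderOf D = 4) (hCi : IsConj C C⁻¹) (hDi : IsConj D D⁻¹) (hCD : ¬ IsConj C D) :
    ∃ M : Subgroup G, M.Normal ∧ M.index = 2 := by
  classical
  haveI : Fact (Nat.Prime 2) := ⟨Nat.prime_two⟩
  have hcardS : Nat.card (S : Subgroup G) = 8 := by rw [Q.hcard]; norm_num
  set K := (Subgroup.zpowers C).subgroupOf (S : Subgroup G) with hK
  have hKi : K.index = 2 := by
    have h1 : Nat.card K = 4 := by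
      rw [hK, Nat.card_congr (Subgroup.subgroupOfEquivOfLe (Subgroup.zpowers_le.2 hC)).toEquiv,
        Nat.card_zpowers, hCo]
    have := K.card_mul_index
    rw [h1, hcardS] at this
    omega
  haveI : K.Normal := Subgroup.normal_of_index_eq_two hKi
  letI : CommGroup ((S : Subgroup G) ⧸ K) :=
    haveI : IsCyclic ((S : Subgroup G) ⧸ K) := isCyclic_of_prime_card (p := 2) hKi
    IsCyclic.commGroup
  set φ := QuotientGroup.mk' K
  set τ := φ ⟨D, hD⟩ with hτ
  have hnotK : ∀ (y : G) (hy : y ∈ S), IsConj D y → φ ⟨y, hy⟩ = τ := by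
    intro y hy hDy
    have h1 : ∀ z : (S : Subgroup G), IsConj D (z : G) → z ∉ K := by
      intro z hz hzK
      rw [hK, Subgroup.mem_subgroupOf] at hzK
      have hzo : orderOf (z : G) = 4 := by
        obtain ⟨g, hg⟩ := isConj_iff.1 hz
        rw [← hg, show g * D * g⁻¹ = MulAut.conj g D from rfl, MulEquiv.orderOf_eq, hDo]
      rcases Q.pow_two_le hC hCo hzK with h | h | h | h
      · rw [h, orderOf_one] at hzo; omega
      · have := Q.u_order
        rw [pow_one] at this
        rw [h, this] at hzo; omega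
      · exact hCD (h ▸ hz).symm
      · exact hCD (hCi.trans (h ▸ hz).symm)
    rw [hτ]
    apply Eq.symm
    rw [QuotientGroup.mk'_apply, QuotientGroup.mk'_apply, QuotientGroup.eq,
      Subgroup.mul_mem_iff_of_index_two hKi, inv_mem_iff]
    exact iff_of_false (h1 ⟨D, hD⟩ (IsConj.refl D)) (h1 ⟨y, hy⟩ hDy)
  have hτ2 : τ ^ 2 = 1 := by
    have h := pow_card_eq_one' (x := τ)
    have hc : Nat.card ((S : Subgroup G) ⧸ K) = 2 := hKi
    rwa [hc] at h
  have hτ1 : τ ≠ 1 := by
    rw [hτ, QuotientGroup.mk'_apply, Ne, QuotientGroup.eq_one_iff, hK, Subgroup.mem_subgroupOf]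
    intro hz
    rcases Q.pow_two_le hC hCo (show D ∈ Subgroup.zpowers C from hz) with h | h | h | h
    · rw [h, orderOf_one] at hDo; omega
    · have := Q.u_order
      rw [pow_one] at this
      rw [h, this] at hDo; omega
    · exact hCD (h ▸ IsConj.refl C)
    · exact hCD (h ▸ hCi)
  set V := MonoidHom.transfer φ with hV
  have hVD : V D = τ ^ (S : Subgroup G).index := by
    letI := Fintype.ofFinite (Quotient (MulAction.orbitRel (Subgroup.zpowers D) (G ⧸ (S : Subgroup G))))
    rw [hV, MonoidHom.transfer_eq_prod_quotient_orbitRel_zpowers_quot,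
      Subgroup.index_eq_sum_minimalPeriod (S : Subgroup G) D, ← Finset.prod_pow_eq_pow_sum]
    refine Finset.prod_congr rfl fun q _ => ?_
    suffices h : ∀ (n : ℕ) (g : G) (hm : g⁻¹ * D ^ n * g ∈ (S : Subgroup G)),
        φ ⟨g⁻¹ * D ^ n * g, hm⟩ = τ ^ n from h _ _ _
    intro n g hmem
    have hD4 : D ^ 4 = 1 := by rw [← hDo]; exact pow_orderOf_eq_one D
    rcases Nat.even_or_odd n with ⟨k, hk⟩ | hodd
    · -- the element is a power of the involution
      have hτn : τ ^ n = 1 := by rw [hk, ← two_mul, pow_mul, hτ2, one_pow]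
      rw [hτn, QuotientGroup.mk'_apply,
        QuotientGroup.eq_one_iff, hK, Subgroup.mem_subgroupOf]
      have h2 : D ^ n = 1 ∨ D ^ n = A ^ 2 := by
        rw [hk, ← two_mul, pow_mul, Q.sq_of_order_four hD hDo]
        rcases Nat.even_or_odd k with ⟨l, hl⟩ | ⟨l, hl⟩
        · left; rw [hl, ← two_mul, ← pow_mul, show 2 * (2 * l) = 4 * l by ring, pow_mul, Q.A_four, one_pow]
        · right; rw [hl, pow_succ, ← pow_mul, show 2 * (2 * l) = 4 * l by ring, pow_mul, Q.A_four, one_pow, one_mul]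
      show g⁻¹ * D ^ n * g ∈ Subgroup.zpowers C
      rcases h2 with h | h
      · rw [h, mul_one, inv_mul_cancel]; exact one_mem _
      · have h3 : g⁻¹ * D ^ n * g = A ^ 2 := by
          have h4 := Q.invol_eq hmem (by
            rw [show g⁻¹ * D ^ n * g = MulAut.conj g⁻¹ (D ^ n) by simp, MulEquiv.orderOf_eq, h]
            simpa using Q.u_order)
          simpa using h4
        rw [h3, ← Q.sq_of_order_four hC hCo]
        exact pow_mem (Subgroup.mem_zpowers C) 2
    · have h1 : τ ^ n = τ := by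
        obtain ⟨k, hk⟩ := hodd
        rw [hk, pow_succ, pow_mul, hτ2, one_pow, one_mul]
      rw [h1]
      refine hnotK _ hmem ?_
      have h2 : IsConj D (D ^ n) := by
        obtain ⟨k, hk⟩ := hodd
        rcases Nat.even_or_odd k with ⟨l, hl⟩ | ⟨l, hl⟩
        · rw [hk, hl, show 2 * (l + l) + 1 = 4 * l + 1 by ring, pow_succ, pow_mul, hD4, one_pow,
            one_mul]
        · have : D ^ n = D⁻¹ := eq_inv_of_mul_eq_one_left (by
            rw [← pow_succ, hk, hl, show 2 * (2 * l + 1) + 1 + 1 = 4 * (l + 1) by ring, pow_mul,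
              hD4, one_pow])
          rw [this]; exact hDi
      exact h2.trans (isConj_iff.2 ⟨g⁻¹, by group⟩)
  have hVD1 : V D = τ := by
    rw [hVD]
    obtain ⟨k, hk⟩ : Odd (S : Subgroup G).index := by
      rw [← Nat.not_even_iff_odd, even_iff_two_dvd]; exact S.not_dvd_index
    rw [hk, pow_succ, pow_mul, hτ2, one_pow, one_mul]
  refine ⟨V.ker, inferInstance, ?_⟩
  rw [Subgroup.index_ker]
  have h1 : Nat.card V.range ∣ 2 :=
    (Subgroup.card_subgroup_dvd_card V.range).trans (dvd_of_eq hKi)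
  rcases (Nat.dvd_prime Nat.prime_two).1 h1 with h | h
  · exfalso
    rw [Subgroup.card_eq_one, MonoidHom.range_eq_bot_iff] at h
    rw [h, MonoidHom.one_apply] at hVD1
    exact hτ1 hVD1.symm
  · exact h

theorem central_of_index_two (hO : ∀ N : Subgroup G, N.Normal → Odd (Nat.card N) → N = ⊥)
    {M : Subgroup G} [hMn : M.Normal] (hM : M.index = 2) (g : G) : g * A ^ 2 * g⁻¹ = A ^ 2 := by
  classical
  haveI : Fact (Nat.Prime 2) := ⟨Nat.prime_two⟩
  have hu : A ^ 2 ∈ M := Subgroup.sq_mem_of_index_two hM A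
  have heven : 2 ∣ Nat.card M := by
    have h2 := Q.u_order
    rw [pow_one] at h2
    rw [← h2, ← Subgroup.orderOf_mk _ hu]
    exact orderOf_dvd_natCard _
  obtain ⟨P⟩ := (inferInstance : Nonempty (Sylow 2 M))
  have hPG : Nat.card ((P : Subgroup M).map M.subtype) = Nat.card P :=
    (Nat.card_congr ((P : Subgroup M).equivMapOfInjective _ Subtype.val_injective).toEquiv).symm
  have hcard : Nat.card P = 4 := by
    have h1 : Nat.card P * 2 ∣ 2 * Nat.card M := by
      rw [mul_comm]; exact mul_dvd_mul_left _ (Subgroup.card_subgroup_dvd_card _)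
    have hG : Nat.card G = 2 * Nat.card M := by rw [← M.card_mul_index, hM, mul_comm]
    rw [P.card_eq_multiplicity]
    have h8 : (Nat.card G).factorization 2 = 3 := by
      have := S.card_eq_multiplicity
      rw [Q.hcard] at this
      exact (Nat.pow_right_injective le_rfl this).symm
    rw [hG, Nat.factorization_mul two_ne_zero Nat.card_pos.ne'] at h8
    simp [Nat.Prime.factorization_self Nat.prime_two] at h8
    rw [show (Nat.card M).factorization 2 = 2 by omega]
    rfl
  have hcyc : IsCyclic (P : Subgroup M) := by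
    rw [isCyclic_iff_exists_orderOf_eq_natCard, hcard]
    by_contra hne
    push Not at hne
    -- otherwise there are two commuting involutions
    have hexp : ∀ x : P, orderOf x ∣ 2 := by
      intro x
      have h1 : orderOf x ∣ 2 ^ 2 := (orderOf_dvd_natCard x).trans (dvd_of_eq (hcard.trans rfl))
      obtain ⟨i, hi, hi'⟩ := (Nat.dvd_prime_pow Nat.prime_two).1 h1
      rw [hi']
      interval_cases i
      · exact one_dvd 2
      · exact dvd_rfl
      · exact absurd hi' (hne x)
    have hall : ∀ x : P, x = 1 ∨ ((x : M) : G) = A ^ 2 := by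
      intro x
      rcases (Nat.dvd_prime Nat.prime_two).1 (hexp x) with h | h
      · exact Or.inl (orderOf_eq_one_iff.1 h)
      right
      by_contra hx
      apply hx
      have hxo : orderOf ((x : M) : G) = 2 := by rw [Subgroup.orderOf_coe, Subgroup.orderOf_coe, h]
      obtain ⟨P', hP'⟩ := (P.2.map M.subtype).exists_le_sylow
      obtain ⟨c, hc⟩ := isConj_iff.1 (Q.invol_isConj hxo)
      have hcl : ∀ y : P, orderOf y = 2 → y = x := by
        intro y hy
        have hcxy : Commute ((x : M) : G) ((y : M) : G) := by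
          have h3 : x * y = y * x := by
            have hh : ∀ z : P, z⁻¹ = z := fun z => inv_eq_of_mul_eq_one_right (by
              rw [← pow_two]; exact orderOf_dvd_iff_pow_eq_one.1 (hexp z))
            rw [← hh (x * y), mul_inv_rev, hh, hh]
          exact congrArg (fun z : P => ((z : M) : G)) h3
        exact Subtype.ext (Subtype.ext (Q.commuting_invol_eq hxo
          (by rw [Subgroup.orderOf_coe, Subgroup.orderOf_coe, hy]) hcxy).symm)
      have hle : Nat.card P ≤ 2 := by
        letI := Fintype.ofFinite P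
        rw [Nat.card_eq_fintype_card]
        calc Fintype.card P = (Finset.univ : Finset P).card := rfl
          _ ≤ ({1, x} : Finset P).card := Finset.card_le_card fun y _ => by
              rcases (Nat.dvd_prime Nat.prime_two).1 (hexp y) with h' | h'
              · simp [orderOf_eq_one_iff.1 h']
              · simp [hcl y h']
          _ ≤ 2 := Finset.card_le_two
      omega
    have : Nat.card P ≤ 2 := by
      letI := Fintype.ofFinite P
      by_cases hex : ∃ x : P, ((x : M) : G) = A ^ 2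
      · obtain ⟨x, hx⟩ := hex
        rw [Nat.card_eq_fintype_card]
        calc Fintype.card P = (Finset.univ : Finset P).card := rfl
          _ ≤ ({1, x} : Finset P).card := Finset.card_le_card fun y _ => by
              rcases hall y with h' | h'
              · simp [h']
              · have : y = x := Subtype.ext (Subtype.ext (h'.trans hx.symm))
                simp [this]
          _ ≤ 2 := Finset.card_le_two
      · rw [Nat.card_eq_fintype_card]
        refine le_trans ?_ one_le_two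
        rw [Fintype.card_le_one_iff]
        intro a b
        rcases hall a with h | h
        · rcases hall b with h' | h'
          · rw [h, h']
          · exact absurd ⟨b, h'⟩ hex
        · exact absurd ⟨a, h⟩ hex
    omega
  exact Q.invol_conj_eq (isPGroup_of_cyclic_sylow hO M heven P hcyc) hu g

theorem centralizer_complement :
    ∃ N : Subgroup ↥(Subgroup.centralizer ({A} : Set G)), N.Normal ∧ ¬ 2 ∣ Nat.card N ∧
      N.index = 4 := by
  haveI : Fact (Nat.Prime 2) := ⟨Nat.prime_two⟩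
  set H := Subgroup.centralizer ({A} : Set G) with hH
  have hAH : A ∈ H := Subgroup.mem_centralizer_singleton_iff.2 rfl
  set Z := (Subgroup.zpowers A).subgroupOf H with hZ
  have hle : Subgroup.zpowers A ≤ H := Subgroup.zpowers_le.2 hAH
  have hcZ : Nat.card Z = 4 := by
    rw [hZ, Nat.card_congr (Subgroup.subgroupOfEquivOfLe hle).toEquiv, Nat.card_zpowers, Q.A_order]
  have hnd : ¬ 2 ∣ Z.index := by
    intro h
    have hd : 2 ^ 3 ∣ Nat.card H := by
      rw [← Z.card_mul_index, hcZ]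
      exact dvd_trans (by norm_num) (mul_dvd_mul_left 4 h)
    obtain ⟨R, hR⟩ := Sylow.exists_subgroup_card_pow_prime 2 hd
    set R' := R.map H.subtype with hR'
    have hR'c : Nat.card R' = 2 ^ 3 := by
      rw [hR', ← Nat.card_congr (R.equivMapOfInjective _ Subtype.val_injective).toEquiv, hR]
    obtain ⟨P, hP⟩ := (IsPGroup.of_card hR'c).exists_le_sylow
    obtain ⟨g, rfl⟩ := MulAction.exists_smul_eq G S P
    have hPeq : R' = ((g • S : Sylow 2 G) : Subgroup G) := Subgroup.eq_of_le_of_card_ge hP (by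
      rw [hR'c, Sylow.card_eq_multiplicity (g • S), ← Sylow.card_eq_multiplicity S, Q.hcard])
    have hmem : ∀ t ∈ S, g * t * g⁻¹ ∈ H := fun t ht => by
      have : g * t * g⁻¹ ∈ R' := by
        rw [hPeq, Sylow.coe_subgroup_smul, Subgroup.pointwise_smul_def]
        exact ⟨t, ht, rfl⟩
      exact Subgroup.map_subtype_le R this
    set C := g⁻¹ * A * g with hC
    have hCc : ∀ t ∈ S, t * C = C * t := by
      intro t ht
      have h1 := Subgroup.mem_centralizer_singleton_iff.1 (hmem t ht)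
      rw [hC]
      calc t * (g⁻¹ * A * g) = g⁻¹ * ((g * t * g⁻¹) * A) * g := by group
        _ = g⁻¹ * (A * (g * t * g⁻¹)) * g := by rw [h1]
        _ = g⁻¹ * A * g * t := by group
    have hCS : C ∈ S := by
      by_contra hne
      have hp : IsPGroup 2 (Subgroup.zpowers C) := IsPGroup.of_card (n := 2) (by
        rw [Nat.card_zpowers, hC, show g⁻¹ * A * g = MulAut.conj g⁻¹ A by simp,
          MulEquiv.orderOf_eq, Q.A_order]; norm_num)
      have hn : Subgroup.zpowers C ≤ Subgroup.normalizer ((S : Subgroup G) : Set G) := by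
        rw [Subgroup.zpowers_le, Subgroup.mem_normalizer_iff]
        intro t
        have key : ∀ t ∈ S, C * t * C⁻¹ = t := fun t ht => by
          rw [← hCc t ht, mul_inv_cancel_right]
        refine ⟨fun ht => by rw [key t ht]; exact ht, fun ht => ?_⟩
        have h1 := key _ ht
        have : C * t * C⁻¹ = t := by
          apply mul_left_cancel (a := C)
          apply mul_right_cancel (b := C⁻¹)
          exact h1
        rwa [this] at ht
      have hsup := S.3 (hp.to_sup_of_normal_right' S.2 hn) le_sup_right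
      apply hne
      have : C ∈ Subgroup.zpowers C ⊔ (S : Subgroup G) :=
        Subgroup.mem_sup_left (Subgroup.mem_zpowers C)
      rwa [hsup] at this
    have hCo : orderOf C = 4 := by
      rw [hC, show g⁻¹ * A * g = MulAut.conj g⁻¹ A by simp, MulEquiv.orderOf_eq, Q.A_order]
    have hCA : C = A ∨ C = A⁻¹ := by
      obtain ⟨j, hj | hj⟩ := Q.hgen C hCS
      · rcases Q.pow_two_le Q.hA Q.A_order ⟨j, hj.symm⟩ with h | h | h | h
        · rw [h, orderOf_one] at hCo; omega
        · have := Q.u_order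
          rw [pow_one] at this
          rw [h, this] at hCo; omega
        · exact Or.inl h
        · exact Or.inr h
      · exfalso
        have h1 := hCc A Q.hA
        rw [hj] at h1
        have h2 : B * A = A * B := by
          have : B * A * A ^ j = A * B * A ^ j := by
            calc B * A * A ^ j = B * A ^ j * A := by group
              _ = A * (B * A ^ j) := h1.symm
              _ = A * B * A ^ j := by group
          exact mul_right_cancel this
        have h3 := Q.hconj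
        rw [h2, mul_inv_cancel_right] at h3
        have h4 : A ^ 2 = 1 := by rw [pow_two]; exact eq_inv_iff_mul_eq_one.1 h3
        have := Q.u_ne_one
        rw [pow_one] at this
        exact this h4
    have h5 : B * A = A * B := by
      rcases hCA with h | h
      · have := hCc B Q.hB; rwa [h] at this
      · have := hCc B Q.hB
        rw [h] at this
        have h6 : Commute B A⁻¹ := this
        simpa using h6.inv_right.eq
    have h3 := Q.hconj
    rw [h5, mul_inv_cancel_right] at h3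
    have h4 : A ^ 2 = 1 := by rw [pow_two]; exact eq_inv_iff_mul_eq_one.1 h3
    have := Q.u_ne_one
    rw [pow_one] at this
    exact this h4
  let P : Sylow 2 H := (IsPGroup.of_card (p := 2) (n := 2) (G := Z) (by rw [hcZ]; norm_num)).toSylow hnd
  have hcyc : IsCyclic (P : Subgroup H) := by
    show IsCyclic Z
    exact isCyclic_of_surjective _ (Subgroup.subgroupOfEquivOfLe hle).symm.surjective
  have heven : 2 ∣ Nat.card H :=
    dvd_trans (by rw [hcZ]; norm_num) (Subgroup.card_subgroup_dvd_card Z)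
  have hP := IsCyclic.normalizer_le_centralizer (P := P) ((Nat.minFac_eq_two_iff _).2 heven) hcyc
  refine ⟨(MonoidHom.transferSylow P hP).ker, inferInstance,
    MonoidHom.not_dvd_card_ker_transferSylow P hP, ?_⟩
  rw [(MonoidHom.ker_transferSylow_isComplement' P hP).symm.index_eq_card]
  exact hcZ

theorem char_values {χ : G → ℂ} (hχ : IsCharacter G χ) :
    ∃ x b c m : ℤ, χ 1 = x ∧ χ (A ^ 2) = b ∧ χ A = c ∧ 0 ≤ m ∧ x - b = 4 * m := by
  obtain ⟨n, ρ, rfl⟩ := hχ
  have hreal : conj (ρ.character A) = ρ.character A := by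
    rw [← char_inv]
    exact (classFun_isConj (fun x k => ρ.char_conj x k) Q.inv_isConj).symm
  obtain ⟨ζ, hζ, hpow, hchar, -⟩ := exists_roots ρ A
  rw [Q.A_order] at hζ
  let e : Fin (Module.finrank ℂ (Fin n → ℂ)) → ℤ × ℤ := fun i =>
    if ζ i = 1 then (1, 0) else if ζ i = -1 then (-1, 0) else if ζ i = Complex.I then (0, 1) else (0, -1)
  have he : ∀ i, ζ i = ((e i).1 : ℂ) + (e i).2 * Complex.I ∧
      ζ i ^ 2 = 1 - 2 * ((e i).2 : ℂ) ^ 2 := by
    intro i
    have h4 : (ζ i - 1) * (ζ i + 1) * ((ζ i - Complex.I) * (ζ i + Complex.I)) = 0 := by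
      have h := hζ i
      have hI := Complex.I_sq
      linear_combination h + (1 - ζ i ^ 2) * hI
    have hne1 : (-1 : ℂ) ≠ 1 := by norm_num
    have hI1 : Complex.I ≠ 1 := fun h => by simpa using congrArg Complex.im h
    have hI2 : Complex.I ≠ -1 := fun h => by simpa using congrArg Complex.im h
    have hI3 : -Complex.I ≠ 1 := fun h => by simpa using congrArg Complex.im h
    have hI4 : -Complex.I ≠ -1 := fun h => by simpa using congrArg Complex.im h
    have hI5 : -Complex.I ≠ Complex.I := fun h => by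
      have := congrArg Complex.im h
      norm_num at this
    rcases mul_eq_zero.1 h4 with h | h <;> rcases mul_eq_zero.1 h with h' | h'
    · have hz : ζ i = 1 := sub_eq_zero.1 h'
      simp [e, hz]
    · have hz : ζ i = -1 := eq_neg_of_add_eq_zero_left h'
      simp [e, hz, hne1]
    · have hz : ζ i = Complex.I := sub_eq_zero.1 h'
      simp [e, hz, hI1, hI2]; norm_num
    · have hz : ζ i = -Complex.I := eq_neg_of_add_eq_zero_left h'
      simp [e, hz, hI3, hI4, hI5]; norm_num
  set R : ℤ := ∑ i, (e i).1 with hR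
  set T : ℤ := ∑ i, (e i).2 with hT
  set W : ℤ := ∑ i, (e i).2 ^ 2 with hW
  have hc : ρ.character A = (R : ℂ) + T * Complex.I := by
    rw [hchar, Finset.sum_congr rfl (fun i _ => (he i).1), Finset.sum_add_distrib, ← Finset.sum_mul,
      hR, hT]
    push_cast; ring
  have hT0 : T = 0 := by
    rw [hc] at hreal
    have := congrArg Complex.im hreal
    simp at this
    have h2 : (T : ℝ) = 0 := by linarith
    exact_mod_cast h2
  have hpar : (2 : ℤ) ∣ W := by
    have h1 : (2 : ℤ) ∣ W - T := by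
      rw [hW, hT, ← Finset.sum_sub_distrib]
      refine Finset.dvd_sum fun i _ => ?_
      have : (e i).2 ^ 2 - (e i).2 = (e i).2 * ((e i).2 - 1) := by ring
      rw [this]
      exact even_iff_two_dvd.1 (Int.even_mul_pred_self _)
    rwa [hT0, sub_zero] at h1
  obtain ⟨m, hm⟩ := hpar
  have hb : ρ.character (A ^ 2) = (((Module.finrank ℂ (Fin n → ℂ) : ℕ) : ℤ) - 2 * W : ℤ) := by
    rw [hpow, Finset.sum_congr rfl (fun i _ => (he i).2), Finset.sum_sub_distrib, Finset.sum_const,
      Finset.card_univ, Fintype.card_fin, ← Finset.mul_sum, hW]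
    push_cast; simp
  refine ⟨((Module.finrank ℂ (Fin n → ℂ) : ℕ) : ℤ), _, R, m, ?_, hb, ?_, ?_, ?_⟩
  · rw [Representation.char_one]; push_cast; rfl
  · rw [hc, hT0]; simp
  · have : 0 ≤ W := Finset.sum_nonneg fun i _ => sq_nonneg _
    omega
  · omega

theorem congr_eight (hAB : IsConj A B) (hAC : IsConj A (B * A)) {χ : G → ℂ}
    (hχ : IsCharacter G χ) {x b c : ℤ} (hx : χ 1 = x) (hb : χ (A ^ 2) = b) (hc : χ A = c) :
    (8 : ℤ) ∣ x + b + 6 * c := by
  classical
  letI := Fintype.ofFinite G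
  letI := Fintype.ofFinite (S : Subgroup G)
  have hres := isCharacter_restrict (S : Subgroup G) hχ
  obtain ⟨k, hk⟩ := inner_char_char hres (isCharacter_one (G := (S : Subgroup G)))
  rw [classInner_def] at hk
  simp only [map_one, mul_one, Q.hcard] at hk
  set u : (S : Subgroup G) := ⟨A ^ 2, pow_mem Q.hA 2⟩ with hu
  have hune : u ≠ 1 := fun h => by
    have := Q.u_ne_one
    rw [pow_one] at this
    exact this (congrArg Subtype.val h)
  have hval : ∀ s : (S : Subgroup G), s ≠ 1 → s ≠ u → χ (s : G) = c := by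
    intro s h1 h2
    have hcf := classFun_of_char hχ
    have hinv : ∀ y : G, IsConj A y → IsConj A y⁻¹ := by
      intro y hy
      obtain ⟨g, hg⟩ := isConj_iff.1 hy
      refine Q.inv_isConj.trans (isConj_iff.2 ⟨g, ?_⟩)
      rw [← hg]; group
    have key : IsConj A (s : G) := by
      rcases Q.forms s.2 with h | h | h | h | h | h | h | h
      · exact absurd (Subtype.ext h) h1
      · rw [h]
      · exact absurd (Subtype.ext h) h2
      · rw [h]; exact Q.inv_isConj
      · rw [h]; exact hAB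
      · rw [h]; exact hAC
      · rw [h]; exact hinv _ hAB
      · rw [h]; exact hinv _ hAC
    rw [← hc]
    exact (classFun_isConj hcf key).symm
  have hsum : ∑ s : (S : Subgroup G), χ (s : G) = (x : ℂ) + b + 6 * c := by
    rw [← Finset.add_sum_erase _ _ (Finset.mem_univ (1 : (S : Subgroup G))),
      ← Finset.add_sum_erase _ _ (Finset.mem_erase.2 ⟨hune, Finset.mem_univ u⟩),
      Finset.sum_congr rfl (g := fun _ => (c : ℂ)) fun s hs => by
        simp only [Finset.mem_erase] at hs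
        exact hval s hs.2.1 hs.1,
      Finset.sum_const, Finset.card_erase_of_mem (Finset.mem_erase.2 ⟨hune, Finset.mem_univ u⟩),
      Finset.card_erase_of_mem (Finset.mem_univ _), Finset.card_univ, ← Nat.card_eq_fintype_card,
      Q.hcard, OneMemClass.coe_one, hx, show ((u : (S : Subgroup G)) : G) = A ^ 2 from rfl, hb]
    simp
    ring
  rw [hsum] at hk
  refine ⟨k, ?_⟩
  have : ((x + b + 6 * c : ℤ) : ℂ) = ((8 * k : ℤ) : ℂ) := by
    push_cast
    push_cast at hk
    field_simp at hk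
    linear_combination hk
  exact_mod_cast this

/-- If all elements of order four are conjugate, some nontrivial irreducible character has the
involution in its kernel. -/
theorem exists_kernel_char [Fintype G] (hAB : IsConj A B) (hAC : IsConj A (B * A)) :
    ∃ χ : IrrCharacter G, (χ : G → ℂ) ≠ (fun _ => 1) ∧ (χ : G → ℂ) (A ^ 2) = (χ : G → ℂ) 1 := by
  classical
  haveI : Fact (Nat.Prime 2) := ⟨Nat.prime_two⟩
  obtain ⟨M, hM⟩ := exists_isPModular (q := 2) Nat.prime_two
  haveI := CfsgLib.Blk.IsPModular.isPrime hM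
  set H := Subgroup.centralizer ({A} : Set G) with hH
  obtain ⟨N, hNn, hNodd, hNi⟩ :
      ∃ N : Subgroup H, N.Normal ∧ ¬ 2 ∣ Nat.card N ∧ N.index = 4 := Q.centralizer_complement
  haveI := hNn
  letI := Fintype.ofFinite H
  have hA2 : ∃ k, orderOf A = 2 ^ k := ⟨2, by rw [Q.A_order]; norm_num⟩
  set B0 := principalBlock M G with hB0
  have hcol := principal_column_sum hM hA2 H hH N hNodd ⟨2, by rw [hNi]; norm_num⟩
  rw [hNi] at hcol
  choose x b c m hx hb hc hm0 hxbm using
    fun χ : IrrCharacter G => Q.char_values (isCharacter_of_isIrr χ.2)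
  have hcongr : ∀ χ : IrrCharacter G, (8 : ℤ) ∣ x χ + b χ + 6 * c χ := fun χ =>
    Q.congr_eight hAB hAC (isCharacter_of_isIrr χ.2) (hx χ) (hb χ) (hc χ)
  let d : IrrCharacter G → ℤ := fun χ => if χ ∈ B0 then c χ else 0
  have hd : ∀ χ : IrrCharacter G,
      (if χ ∈ B0 then (χ : G → ℂ) A else 0) = (d χ : ℂ) := fun χ => by
    show _ = ((if χ ∈ B0 then c χ else 0 : ℤ) : ℂ)
    split_ifs <;> simp [hc]
  have hsq : ∑ χ : IrrCharacter G, d χ * d χ = 4 := by
    have : ((∑ χ : IrrCharacter G, d χ * d χ : ℤ) : ℂ) = 4 := by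
      rw [Nat.cast_ofNat] at hcol
      rw [← hcol, Int.cast_sum]
      refine Finset.sum_congr rfl fun χ _ => ?_
      show (((if χ ∈ B0 then c χ else 0) * (if χ ∈ B0 then c χ else 0) : ℤ) : ℂ) = _
      split_ifs <;> simp [hc]
    exact_mod_cast this
  let o : IrrCharacter G := ⟨fun _ => 1, isIrr_one⟩
  have ho : o ∈ B0 := one_mem_principalBlock
  have hone : ∀ z : ℤ, (z : ℂ) = 1 → z = 1 := fun z h => by exact_mod_cast h
  have hxo : x o = 1 := hone _ (hx o).symm
  have hbo : b o = 1 := hone _ (hb o).symm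
  have hdo : d o = 1 := by
    show (if o ∈ B0 then c o else 0) = 1
    rw [if_pos ho]
    exact hone _ (hc o).symm
  set T := (Finset.univ.erase o).filter (fun χ => d χ ≠ 0) with hT
  have hsplit : ∀ f : IrrCharacter G → ℤ, (∀ χ, d χ = 0 → f χ = 0) →
      ∑ χ : IrrCharacter G, f χ = f o + ∑ χ ∈ T, f χ := by
    intro f hf
    rw [hT, Finset.sum_filter_of_ne (p := fun χ => d χ ≠ 0) (fun χ _ h h0 => h (hf χ h0))]
    exact (Finset.add_sum_erase _ _ (Finset.mem_univ o)).symm
  have hrest : ∑ χ ∈ T, d χ * d χ = 3 := by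
    have := hsplit (fun χ => d χ * d χ) (fun χ h => by rw [h, mul_zero])
    rw [hsq, hdo] at this
    omega
  have hpm : ∀ χ ∈ T, d χ = 1 ∨ d χ = -1 := by
    intro χ hχ
    have hle : d χ * d χ ≤ 3 := hrest ▸ Finset.single_le_sum
      (fun ψ _ => mul_self_nonneg (d ψ)) hχ
    have h0 := (Finset.mem_filter.1 hχ).2
    have h2 : d χ ≤ 1 := by nlinarith
    have h3 : -1 ≤ d χ := by nlinarith
    omega
  have hcard : T.card = 3 := by
    have : ∑ χ ∈ T, d χ * d χ = T.card := by
      rw [Finset.sum_congr rfl (fun χ hχ => show d χ * d χ = 1 by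
        rcases hpm χ hχ with h | h <;> rw [h] <;> norm_num)]
      simp
    omega
  -- orthogonality to the column at `A`
  have horth : ∀ y : G, (∃ k, orderOf y = 2 ^ k) → orderOf y ≤ 2 → ∀ v : IrrCharacter G → ℤ,
      (∀ χ : IrrCharacter G, (χ : G → ℂ) y = v χ) → ∑ χ : IrrCharacter G, d χ * v χ = 0 := by
    intro y hy hy2 v hv
    have hnc : ¬ IsConj y A := fun h => by
      obtain ⟨g, hg⟩ := isConj_iff.1 h
      have := congrArg orderOf hg
      rw [show g * y * g⁻¹ = MulAut.conj g y from rfl, MulEquiv.orderOf_eq, Q.A_order] at this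
      omega
    have h := block_orth hM (isPBlock_principalBlock (G := G)) (isPPart_self hy Nat.prime_two)
      (isPPart_self hA2 Nat.prime_two) hnc
    rw [finsum_mem_eq_sum_ite] at h
    have : ((∑ χ : IrrCharacter G, d χ * v χ : ℤ) : ℂ) = 0 := by
      rw [← h, Int.cast_sum]
      refine Finset.sum_congr rfl fun χ _ => ?_
      show (((if χ ∈ B0 then c χ else 0) * v χ : ℤ) : ℂ) = _
      split_ifs with hh
      · rw [hv, hc, map_intCast]; push_cast; ring
      · simp
    exact_mod_cast this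
  have hu2 : orderOf (A ^ 2) = 2 := by simpa using Q.u_order
  have eqx := horth 1 ⟨0, by simp⟩ (by simp) x hx
  have eqb := horth (A ^ 2) ⟨1, by rw [hu2]; norm_num⟩ hu2.le b hb
  -- the class of involutions
  have heq3 : ∑ χ : IrrCharacter G, (χ : G → ℂ) (A ^ 2) ^ 2 / (χ : G → ℂ) 1 *
      conj (if χ ∈ B0 then (χ : G → ℂ) A else 0) = 0 := by
    set w := A ^ 2 with hw
    set K := Finset.univ.filter (fun z => IsConj w z) with hK
    have hKo : ∀ z ∈ K, orderOf z = 2 := by
      intro z hz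
      obtain ⟨g, hg⟩ := isConj_iff.1 (Finset.mem_filter.1 hz).2
      rw [← hg, show g * w * g⁻¹ = MulAut.conj g w from rfl, MulEquiv.orderOf_eq, hu2]
    set k : ℂ := (K.card : ℂ) with hk
    have hKc : k = ((Subgroup.centralizer ({w} : Set G)).index : ℂ) := by
      rw [hk, hK, card_filter_isConj]
    have hk0 : k ≠ 0 := by rw [hKc]; exact_mod_cast Subgroup.FiniteIndex.index_ne_zero
    have hclass : ∀ χ : IrrCharacter G, ∑ p ∈ K, ∑ q ∈ K, (χ : G → ℂ) (p * q) =
        k ^ 2 * (χ : G → ℂ) w ^ 2 / (χ : G → ℂ) 1 := by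
      intro χ
      have h := centralChar_mul χ.2 w w
      rw [centralChar, ← hKc, ← hK] at h
      have h0 := irr_one_ne_zero χ.2
      field_simp at h ⊢
      linear_combination -h
    have hy0 : ∀ g : G, 4 ∣ orderOf g → ∑ χ : IrrCharacter G,
        (χ : G → ℂ) w ^ 2 / (χ : G → ℂ) 1 * conj ((χ : G → ℂ) g) = 0 := by
      intro g hg
      have h1 : ∑ χ : IrrCharacter G, (∑ p ∈ K, ∑ q ∈ K, (χ : G → ℂ) (p * q)) *
          conj ((χ : G → ℂ) g) = 0 := by
        simp only [Finset.sum_mul]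
        rw [Finset.sum_comm]
        refine Finset.sum_eq_zero fun p hp => ?_
        rw [Finset.sum_comm]
        refine Finset.sum_eq_zero fun q hq => ?_
        rw [second_orth, if_neg]
        intro hconj
        obtain ⟨a, ha⟩ := isConj_iff.1 hconj
        rw [← ha, show a * (p * q) * a⁻¹ = MulAut.conj a (p * q) from rfl,
          MulEquiv.orderOf_eq] at hg
        exact Q.not_four_dvd_of_invol_mul (hKo p hp) (hKo q hq) hg
      simp only [hclass] at h1
      have h2 : k ^ 2 * ∑ χ : IrrCharacter G,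
          (χ : G → ℂ) w ^ 2 / (χ : G → ℂ) 1 * conj ((χ : G → ℂ) g) = 0 := by
        rw [← h1, Finset.mul_sum]
        exact Finset.sum_congr rfl fun χ _ => by ring
      exact (mul_eq_zero.1 h2).resolve_left (pow_ne_zero _ hk0)
    -- sum over the complement in the centraliser
    set wA : H := ⟨A, Subgroup.mem_centralizer_singleton_iff.2 rfl⟩ with hwA
    set SN := Finset.univ.filter (fun v : H => v ∈ N) with hSN
    have hwc : ∀ h : H, Commute wA h := fun h =>
      Subtype.ext (Subgroup.mem_centralizer_singleton_iff.1 h.2).symm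
    have hres : ∀ χ : IrrCharacter G, ∑ v ∈ SN, (χ : G → ℂ) (A * (v : G)) =
        (SN.card : ℂ) * (if χ ∈ B0 then (χ : G → ℂ) A else 0) := by
      intro χ
      have hp := principal_restrict_sum H hM hA2 hH (h := wA)
        (isPPart_self hA2 Nat.prime_two) hH.ge χ
      have hf : IsClassFunction H (fun h : H => (χ : G → ℂ) h) :=
        fun a b => classFun_of_irr χ.2 a b
      have hexp := classFun_eq_sum hf
      have hp' : ∑ ξ : IrrCharacter H, (if ξ ∈ principalBlock M H then
          classInner (fun k : H => (χ : G → ℂ) k) (ξ : H → ℂ) * (ξ : H → ℂ) wA else 0) =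
          if χ ∈ B0 then (χ : G → ℂ) A else 0 := hp
      rw [← hp', Finset.mul_sum]
      rw [Finset.sum_congr rfl (g := fun v => ∑ ξ : IrrCharacter H,
        classInner (fun h : H => (χ : G → ℂ) h) (ξ : H → ℂ) * (ξ : H → ℂ) (wA * v)) fun v _ => by
          have := congrFun hexp (wA * v)
          simp only [Finset.sum_apply, Pi.smul_apply, smul_eq_mul] at this
          exact this]
      rw [Finset.sum_comm]
      refine Finset.sum_congr rfl fun ξ _ => ?_
      rw [← Finset.mul_sum]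
      split_ifs with hξ
      · rw [Finset.sum_congr rfl (g := fun _ => (ξ : H → ℂ) wA) fun v hv =>
          principal_mul_kernel hM hξ N hNodd wA (Finset.mem_filter.1 hv).2, Finset.sum_const,
          nsmul_eq_mul]
        ring
      · rw [mul_zero]
        refine mul_eq_zero_of_right _ ?_
        rw [Finset.sum_congr rfl fun v _ => center_apply_mul ξ.2 hwc v, ← Finset.mul_sum]
        refine mul_eq_zero_of_right _ ?_
        have h0 := regular_orth hM (χ := ξ) (ψ := ⟨_, isIrr_one⟩)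
          (fun hs => hξ (sameBlock_symm hs))
        simp only [map_one, mul_one,
          regular_iff_mem_complement N hNodd ⟨2, by rw [hNi]; norm_num⟩] at h0
        rw [← Finset.sum_filter] at h0
        exact h0
    have hSN0 : (SN.card : ℂ) ≠ 0 := by
      rw [Nat.cast_ne_zero, ← Nat.pos_iff_ne_zero, Finset.card_pos]
      exact ⟨1, by simp [hSN]⟩
    have h4 : ∑ v ∈ SN, ∑ χ : IrrCharacter G,
        (χ : G → ℂ) w ^ 2 / (χ : G → ℂ) 1 * conj ((χ : G → ℂ) (A * (v : G))) = 0 := by
      refine Finset.sum_eq_zero fun v hv => hy0 _ ?_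
      have hvN := (Finset.mem_filter.1 hv).2
      have hvo : (orderOf A).Coprime (orderOf (v : G)) := by
        rw [Q.A_order, Subgroup.orderOf_coe, show (4 : ℕ) = 2 ^ 2 by norm_num]
        refine Nat.Coprime.pow_left _ ((Nat.prime_two.coprime_iff_not_dvd).2 ?_)
        exact regular_of_mem hNodd hvN
      have hcm : Commute A (v : G) := congrArg Subtype.val (hwc v).eq
      rw [hcm.orderOf_mul_eq_mul_orderOf_of_coprime hvo, Q.A_order]
      exact dvd_mul_right 4 _
    rw [Finset.sum_comm] at h4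
    have h5 : (SN.card : ℂ) * ∑ χ : IrrCharacter G, (χ : G → ℂ) w ^ 2 / (χ : G → ℂ) 1 *
        conj (if χ ∈ B0 then (χ : G → ℂ) A else 0) = 0 := by
      refine Eq.trans ?_ h4
      rw [Finset.mul_sum]
      refine Finset.sum_congr rfl fun χ _ => ?_
      rw [← Finset.mul_sum, ← map_sum, hres, map_mul, Complex.conj_natCast]
      ring
    exact (mul_eq_zero.1 h5).resolve_left hSN0
  simp only [hd, hx, hb, map_intCast] at heq3
  obtain ⟨χ₁, χ₂, χ₃, h12, h13, h23, hTe⟩ := Finset.card_eq_three.1 hcard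
  have hxpos : ∀ χ : IrrCharacter G, 0 < x χ := fun χ => by
    obtain ⟨n, hn, hn'⟩ := irr_deg χ.2
    have : x χ = n := by
      have h := (hx χ).symm.trans hn'
      exact_mod_cast h
    omega
  -- the four-term identities
  have hsum3 : ∀ f : IrrCharacter G → ℤ, (∀ χ, d χ = 0 → f χ = 0) →
      ∑ χ : IrrCharacter G, f χ = f o + (f χ₁ + (f χ₂ + f χ₃)) := by
    intro f hf
    rw [hsplit f hf, hTe, Finset.sum_insert (by simp [h12, h13]), Finset.sum_pair h23]
  rw [hsum3 (fun χ => d χ * x χ) (fun χ h => by rw [h, zero_mul])] at eqx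
  rw [hsum3 (fun χ => d χ * b χ) (fun χ h => by rw [h, zero_mul])] at eqb
  simp only [hdo, hxo, hbo] at eqx eqb
  have hq : (b χ₁ ^ 2 * d χ₁) * (x χ₂ * x χ₃) + (b χ₂ ^ 2 * d χ₂) * (x χ₁ * x χ₃) +
      (b χ₃ ^ 2 * d χ₃) * (x χ₁ * x χ₂) + x χ₁ * x χ₂ * x χ₃ = 0 := by
    have hx1 : (x χ₁ : ℂ) ≠ 0 := Int.cast_ne_zero.2 (hxpos χ₁).ne'
    have hx2 : (x χ₂ : ℂ) ≠ 0 := Int.cast_ne_zero.2 (hxpos χ₂).ne'
    have hx3 : (x χ₃ : ℂ) ≠ 0 := Int.cast_ne_zero.2 (hxpos χ₃).ne'
    have h : (b o : ℂ) ^ 2 / x o * d o + ((b χ₁ : ℂ) ^ 2 / x χ₁ * d χ₁ +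
        ((b χ₂ : ℂ) ^ 2 / x χ₂ * d χ₂ + (b χ₃ : ℂ) ^ 2 / x χ₃ * d χ₃)) = 0 := by
      rw [← heq3, ← Finset.add_sum_erase _ _ (Finset.mem_univ o),
        ← Finset.sum_filter_of_ne (p := fun χ => d χ ≠ 0) (fun χ _ h h0 => h (by simp [h0])),
        ← hT, hTe, Finset.sum_insert (by simp [h12, h13]), Finset.sum_pair h23]
    rw [hxo, hbo, hdo] at h
    field_simp at h
    push_cast at h
    have h' : ((((b χ₁ ^ 2 * d χ₁) * (x χ₂ * x χ₃) + (b χ₂ ^ 2 * d χ₂) * (x χ₁ * x χ₃) +
      (b χ₃ ^ 2 * d χ₃) * (x χ₁ * x χ₂) + x χ₁ * x χ₂ * x χ₃ : ℤ)) : ℂ) = 0 := by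
      push_cast; linear_combination h
    exact_mod_cast h'
  have hbx : ∀ χ, b χ = x χ - 4 * m χ := fun χ => by have := hxbm χ; omega
  rw [hbx, hbx, hbx] at hq eqb
  have hmd : d χ₁ * m χ₁ + d χ₂ * m χ₂ + d χ₃ * m χ₃ = 0 := by linarith
  have hmq : d χ₁ * m χ₁ ^ 2 * (x χ₂ * x χ₃) + d χ₂ * m χ₂ ^ 2 * (x χ₁ * x χ₃) +
      d χ₃ * m χ₃ ^ 2 * (x χ₁ * x χ₂) = 0 := by
    have : 16 * (d χ₁ * m χ₁ ^ 2 * (x χ₂ * x χ₃) + d χ₂ * m χ₂ ^ 2 * (x χ₁ * x χ₃) +
      d χ₃ * m χ₃ ^ 2 * (x χ₁ * x χ₂)) = 0 := by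
      linear_combination hq - (x χ₁ * x χ₂ * x χ₃) * eqx + 8 * (x χ₁ * x χ₂ * x χ₃) * hmd
    linarith
  have hmemT : χ₁ ∈ T ∧ χ₂ ∈ T ∧ χ₃ ∈ T := by rw [hTe]; simp
  have hz : ∀ χ ∈ T, (x χ : ZMod 4) = (d χ : ZMod 4) + 2 * (m χ : ZMod 4) := by
    intro χ hχ
    have hdc : d χ = c χ := by
      have h0 := (Finset.mem_filter.1 hχ).2
      show (if χ ∈ B0 then c χ else 0) = c χ
      by_cases hb' : χ ∈ B0
      · rw [if_pos hb']
      · exact absurd (if_neg hb') h0
    have h8 := hcongr χ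
    rw [hbx χ, ← hdc] at h8
    have h4 : ((x χ - d χ - 2 * m χ : ℤ) : ZMod 4) = 0 := by
      rw [ZMod.intCast_zmod_eq_zero_iff_dvd]
      omega
    push_cast at h4
    linear_combination h4
  have hgoal : ∃ χ ∈ T, m χ = 0 := by
    have z1 := hz χ₁ hmemT.1
    have z2 := hz χ₂ hmemT.2.1
    have z3 := hz χ₃ hmemT.2.2
    have p1 := hxpos χ₁; have p2 := hxpos χ₂; have p3 := hxpos χ₃
    have n1 := hm0 χ₁; have n2 := hm0 χ₂; have n3 := hm0 χ₃
    rcases hpm χ₁ hmemT.1 with e1 | e1 <;> rcases hpm χ₂ hmemT.2.1 with e2 | e2 <;>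
      rcases hpm χ₃ hmemT.2.2 with e3 | e3 <;>
      rw [e1, e2, e3] at hmd hmq eqx <;> rw [e1] at z1 <;> rw [e2] at z2 <;> rw [e3] at z3 <;>
      push_cast at z1 z2 z3
    · omega
    · exact ⟨χ₃, hmemT.2.2, arith_ppn (x₃ := x χ₃) p1 p2 (by linarith) (by linarith) n1 n2
        (by linear_combination -hmq)⟩
    · exact ⟨χ₂, hmemT.2.1, arith_ppn (x₃ := x χ₂) p1 p3 (by linarith) (by linarith) n1 n3
        (by linear_combination -hmq)⟩
    · exact ⟨χ₂, hmemT.2.1, (arith_pnn (x₁ := x χ₁) (m₂ := m χ₂) (m₃ := m χ₃)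
        (by rw [show m χ₂ + m χ₃ = m χ₁ by linarith]; exact z1) z2 z3
        (by rw [show m χ₂ + m χ₃ = m χ₁ by linarith]; linear_combination hmq)).1⟩
    · exact ⟨χ₁, hmemT.1, arith_ppn (x₃ := x χ₁) p2 p3 (by linarith) (by linarith) n2 n3
        (by linear_combination -hmq)⟩
    · exact ⟨χ₁, hmemT.1, (arith_pnn (x₁ := x χ₂) (m₂ := m χ₁) (m₃ := m χ₃)
        (by rw [show m χ₁ + m χ₃ = m χ₂ by linarith]; exact z2) z1 z3
        (by rw [show m χ₁ + m χ₃ = m χ₂ by linarith]; linear_combination hmq)).1⟩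
    · exact ⟨χ₁, hmemT.1, (arith_pnn (x₁ := x χ₃) (m₂ := m χ₁) (m₃ := m χ₂)
        (by rw [show m χ₁ + m χ₂ = m χ₃ by linarith]; exact z3) z1 z2
        (by rw [show m χ₁ + m χ₂ = m χ₃ by linarith]; linear_combination hmq)).1⟩
    · exact ⟨χ₁, hmemT.1, by linarith⟩
  obtain ⟨χ, hχT, hm⟩ := hgoal
  refine ⟨χ, fun h => (Finset.mem_erase.1 (Finset.mem_filter.1 hχT).1).1 (Subtype.ext h), ?_⟩
  rw [hx, hb, hbx, hm, mul_zero, sub_zero]

end QBase

theorem q8_central_aux : ∀ (n : ℕ) (G : Type u) [Group G] [Finite G], Nat.card G = n →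
    (∀ N : Subgroup G, N.Normal → Odd (Nat.card N) → N = ⊥) →
    ∀ (S : Sylow 2 G) (A B : G), QBase S 1 A B → ∀ g : G, g * A ^ 2 * g⁻¹ = A ^ 2 := by
  intro n
  induction n using Nat.strong_induction_on with
  | _ n ih =>
  intro G _ _ hn hO S A B Q g
  classical
  haveI : Fact (Nat.Prime 2) := ⟨Nat.prime_two⟩
  letI := Fintype.ofFinite G
  have hBo : orderOf B = 4 := by
    have hB2 : B ^ 2 = A ^ 2 := by rw [pow_two, Q.hB2, pow_one]
    refine orderOf_eq_prime_pow (p := 2) (n := 1) ?_ ?_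
    · rw [pow_one, hB2]; simpa using Q.u_ne_one
    · rw [show 2 ^ (1 + 1) = 2 * 2 by norm_num, pow_mul, hB2, ← pow_mul]; exact Q.A_four
  have hBAo : orderOf (B * A) = 4 := by
    have h1 : (B * A) ^ 2 = A ^ 2 := by
      calc (B * A) ^ 2 = (B * A * B⁻¹) * (B * B) * A := by rw [pow_two]; group
        _ = A⁻¹ * A ^ 2 * A := by rw [Q.hconj, Q.hB2, pow_one]
        _ = A ^ 2 := by group
    refine orderOf_eq_prime_pow (p := 2) (n := 1) ?_ ?_
    · rw [pow_one, h1]; simpa using Q.u_ne_one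
    · rw [show 2 ^ (1 + 1) = 2 * 2 by norm_num, pow_mul, h1, ← pow_mul]; exact Q.A_four
  have hBi : IsConj B B⁻¹ := isConj_iff.2 ⟨A, by
    have hAinv : B * A⁻¹ * B⁻¹ = A := by
      calc B * A⁻¹ * B⁻¹ = (B * A * B⁻¹)⁻¹ := by group
        _ = A := by rw [Q.hconj, inv_inv]
    calc A * B * A⁻¹ = A * (B * A⁻¹ * B⁻¹) * B := by group
      _ = A * A * B := by rw [hAinv]
      _ = B * B * B := by rw [Q.hB2, pow_one, pow_two]
      _ = B⁻¹ := by
        apply eq_inv_of_mul_eq_one_left
        have h4 : B * B * (B * B) = 1 := by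
          rw [Q.hB2, pow_one, ← pow_add]; exact Q.A_four
        rw [mul_assoc (B * B)]; exact h4⟩
  have hBAi : IsConj (B * A) (B * A)⁻¹ := isConj_iff.2 ⟨B, by
    calc B * (B * A) * B⁻¹ = B * B * (A * B⁻¹) := by group
      _ = A ^ 2 * (A * B⁻¹) := by rw [Q.hB2, pow_one]
      _ = A ^ 4 * A⁻¹ * B⁻¹ := by group
      _ = (B * A)⁻¹ := by rw [Q.A_four, one_mul, mul_inv_rev]⟩
  by_cases hAB : IsConj A B
  swap
  · obtain ⟨M, hMn, hM⟩ := Q.index_two_of_not_conj Q.hA Q.hB Q.A_order hBo Q.inv_isConj hBi hAB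
    haveI := hMn
    exact Q.central_of_index_two hO hM g
  by_cases hAC : IsConj A (B * A)
  swap
  · obtain ⟨M, hMn, hM⟩ := Q.index_two_of_not_conj Q.hA (mul_mem Q.hB Q.hA) Q.A_order hBAo
      Q.inv_isConj hBAi hAC
    haveI := hMn
    exact Q.central_of_index_two hO hM g
  obtain ⟨χ, hχ1, hχu⟩ := Q.exists_kernel_char hAB hAC
  obtain ⟨K, hKn, hK, hKmul⟩ := exists_kernel (isCharacter_of_isIrr χ.2)
  haveI := hKn
  have hu : A ^ 2 ∈ K := (hK _).2 hχu
  have hKtop : K ≠ ⊤ := by
    intro h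
    apply hχ1
    have hall : ∀ z : G, (χ : G → ℂ) z = (χ : G → ℂ) 1 := fun z => (hK z).1 (h ▸ Subgroup.mem_top z)
    have hnorm := irr_inner_self χ.2
    rw [classInner_def] at hnorm
    simp only [hall, Finset.sum_const, Finset.card_univ, nsmul_eq_mul, ← Nat.card_eq_fintype_card]
      at hnorm
    rw [← mul_assoc, inv_mul_cancel₀ (natCard_ne_zero G), one_mul] at hnorm
    obtain ⟨d, hd, hd'⟩ := irr_deg χ.2
    rw [hd', Complex.conj_natCast] at hnorm
    have : d = 1 := by
      have h1 : d * d = 1 := by exact_mod_cast hnorm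
      nlinarith
    funext z
    rw [hall, hd', this, Nat.cast_one]
  obtain ⟨P⟩ := (inferInstance : Nonempty (Sylow 2 K))
  have hOK : ∀ N : Subgroup K, N.Normal → Odd (Nat.card N) → N = ⊥ := by
    intro N hN hodd
    set L := Cfsg.oddCore K
    have hL : (L.map K.subtype).Normal := by
      haveI := CfsgLib.Fus.normal_pPrimeCore (G := K) 2
      haveI : L.Characteristic := CfsgLib.Fus.characteristic_pPrimeCore 2
      exact ConjAct.normal_of_characteristic_of_normal
    have hLodd : Odd (Nat.card (L.map K.subtype)) := by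
      rw [← Nat.card_congr (L.equivMapOfInjective _ Subtype.val_injective).toEquiv]
      exact Nat.coprime_two_right.1 (CfsgLib.Fus.coprime_card_pPrimeCore 2)
    have := hO _ hL hLodd
    rw [Subgroup.map_eq_bot_iff_of_injective _ Subtype.val_injective] at this
    exact eq_bot_iff.2 (this ▸ CfsgLib.Fus.le_pPrimeCore hN (Nat.coprime_two_right.2 hodd))
  have huK2 : 2 ∣ Nat.card K := by
    have h2 := Q.u_order
    rw [pow_one] at h2
    rw [← h2, ← Subgroup.orderOf_mk _ hu]
    exact orderOf_dvd_natCard _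
  by_cases hcyc : IsCyclic (P : Subgroup K)
  · exact Q.invol_conj_eq (isPGroup_of_cyclic_sylow hO K huK2 P hcyc) hu g
  -- otherwise `K` contains a Sylow subgroup of `G`
  have hPmap : IsPGroup 2 ((P : Subgroup K).map K.subtype) := P.2.map _
  obtain ⟨P', hP'⟩ := hPmap.exists_le_sylow
  obtain ⟨c, rfl⟩ := MulAction.exists_smul_eq G S P'
  have hle : ∀ z : P, c⁻¹ * ((z : K) : G) * c ∈ S := fun z => by
    have := hP' (Subgroup.mem_map_of_mem K.subtype z.2)
    rw [Sylow.coe_subgroup_smul, Subgroup.pointwise_smul_def] at this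
    obtain ⟨s, hs, hsz⟩ := this
    change c * s * c⁻¹ = ((z : K) : G) at hsz
    rw [← hsz]
    simpa [mul_assoc] using hs
  let φ : (P : Subgroup K) →* (S : Subgroup G) :=
    { toFun := fun z => ⟨c⁻¹ * ((z : K) : G) * c, hle z⟩
      map_one' := by ext; simp
      map_mul' := fun a b => by ext; simp [mul_assoc] }
  have hφinj : Function.Injective φ := fun a b h => by
    apply Subtype.ext; apply Subtype.ext
    exact mul_left_cancel (mul_right_cancel (congrArg Subtype.val h))
  have hsurj : Function.Surjective φ := by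
    by_contra hns
    apply hcyc
    have hlt : φ.range ≠ ⊤ := fun h => hns (MonoidHom.range_eq_top.1 h)
    have hd := Subgroup.card_subgroup_dvd_card φ.range
    rw [Q.hcard, show (2 : ℕ) ^ (1 + 2) = 2 ^ 3 by norm_num] at hd
    obtain ⟨i, hi, hi'⟩ := (Nat.dvd_prime_pow Nat.prime_two).1 hd
    have hi3 : i < 3 := by
      rcases lt_or_eq_of_le hi with h | h
      · exact h
      · exact absurd (Subgroup.eq_top_of_card_eq _ (by rw [hi', h, Q.hcard])) hlt
    suffices hc : IsCyclic φ.range from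
      isCyclic_of_surjective _ (MonoidHom.ofInjective hφinj).symm.surjective
    interval_cases i
    · haveI : Subsingleton φ.range := (Nat.card_eq_one_iff_unique.1 hi').1
      infer_instance
    · exact isCyclic_of_prime_card (p := 2) hi'
    · rw [isCyclic_iff_exists_orderOf_eq_natCard, hi']
      by_contra hne
      push Not at hne
      have hinv : ∀ z : φ.range, z ≠ 1 → ((z : (S : Subgroup G)) : G) = A ^ 2 := by
        intro z hz
        have hd := orderOf_dvd_natCard z
        rw [hi'] at hd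
        obtain ⟨l, hl, hl'⟩ := (Nat.dvd_prime_pow Nat.prime_two).1 hd
        interval_cases l
        · rw [pow_zero, orderOf_eq_one_iff] at hl'; exact absurd hl' hz
        · have := Q.invol_eq (z : (S : Subgroup G)).2
            (by rw [Subgroup.orderOf_coe, Subgroup.orderOf_coe, hl']; rfl)
          simpa using this
        · exact absurd hl' (hne z)
      have : Fintype.card φ.range ≤ 2 := by
        by_cases hex : ∃ z : φ.range, z ≠ 1
        · obtain ⟨z, hz⟩ := hex
          calc Fintype.card φ.range = (Finset.univ : Finset φ.range).card := rfl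
            _ ≤ ({1, z} : Finset φ.range).card := Finset.card_le_card fun y _ => by
              by_cases hy : y = 1
              · simp [hy]
              · have : y = z := Subtype.ext (Subtype.ext ((hinv y hy).trans (hinv z hz).symm))
                simp [this]
            _ ≤ 2 := Finset.card_le_two
        · push Not at hex
          exact (Fintype.card_le_one_iff.2 fun a b => (hex a).trans (hex b).symm).trans one_le_two
      rw [← Nat.card_eq_fintype_card, hi'] at this
      omega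
  obtain ⟨A', hA'⟩ := hsurj ⟨A, Q.hA⟩
  obtain ⟨B', hB'⟩ := hsurj ⟨B, Q.hB⟩
  have hA'' : c⁻¹ * ((A' : K) : G) * c = A := congrArg Subtype.val hA'
  have hB'' : c⁻¹ * ((B' : K) : G) * c = B := congrArg Subtype.val hB'
  have QK : QBase P 1 (A' : K) (B' : K) := by
    refine ⟨A'.2, B'.2, ?_, ?_, ?_, fun s hs => ?_, ?_⟩
    · rw [Subgroup.orderOf_coe, ← orderOf_injective φ hφinj, hA', Subgroup.orderOf_mk, Q.hord]
    · have : φ (B' * A' * B'⁻¹) = φ A'⁻¹ := Subtype.ext (by
        rw [map_mul, map_mul, map_inv, map_inv, hA', hB']; exact Q.hconj)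
      exact congrArg Subtype.val (hφinj this)
    · have : φ (B' * B') = φ (A' ^ (2 ^ 1)) := Subtype.ext (by
        rw [map_mul, map_pow, hA', hB']; exact Q.hB2)
      exact congrArg Subtype.val (hφinj this)
    · obtain ⟨j, hj⟩ := Q.hgen _ (φ ⟨s, hs⟩).2
      refine ⟨j, hj.imp (fun h => ?_) (fun h => ?_)⟩
      · have : φ ⟨s, hs⟩ = φ (A' ^ j) := Subtype.ext (by rw [map_zpow, hA']; exact h)
        exact congrArg Subtype.val (hφinj this)
      · have : φ ⟨s, hs⟩ = φ (B' * A' ^ j) := Subtype.ext (by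
          rw [map_mul, map_zpow, hA', hB']; exact h)
        exact congrArg Subtype.val (hφinj this)
    · rw [← Q.hcard]; exact Nat.card_eq_of_bijective φ ⟨hφinj, hsurj⟩
  have hlt : Nat.card K < n := by
    rw [← hn]
    refine lt_of_le_of_ne (Subgroup.card_le_card_group K) fun h => ?_
    exact hKtop (Subgroup.eq_top_of_card_eq _ h)
  have hAu : ((A' : K) : G) ^ 2 = A ^ 2 := by
    have h1 : ((A' : K) : G) = c * A * c⁻¹ := by rw [← hA'']; group
    have h3 : c * A ^ 2 * c⁻¹ ∈ K := hKn.conj_mem _ hu c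
    have hcent := fun k : K => ih _ hlt K rfl hOK P _ _ QK k
    have hc2 : Commute (c * A ^ 2 * c⁻¹) (A ^ 2) := by
      have := congrArg Subtype.val (hcent ⟨A ^ 2, hu⟩)
      simp only [Subgroup.coe_mul, SubmonoidClass.coe_pow, InvMemClass.coe_inv, h1,
        _root_.conj_pow] at this
      exact (mul_inv_eq_iff_eq_mul.1 this).symm
    have h2 := Q.u_order
    rw [pow_one] at h2
    rw [h1, _root_.conj_pow]
    exact Q.commuting_invol_eq
      (by rw [show c * A ^ 2 * c⁻¹ = MulAut.conj c (A ^ 2) from rfl, MulEquiv.orderOf_eq, h2])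
      h2 hc2
  have hcent := congrArg Subtype.val
    (ih _ hlt K rfl hOK P _ _ QK ⟨g * A ^ 2 * g⁻¹, hKn.conj_mem _ hu g⟩)
  simp only [Subgroup.coe_mul, SubmonoidClass.coe_pow, InvMemClass.coe_inv, hAu] at hcent
  have h2 := Q.u_order
  rw [pow_one] at h2
  exact Q.commuting_invol_eq
    (by rw [show g * A ^ 2 * g⁻¹ = MulAut.conj g (A ^ 2) from rfl, MulEquiv.orderOf_eq, h2])
    h2 (mul_inv_eq_iff_eq_mul.1 hcent)

/-- Brauer–Suzuki for all generalized quaternion Sylow 2-subgroups: the involution is central. -/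
theorem invol_central [Finite G] (hO : ∀ N : Subgroup G, N.Normal → Odd (Nat.card N) → N = ⊥)
    (S : Sylow 2 G) (k : ℕ) (hk : 1 ≤ k) (e : (S : Subgroup G) ≃* QuaternionGroup (2 ^ k))
    {t : G} (ht : orderOf t = 2) : t ∈ Subgroup.center G := by
  letI := Fintype.ofFinite G
  obtain ⟨A, B, Q⟩ := exists_base S k e
  have hcent : A ^ (2 ^ k : ℕ) ∈ Subgroup.center G := by
    rcases Nat.lt_or_ge k 2 with h | h
    · have hk1 : k = 1 := by omega
      subst hk1
      rw [Subgroup.mem_center_iff]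
      intro g
      rw [pow_one]
      exact mul_inv_eq_iff_eq_mul.1 (q8_central_aux _ G rfl hO S A B Q g)
    · have D : QData S k A B := ⟨Q, h⟩
      have hc := D.card_center hO
      haveI : Fact (Nat.Prime 2) := ⟨Nat.prime_two⟩
      obtain ⟨z, hz⟩ := exists_prime_orderOf_dvd_card' (G := Subgroup.center G) 2 (by rw [hc])
      rw [← Subgroup.orderOf_coe] at hz
      obtain ⟨c, hcc⟩ := isConj_iff.1 (Q.invol_isConj hz)
      have : (z : G) = A ^ (2 ^ k : ℕ) := by
        rw [← hcc, Subgroup.mem_center_iff.1 z.2 c, mul_inv_cancel_right]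
      exact this ▸ z.2
  obtain ⟨c, hc⟩ := isConj_iff.1 (Q.invol_isConj ht).symm
  rw [Subgroup.mem_center_iff.1 hcent c, mul_inv_cancel_right] at hc
  exact hc ▸ hcent

end CfsgLib.Base.BS
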