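import Cfsg.Agent.Solv.PGroups

/-!
An automorphism of order prime to `p` of a `p`-group fixing every element of order `p` (and of order 4
when `p = 2`) is trivial.
-/

set_option autoImplicit false
set_option linter.style.haveILetI false
set_option linter.deprecated false

open scoped commutatorElement

namespace CfsgLib.Base.SmallFix

variable {G : Type*} [Group G] {p : ℕ}

/-- An automorphism `a` of order prime to `p` is trivial if it fixes the small elements of every subgroup `H` in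
which the shifts `x⁻¹ (a x)` of small elements are small. -/
theorem aut_eq_one_of_fix_small_critical [Finite G] [hp : Fact p.Prime] (hG : IsPGroup p G)
    {a : MulAut G} (ha : Nat.Coprime (orderOf a) p)
    (h : ∀ H : Subgroup G,
      (∀ x ∈ H, (x ^ p = 1 ∨ (p = 2 ∧ x ^ 4 = 1)) →
        x⁻¹ * a x ∈ H ∧ ((x⁻¹ * a x) ^ p = 1 ∨ (p = 2 ∧ (x⁻¹ * a x) ^ 4 = 1))) →
      ∀ x ∈ H, (x ^ p = 1 ∨ (p = 2 ∧ x ^ 4 = 1)) → a x = x) : a = 1 := by
  obtain ⟨H, hHc, h1, h2, h3⟩ := CfsgLib.Solv.exists_critical hG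
  haveI := hHc
  have hsmall : ∀ x ∈ H, (x ^ p = 1 ∨ (p = 2 ∧ x ^ 4 = 1)) →
      x⁻¹ * a x ∈ H ∧ ((x⁻¹ * a x) ^ p = 1 ∨ (p = 2 ∧ (x⁻¹ * a x) ^ 4 = 1)) := by
    intro x hx hxs
    have hxH : a x ∈ H := CfsgLib.Solv.map_mem_of_characteristic a hx
    have hc1 : Commute ⁅a x, x⁻¹⁆ x⁻¹ :=
      CfsgLib.Solv.commute_of_critical h2 hxH (inv_mem hx) (inv_mem hx)
    have hc2 : Commute ⁅a x, x⁻¹⁆ (a x) :=
      CfsgLib.Solv.commute_of_critical h2 hxH (inv_mem hx) hxH
    have hd : ⁅a x, x⁻¹⁆ ^ p = 1 := by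
      rw [← CfsgLib.Solv.pow_commutator_right hc1, commutatorElement_eq_one_iff_mul_comm]
      have hz : (x⁻¹ : G) ^ p ∈ Subgroup.centralizer (H : Set G) :=
        h1 ⟨(⟨x⁻¹, inv_mem hx⟩ : H) ^ p,
          CfsgLib.Solv.pow_mem_frattini (hG.to_subgroup H) ⟨x⁻¹, inv_mem hx⟩, rfl⟩
      exact Subgroup.mem_centralizer_iff.1 hz (a x) hxH
    refine ⟨H.mul_mem (inv_mem hx) hxH, ?_⟩
    by_cases hp2 : p = 2
    · right
      have hx4 : x ^ 4 = 1 := by
        rcases hxs with hxs | ⟨-, hxs⟩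
        · rw [show (4 : ℕ) = p * 2 by omega, pow_mul, hxs, one_pow]
        · exact hxs
      refine ⟨hp2, ?_⟩
      rw [CfsgLib.Solv.pow_mul_of_commutator hc1 hc2, show Nat.choose 4 2 = 2 * 3 by rfl, pow_mul,
        ← hp2, hd, one_pow, one_mul, inv_pow, ← map_pow, hx4, map_one, inv_one, mul_one]
    · left
      rw [CfsgLib.Solv.mul_pow_prime hp2 hc1 hc2 hd, inv_pow, ← map_pow]
      rcases hxs with hxs | ⟨e, -⟩
      · rw [hxs, map_one, inv_one, mul_one]
      · exact absurd e hp2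
  refine CfsgLib.Solv.aut_eq_one_of_fix hG h3 ha ?_
  intro x
  obtain ⟨n, hn⟩ : ∃ n, orderOf x = n := ⟨_, rfl⟩
  induction n using Nat.strong_induction_on generalizing x with
  | _ n ih =>
    intro hx
    by_cases hx1 : x = 1
    · rw [hx1, map_one]
    have hpo : p ∣ orderOf x := by
      obtain ⟨k, hk⟩ := (IsPGroup.iff_orderOf.1 hG) x
      rw [hk]
      refine dvd_pow_self p fun h0 => hx1 ?_
      rw [← orderOf_eq_one_iff, hk, h0, pow_zero]
    have hxp : a (x ^ p) = x ^ p := by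
      refine ih _ ?_ (x ^ p) rfl (pow_mem hx p)
      rw [orderOf_pow_of_dvd hp.out.ne_zero hpo, ← hn]
      exact Nat.div_lt_self (orderOf_pos x) hp.out.one_lt
    have hxH : a x ∈ H := CfsgLib.Solv.map_mem_of_characteristic a hx
    have hc1 : Commute ⁅a x, x⁻¹⁆ x⁻¹ :=
      CfsgLib.Solv.commute_of_critical h2 hxH (inv_mem hx) (inv_mem hx)
    have hc2 : Commute ⁅a x, x⁻¹⁆ (a x) :=
      CfsgLib.Solv.commute_of_critical h2 hxH (inv_mem hx) hxH
    have hd : ⁅a x, x⁻¹⁆ ^ p = 1 := by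
      rw [← CfsgLib.Solv.pow_commutator_right hc1, commutatorElement_eq_one_iff_mul_comm]
      have hz : (x⁻¹ : G) ^ p ∈ Subgroup.centralizer (H : Set G) :=
        h1 ⟨(⟨x⁻¹, inv_mem hx⟩ : H) ^ p,
          CfsgLib.Solv.pow_mem_frattini (hG.to_subgroup H) ⟨x⁻¹, inv_mem hx⟩, rfl⟩
      exact Subgroup.mem_centralizer_iff.1 hz (a x) hxH
    have hz : (x⁻¹ * a x) ^ p = 1 ∨ (p = 2 ∧ (x⁻¹ * a x) ^ 4 = 1) := by
      by_cases hp2 : p = 2
      · right
        refine ⟨hp2, ?_⟩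
        rw [CfsgLib.Solv.pow_mul_of_commutator hc1 hc2, show Nat.choose 4 2 = 2 * 3 by rfl, pow_mul,
          ← hp2, hd, one_pow, one_mul, show (4 : ℕ) = p * 2 by omega, pow_mul, pow_mul, ← map_pow, hxp,
          inv_pow, inv_pow, inv_mul_cancel]
      · left
        rw [CfsgLib.Solv.mul_pow_prime hp2 hc1 hc2 hd, ← map_pow, hxp, inv_pow, inv_mul_cancel]
    have := CfsgLib.Solv.eq_one_of_fixed_shift hG ha (x := x) (z := x⁻¹ * a x) (by group)
      (h H hsmall _ (H.mul_mem (inv_mem hx) hxH) hz)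
    exact (inv_mul_eq_one.1 this).symm

/-- An automorphism of order prime to `p` fixing the elements `x` with `x ^ p = 1`, and those with
`x ^ 4 = 1` if `p = 2`, is trivial. -/
theorem aut_eq_one_of_fix_small [Finite G] [hp : Fact p.Prime] (hG : IsPGroup p G)
    {a : MulAut G} (ha : Nat.Coprime (orderOf a) p)
    (h : ∀ x : G, (x ^ p = 1 ∨ (p = 2 ∧ x ^ 4 = 1)) → a x = x) : a = 1 :=
  aut_eq_one_of_fix_small_critical hG ha fun _ _ x _ hx => h x hx

/-- An element of order prime to `p` normalizing a `p`-subgroup `Q` and centralizing its small elements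
centralizes it. -/
theorem mem_centralizer_of_fix_small [Finite G] [hp : Fact p.Prime] {Q : Subgroup G} (hQ : IsPGroup p ↥Q)
    {g : G} (hg : g ∈ Subgroup.normalizer (Q : Set G)) (hgc : Nat.Coprime (orderOf g) p)
    (h : ∀ x ∈ Q, (x ^ p = 1 ∨ (p = 2 ∧ x ^ 4 = 1)) → g * x * g⁻¹ = x) :
    g ∈ Subgroup.centralizer (Q : Set G) := by
  set a : MulAut ↥Q := Subgroup.normalizerMonoidHom Q ⟨g, hg⟩ with ha'
  have ha : Nat.Coprime (orderOf a) p := by
    refine Nat.Coprime.of_dvd_left ?_ hgc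
    have := orderOf_map_dvd (Subgroup.normalizerMonoidHom Q) ⟨g, hg⟩
    rwa [Subgroup.orderOf_mk] at this
  have h1 := aut_eq_one_of_fix_small hQ ha fun x hx => Subtype.ext (h x.1 x.2 (by
    rcases hx with hx | ⟨e, hx⟩
    · left; simpa using congrArg Subtype.val hx
    · right; exact ⟨e, by simpa using congrArg Subtype.val hx⟩))
  rw [Subgroup.mem_centralizer_iff]
  intro x hx
  have h2 : g * x * g⁻¹ = x := congrArg Subtype.val (DFunLike.congr_fun h1 (⟨x, hx⟩ : ↥Q))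
  exact (mul_inv_eq_iff_eq_mul.mp h2).symm

end CfsgLib.Base.SmallFix
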