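import Mathlib
import Cfsg.Agent.Solv.FittingBasic

/-!
Trivial intersection families of subgroups of a 2-group with nontrivial Frattini subgroup:
distinct members commute.
-/

set_option autoImplicit false
set_option linter.style.haveILetI false

namespace CfsgLib.Base.TIFamily

open scoped commutatorElement

variable {S : Type*} [Group S]

/-- Conjugate subgroup. -/
def cj (s : S) (X : Subgroup S) : Subgroup S := X.map (MulAut.conj s).toMonoidHom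

theorem mem_cj {s x : S} {X : Subgroup S} : x ∈ cj s X ↔ s⁻¹ * x * s ∈ X := by
  constructor
  · rintro ⟨y, hy, rfl⟩
    simpa [mul_assoc] using hy
  · intro h
    exact ⟨_, h, by simp [mul_assoc]⟩

theorem conj_mem_cj {s x : S} {X : Subgroup S} (hx : x ∈ X) : s * x * s⁻¹ ∈ cj s X :=
  ⟨x, hx, rfl⟩

theorem norm_of_subset [Finite S] {T : Subgroup S} {e : S} (h : ∀ u ∈ T, e * u * e⁻¹ ∈ T) :
    e ∈ Subgroup.normalizer (T : Set S) := by
  have heq : cj e T = T := Subgroup.eq_of_le_of_card_ge (by rintro _ ⟨u, hu, rfl⟩; exact h u hu)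
    (le_of_eq (Nat.card_congr (T.equivMapOfInjective _ (MulAut.conj e).injective).toEquiv))
  rw [Subgroup.mem_normalizer_iff]
  refine fun u => ⟨h u, fun hu => ?_⟩
  rw [← heq] at hu
  obtain ⟨v, hv, hveq⟩ := hu
  have : v = u := (MulAut.conj e).injective hveq
  exact this ▸ hv

theorem conj_of_norm {T : Subgroup S} {e u : S} (he : e ∈ Subgroup.normalizer (T : Set S)) (hu : u ∈ T) :
    e * u * e⁻¹ ∈ T :=
  (Subgroup.mem_normalizer_iff.mp he u).mp hu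

theorem conj_of_norm' {T : Subgroup S} {e u : S} (he : e ∈ Subgroup.normalizer (T : Set S)) (hu : u ∈ T) :
    e⁻¹ * u * e ∈ T := by
  simpa using conj_of_norm (inv_mem he) hu

/-- Conjugates are equal, or commute and meet trivially. -/
def Good (T : Subgroup S) (r : S) : Prop :=
  cj r T = T ∨ (T ⊓ cj r T = ⊥ ∧ ∀ u ∈ T, ∀ w ∈ cj r T, u * w = w * u)

/-- The case where one of the two members normalizes the other. -/
theorem commute_normal [Finite S] {R T : Subgroup S} (hRT : R ⊓ T = ⊥) (hcard : Nat.card R = Nat.card T)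
    (hn : ∀ t ∈ T, ∀ r ∈ R, t * r * t⁻¹ ∈ R) (hTc : ∀ r ∈ R, Good T r) :
    ∀ r ∈ R, ∀ t ∈ T, r * t = t * r := by
  have hbot : ∀ x, x ∈ R → x ∈ T → x = 1 := fun x hR hT => by
    have : x ∈ R ⊓ T := ⟨hR, hT⟩
    rwa [hRT, Subgroup.mem_bot] at this
  by_cases hall : ∀ r ∈ R, cj r T = T
  · intro r hr t ht
    have h1 : r * t * r⁻¹ * t⁻¹ = 1 := hbot _
      (by
        have := R.mul_mem hr (hn t ht _ (R.inv_mem hr))
        simpa [mul_assoc] using this)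
      (T.mul_mem (by
        have := conj_mem_cj (s := r) ht
        rwa [hall r hr] at this) (T.inv_mem ht))
    exact commutatorElement_eq_one_iff_mul_comm.mp h1
  push_neg at hall
  obtain ⟨r0, hr0, hne⟩ := hall
  obtain ⟨hdis, hcom⟩ := (hTc r0 hr0).resolve_left hne
  let g : T → R := fun t => ⟨(t : S)⁻¹ * (r0 * t * r0⁻¹), by
    have := R.mul_mem (hn _ (T.inv_mem t.2) r0 hr0) (R.inv_mem hr0)
    simpa [mul_assoc] using this⟩
  have hinj : Function.Injective g := by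
    intro t t' h
    have h' : (t : S)⁻¹ * (r0 * t * r0⁻¹) = (t' : S)⁻¹ * (r0 * t' * r0⁻¹) := congrArg Subtype.val h
    have h2 : (t' : S) * (t : S)⁻¹ = r0 * ((t' : S) * (t : S)⁻¹) * r0⁻¹ := by
      calc (t' : S) * (t : S)⁻¹
          = t' * ((t : S)⁻¹ * (r0 * t * r0⁻¹)) * (r0 * (t : S)⁻¹ * r0⁻¹) := by group
        _ = t' * ((t' : S)⁻¹ * (r0 * t' * r0⁻¹)) * (r0 * (t : S)⁻¹ * r0⁻¹) := by rw [h']
        _ = _ := by group
    have hm : (t' : S) * (t : S)⁻¹ ∈ T := T.mul_mem t'.2 (T.inv_mem t.2)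
    have h3 : (t' : S) * (t : S)⁻¹ ∈ T ⊓ cj r0 T := ⟨hm, h2 ▸ conj_mem_cj hm⟩
    rw [hdis, Subgroup.mem_bot, mul_inv_eq_one] at h3
    exact Subtype.ext h3.symm
  have hsurj : Function.Surjective g := (hinj.bijective_of_nat_card_le (le_of_eq hcard)).2
  have hfix : ∀ t' ∈ T, ∀ r ∈ R, t' * r * t'⁻¹ = r := by
    intro t' ht' r hr
    obtain ⟨t, ht⟩ := hsurj ⟨r, hr⟩
    have htr : (t : S)⁻¹ * (r0 * t * r0⁻¹) = r := congrArg Subtype.val ht
    have hb : t' * (r0 * t * r0⁻¹) * t'⁻¹ = r0 * t * r0⁻¹ := by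
      rw [hcom t' ht' _ (conj_mem_cj t.2), mul_inv_cancel_right]
    have h1 : t' * r * t'⁻¹ = t' * (t : S)⁻¹ * t'⁻¹ * (r0 * t * r0⁻¹) := by
      rw [← htr]
      calc t' * ((t : S)⁻¹ * (r0 * t * r0⁻¹)) * t'⁻¹
          = t' * (t : S)⁻¹ * t'⁻¹ * (t' * (r0 * t * r0⁻¹) * t'⁻¹) := by group
        _ = _ := by rw [hb]
    have h2 : t' * r * t'⁻¹ * r⁻¹ = t' * (t : S)⁻¹ * t'⁻¹ * t := by
      rw [h1, ← htr]; group
    have h3 : t' * r * t'⁻¹ * r⁻¹ = 1 := hbot _ (R.mul_mem (hn t' ht' r hr) (R.inv_mem hr))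
      (h2 ▸ T.mul_mem (T.mul_mem (T.mul_mem ht' (T.inv_mem t.2)) (T.inv_mem ht')) t.2)
    exact mul_inv_eq_one.mp h3
  intro r hr t ht
  exact (mul_inv_eq_iff_eq_mul.mp (hfix t ht r hr)).symm

/-- The case where neither member normalizes the other. -/
theorem moved [Finite S] (hS : IsPGroup 2 S) {R T : Subgroup S} (hRc : ∀ t ∈ T, Good R t)
    (hTc : ∀ r ∈ R, Good T r) (hTg : ∀ r ∈ R, ∀ t ∈ T, t * r * t⁻¹ ∈ cj t R)
    {t0 : S} (ht0 : t0 ∈ T) (hR0 : cj t0 R ≠ R) {r0 : S} (hr0 : r0 ∈ R) (hT0 : cj r0 T ≠ T) :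
    (∀ r ∈ R, ∀ r' ∈ R, r * r' = r' * r) ∧ ∀ r ∈ R, r ≠ 1 → cj r T ≠ T := by
  obtain ⟨hRd, hRcm⟩ := (hRc t0 ht0).resolve_left hR0
  obtain ⟨hTd, hTcm⟩ := (hTc r0 hr0).resolve_left hT0
  have hnorm : ∀ r ∈ R, ∀ t ∈ T, r⁻¹ * (t * r * t⁻¹) ∈ Subgroup.normalizer (T : Set S) := by
    intro r hr t ht
    refine norm_of_subset fun u hu => ?_
    have hw : r * (t⁻¹ * u * t) * r⁻¹ ∈ cj r T := conj_mem_cj (T.mul_mem (T.mul_mem (T.inv_mem ht) hu) ht)
    have hw' : t * (r * (t⁻¹ * u * t) * r⁻¹) * t⁻¹ ∈ cj r T := by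
      rcases hTc r hr with h | ⟨-, h⟩
      · rw [h] at hw ⊢
        exact T.mul_mem (T.mul_mem ht hw) (T.inv_mem ht)
      · rw [h t ht _ hw, mul_inv_cancel_right]
        exact hw
    have := mem_cj.mp hw'
    simpa [mul_assoc] using this
  have hcen : ∀ c ∈ R, c ∈ Subgroup.normalizer (T : Set S) → (∀ r ∈ R, c * r = r * c) → c = 1 := by
    intro c hc hcN hcC
    have hy : c⁻¹ * (t0 * c * t0⁻¹) ∈ T := by
      have := T.mul_mem (conj_of_norm' hcN ht0) (T.inv_mem ht0)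
      simpa [mul_assoc] using this
    have hb : r0 * (t0 * c * t0⁻¹) = t0 * c * t0⁻¹ * r0 := hRcm r0 hr0 _ (hTg c hc t0 ht0)
    have hc' : r0 * c⁻¹ = c⁻¹ * r0 := ((show Commute c r0 from hcC r0 hr0).inv_left.symm).eq
    have hy' : r0 * (c⁻¹ * (t0 * c * t0⁻¹)) * r0⁻¹ = c⁻¹ * (t0 * c * t0⁻¹) := by
      rw [← mul_assoc r0, hc', mul_assoc c⁻¹ r0, hb]; group
    have h1 : c⁻¹ * (t0 * c * t0⁻¹) ∈ T ⊓ cj r0 T := ⟨hy, hy' ▸ conj_mem_cj hy⟩
    rw [hTd, Subgroup.mem_bot, inv_mul_eq_one] at h1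
    have h2 : c ∈ R ⊓ cj t0 R := ⟨hc, h1 ▸ hTg c hc t0 ht0⟩
    rwa [hRd, Subgroup.mem_bot] at h2
  have hcomm : commutator ↥R ≤ (Subgroup.normalizer (T : Set S)).subgroupOf R := by
    rw [commutator_def, Subgroup.commutator_le]
    intro a _ b _
    rw [Subgroup.mem_subgroupOf]
    -- products of two of the elements normalizing `T`
    have key : ∀ r1 ∈ R, ∀ r2 ∈ R, r2⁻¹ * r1⁻¹ * r2 * r1 ∈ Subgroup.normalizer (T : Set S) := by
      intro r1 h1 r2 h2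
      have hc : ∀ r ∈ R, r⁻¹ * (t0 * r1 * t0⁻¹) = t0 * r1 * t0⁻¹ * r⁻¹ := fun r hr =>
        hRcm r⁻¹ (R.inv_mem hr) _ (hTg r1 h1 t0 ht0)
      have e := mul_mem (hnorm (r1 * r2) (R.mul_mem h1 h2) t0 ht0)
        (inv_mem (mul_mem (hnorm r1 h1 t0 ht0) (hnorm r2 h2 t0 ht0)))
      have he : (r1 * r2)⁻¹ * (t0 * (r1 * r2) * t0⁻¹) * (r1⁻¹ * (t0 * r1 * t0⁻¹) * (r2⁻¹ * (t0 * r2 * t0⁻¹)))⁻¹
          = r2⁻¹ * r1⁻¹ * r2 * r1 := by
        have h3 : r1⁻¹ * (t0 * r1 * t0⁻¹) * (r2⁻¹ * (t0 * r2 * t0⁻¹))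
            = r1⁻¹ * r2⁻¹ * (t0 * r1 * t0⁻¹) * (t0 * r2 * t0⁻¹) := by
          calc r1⁻¹ * (t0 * r1 * t0⁻¹) * (r2⁻¹ * (t0 * r2 * t0⁻¹))
              = r1⁻¹ * ((t0 * r1 * t0⁻¹) * r2⁻¹) * (t0 * r2 * t0⁻¹) := by group
            _ = r1⁻¹ * (r2⁻¹ * (t0 * r1 * t0⁻¹)) * (t0 * r2 * t0⁻¹) := by rw [hc r2 h2]
            _ = _ := by group
        rw [h3]; group
      exact he ▸ e
    have := key (b : S)⁻¹ (R.inv_mem b.2) (a : S)⁻¹ (R.inv_mem a.2)
    simp only [inv_inv] at this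
    simpa [commutatorElement_def] using this
  have hab : ∀ r ∈ R, ∀ r' ∈ R, r * r' = r' * r := by
    by_cases hbot : commutator ↥R = ⊥
    · intro r hr r' hr'
      have h : ⁅(⟨r, hr⟩ : R), (⟨r', hr'⟩ : R)⁆ ∈ commutator ↥R :=
        Subgroup.commutator_mem_commutator (Subgroup.mem_top _) (Subgroup.mem_top _)
      rw [hbot, Subgroup.mem_bot, commutatorElement_eq_one_iff_mul_comm] at h
      exact congrArg Subtype.val h
    · exfalso
      haveI : Nontrivial ↥(commutator ↥R) := (Subgroup.nontrivial_iff_ne_bot _).mpr hbot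
      haveI : Fact (Nat.Prime 2) := ⟨Nat.prime_two⟩
      have hRp : IsPGroup 2 ↥R := hS.to_subgroup R
      have hfin : Finite ↥(commutator ↥R) := inferInstance
      obtain ⟨m, hm, hmcard⟩ := ((hRp.to_subgroup (commutator ↥R)).nontrivial_iff_card).mp inferInstance
      let A := ConjAct ↥R
      have hA : IsPGroup 2 A := hRp
      have h1 : (1 : ↥(commutator ↥R)) ∈ MulAction.fixedPoints A ↥(commutator ↥R) := fun g => smul_one g
      have hdvd : 2 ∣ Nat.card ↥(commutator ↥R) := hmcard ▸ dvd_pow_self 2 hm.ne'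
      obtain ⟨c, hc, hc1⟩ := hA.exists_fixed_point_of_prime_dvd_card_of_fixed_point _ hdvd h1
      apply hc1
      have hcR : ∀ r ∈ R, (((c : R) : S)) * r = r * ((c : R) : S) := fun r hr => by
        have h := congrArg (fun y : ↥(commutator ↥R) => ((y : R) : S)) (hc (ConjAct.toConjAct (⟨r, hr⟩ : R)))
        change r * ((c : R) : S) * r⁻¹ = ((c : R) : S) at h
        exact (mul_inv_eq_iff_eq_mul.mp h).symm
      have h0 := hcen _ (c : R).2 (Subgroup.mem_subgroupOf.mp (hcomm c.2)) hcR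
      exact (Subtype.ext (Subtype.ext h0)).symm
  refine ⟨hab, fun r hr hr1 h => hr1 (hcen r hr (norm_of_subset fun u hu => ?_) fun r' hr' => hab r hr r' hr')⟩
  have := conj_mem_cj (s := r) hu
  rwa [h] at this

theorem exists_order_four [Finite S] (hS : IsPGroup 2 S) {R : Subgroup S} {r : S} (hr : r ∈ R)
    (hr2 : r * r ≠ 1) : ∃ a ∈ R, a * a ≠ 1 ∧ a * a * (a * a) = 1 := by
  haveI : Fact (Nat.Prime 2) := ⟨Nat.prime_two⟩
  obtain ⟨k, hk⟩ := IsPGroup.iff_orderOf.mp hS r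
  have hk2 : 2 ≤ k := by
    by_contra hlt
    apply hr2
    rw [← sq]
    exact orderOf_dvd_iff_pow_eq_one.mp (hk ▸ by
      interval_cases k <;> norm_num)
  refine ⟨r ^ 2 ^ (k - 2), R.pow_mem hr _, ?_, ?_⟩
  · rw [← pow_add]
    intro h
    have h1 := Nat.le_of_dvd (by positivity) (orderOf_dvd_of_pow_eq_one h)
    rw [hk, ← two_mul, ← pow_succ'] at h1
    have := Nat.pow_le_pow_iff_right (a := 2) (by norm_num) |>.mp h1
    omega
  · rw [← pow_add, ← pow_add]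
    refine orderOf_dvd_iff_pow_eq_one.mp (dvd_of_eq ?_)
    rw [hk]
    obtain ⟨j, rfl⟩ : ∃ j, k = j + 2 := ⟨k - 2, by omega⟩
    rw [show j + 2 - 2 = j by omega, pow_add]; ring

/-- Distinct members of an invariant family of TI subgroups of equal order commute, unless they are elementary abelian. -/
theorem commute_of_ti [Finite S] (hS : IsPGroup 2 S) (Δ : Set (Subgroup S))
    (hinv : ∀ s : S, ∀ R ∈ Δ, cj s R ∈ Δ)
    (hne : ∀ R ∈ Δ, (∀ r ∈ R, ∀ r' ∈ R, r * r' = r' * r) → ∃ r ∈ R, r * r ≠ 1)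
    (hord : ∀ R ∈ Δ, ∀ T ∈ Δ, Nat.card R = Nat.card T)
    (hti : ∀ R ∈ Δ, ∀ T ∈ Δ, R = T ∨ R ⊓ T = ⊥) :
    ∀ R ∈ Δ, ∀ T ∈ Δ, R ≠ T → ∀ r ∈ R, ∀ t ∈ T, r * t = t * r := by
  suffices h : ∀ n, ∀ R T : Subgroup S, R ∈ Δ → T ∈ Δ → R ≠ T → Nat.card ↥(R ⊔ T) = n →
      ∀ r ∈ R, ∀ t ∈ T, r * t = t * r from fun R hR T hT hRT => h _ R T hR hT hRT rfl
  intro n
  induction n using Nat.strong_induction_on with
  | _ n ih =>
  intro R T hR hT hRT hn
  set K := R ⊔ T with hK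
  haveI : Fact (Nat.Prime 2) := ⟨Nat.prime_two⟩
  have hproper : ∀ A B : Subgroup S, A ∈ Δ → B ∈ Δ → A ≠ B → A ⊔ B = K → A ≠ K := by
    intro A B hA hB hAB hsup hAK
    have hle : B ≤ A := by rw [hAK, ← hsup]; exact le_sup_right
    have hB1 : B = ⊥ := by
      rw [← inf_eq_right.mpr hle]
      exact (hti A hA B hB).resolve_left hAB
    obtain ⟨b, hb, hbb⟩ := hne B hB (fun r hr r' hr' => by
      rw [hB1, Subgroup.mem_bot] at hr hr'; rw [hr, hr'])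
    rw [hB1, Subgroup.mem_bot] at hb
    exact hbb (by rw [hb, mul_one])
  have hsub : ∀ X ∈ Δ, X ≤ K → X ≠ K → ∀ s ∈ K, Good X s := by
    intro X hX hXK hne' s hs
    by_cases hsX : cj s X = X
    · exact Or.inl hsX
    refine Or.inr ⟨(hti X hX _ (hinv s X hX)).resolve_left (fun e => hsX e.symm), ?_⟩
    obtain hbad | ⟨M, hM, hXM⟩ := eq_top_or_exists_le_coatom (X.subgroupOf K)
    · exact absurd (le_antisymm hXK (Subgroup.subgroupOf_eq_top.mp hbad)) hne'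
    haveI : Group.IsNilpotent ↥K := (hS.to_subgroup K).isNilpotent
    haveI hMn : M.Normal :=
      Subgroup.NormalizerCondition.normal_of_coatom M Group.normalizerCondition_of_isNilpotent hM
    have hle : X ⊔ cj s X ≤ M.map K.subtype := by
      refine sup_le (fun x hx => ⟨⟨x, hXK hx⟩, hXM (Subgroup.mem_subgroupOf.mpr hx), rfl⟩) ?_
      rintro _ ⟨x, hx, rfl⟩
      exact ⟨⟨s, hs⟩ * ⟨x, hXK hx⟩ * ⟨s, hs⟩⁻¹, hMn.conj_mem _ (hXM (Subgroup.mem_subgroupOf.mpr hx)) _, rfl⟩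
    have hlt : Nat.card ↥(X ⊔ cj s X) < n := by
      refine lt_of_le_of_lt (Subgroup.card_le_of_le hle) ?_
      rw [Subgroup.card_map_of_injective K.subtype_injective, ← hn]
      refine lt_of_le_of_ne (Subgroup.card_le_card_group M) fun e => hM.1 ?_
      exact Subgroup.eq_top_of_card_eq M e
    exact ih _ hlt X (cj s X) hX (hinv s X hX) (fun e => hsX e.symm) rfl
  have hRc : ∀ t ∈ T, Good R t := fun t ht =>
    hsub R hR le_sup_left (hproper R T hR hT hRT rfl) t (le_sup_right (a := R) ht)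
  have hTc : ∀ r ∈ R, Good T r := fun r hr =>
    hsub T hT le_sup_right (hproper T R hT hR hRT.symm (sup_comm T R)) r (le_sup_left (b := T) hr)
  have hinf := (hti R hR T hT).resolve_left hRT
  by_cases hA : ∀ t ∈ T, cj t R = R
  · exact commute_normal hinf (hord R hR T hT) (fun t ht r hr => by
      have := conj_mem_cj (s := t) hr
      rwa [hA t ht] at this) hTc
  by_cases hB : ∀ r ∈ R, cj r T = T
  · intro r hr t ht
    exact (commute_normal (by rwa [inf_comm]) (hord T hT R hR) (fun r hr t ht => by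
      have := conj_mem_cj (s := r) ht
      rwa [hB r hr] at this) hRc t ht r hr).symm
  push_neg at hA hB
  obtain ⟨t0, ht0, hR0⟩ := hA
  obtain ⟨r0, hr0, hT0⟩ := hB
  obtain ⟨hRab, hRm⟩ := moved hS hRc hTc (fun r hr t _ => conj_mem_cj hr) ht0 hR0 hr0 hT0
  obtain ⟨hTab, hTm⟩ := moved hS hTc hRc (fun t ht r _ => conj_mem_cj ht) hr0 hT0 ht0 hR0
  obtain ⟨r1, hr1, hr12⟩ := hne R hR hRab
  obtain ⟨t1, ht1, ht12⟩ := hne T hT hTab
  obtain ⟨r, hr, hr2, hr4⟩ := exists_order_four hS hr1 hr12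
  exfalso
  have ht1' : t1 ≠ 1 := fun e => ht12 (by rw [e, mul_one])
  have hr' : r ≠ 1 := fun e => hr2 (by rw [e, mul_one])
  set b := t1 * r * t1⁻¹ with hb
  set x := r⁻¹ * b with hx
  have hbR : ∀ u ∈ R, u * b = b * u :=
    fun u hu => ((hRc t1 ht1).resolve_left (hTm t1 ht1 ht1')).2 u hu b (conj_mem_cj hr)
  have hxr : r * x = x * r := by
    rw [hx, mul_assoc r⁻¹ b r, ← hbR r hr]; group
  have hxt : t1 * x = x * t1 := by
    have h1 : r⁻¹ * t1 * r ∈ cj r⁻¹ T := by simpa using conj_mem_cj (s := r⁻¹) ht1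
    have h2 := ((hTc r⁻¹ (R.inv_mem hr)).resolve_left (hRm r⁻¹ (R.inv_mem hr) (inv_ne_one.mpr hr'))).2 t1 ht1 _ h1
    calc t1 * x = t1 * (r⁻¹ * t1 * r) * t1⁻¹ := by rw [hx, hb]; group
      _ = r⁻¹ * t1 * r * t1 * t1⁻¹ := by rw [h2]
      _ = x * t1 := by rw [hx, hb]; group
  have hrb : t1 * r * t1⁻¹ = r * x := by rw [hx, hb]; group
  have hpow : ∀ i : ℕ, t1 * r ^ i * t1⁻¹ = r ^ i * x ^ i := fun i => by
    rw [← (show Commute r x from hxr).mul_pow, ← hrb, conj_pow]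
  have hx4 : x ^ 4 = 1 := by
    have h := hpow 4
    have hr4' : r ^ 4 = 1 := by rw [show (4 : ℕ) = 2 + 2 from rfl, pow_add, sq, hr4]
    simpa [hr4'] using h.symm
  have hx2 : t1 * x ^ 2 * t1⁻¹ = x ^ 2 := by
    rw [((show Commute t1 x from hxt).pow_right 2).eq, mul_inv_cancel_right]
  have h22 : t1 * t1 * (r ^ 2) * (t1 * t1)⁻¹ = r ^ 2 := by
    calc t1 * t1 * (r ^ 2) * (t1 * t1)⁻¹ = t1 * (t1 * r ^ 2 * t1⁻¹) * t1⁻¹ := by group
      _ = t1 * (r ^ 2 * x ^ 2) * t1⁻¹ := by rw [hpow 2]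
      _ = t1 * r ^ 2 * t1⁻¹ * (t1 * x ^ 2 * t1⁻¹) := by group
      _ = r ^ 2 * x ^ 4 := by rw [hpow 2, hx2, mul_assoc, ← pow_add]
      _ = r ^ 2 := by rw [hx4, mul_one]
  have hT2 : t1 * t1 ∈ T := T.mul_mem ht1 ht1
  have hmv := (hRc _ hT2).resolve_left (hTm _ hT2 ht12)
  have hmem : r ^ 2 ∈ R ⊓ cj (t1 * t1) R := ⟨R.pow_mem hr 2, h22 ▸ conj_mem_cj (R.pow_mem hr 2)⟩
  rw [hmv.1, Subgroup.mem_bot, sq] at hmem
  exact hr2 hmem

theorem commute_of_ti_frattini [Finite S] (hS : IsPGroup 2 S) (Δ : Set (Subgroup S))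
    (hinv : ∀ s : S, ∀ R ∈ Δ, cj s R ∈ Δ) (hΦ : ∀ R ∈ Δ, frattini ↥R ≠ ⊥)
    (hord : ∀ R ∈ Δ, ∀ T ∈ Δ, Nat.card R = Nat.card T)
    (hti : ∀ R ∈ Δ, ∀ T ∈ Δ, R = T ∨ R ⊓ T = ⊥) :
    ∀ R ∈ Δ, ∀ T ∈ Δ, R ≠ T → ∀ r ∈ R, ∀ t ∈ T, r * t = t * r := by
  haveI : Fact (Nat.Prime 2) := ⟨Nat.prime_two⟩
  refine commute_of_ti hS Δ hinv (fun R hR hab => ?_) hord hti
  by_contra h
  push_neg at h
  refine hΦ R hR (le_bot_iff.mp (CfsgLib.Solv.frattini_le_of_elementary (p := 2) ⊥ ?_ fun x => ?_))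
  · rw [commutator_def, Subgroup.commutator_le]
    intro a _ b _
    rw [Subgroup.mem_bot, commutatorElement_eq_one_iff_mul_comm]
    exact Subtype.ext (hab a a.2 b b.2)
  · rw [Subgroup.mem_bot, sq]
    exact Subtype.ext (h x x.2)

end CfsgLib.Base.TIFamily
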